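import Mathlib

/-! Sections of the Monster: covers and local configurations, stated in an arbitrary group. -/

set_option autoImplicit false

namespace Cfsg.Agent.Gr.Pa

open Subgroup

section

variable {A X G : Type*} [Group A] [Group X] [Group G]

/-- No proper subgroup maps onto `X`. -/
structure Cov (π : A →* X) : Prop where
  surj : Function.Surjective π
  min : ∀ H : Subgroup A, H.map π = ⊤ → H = ⊤

/-- A central extension whose kernel has order one or three. -/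
structure C3 (π : A →* X) : Prop where
  surj : Function.Surjective π
  cen : π.ker ≤ center A
  card : Nat.card π.ker ∣ 3

/-- An irreducible action. -/
def Irr {V : Type*} [Group V] (ρ : X →* MulAut V) : Prop :=
  ∀ W : Subgroup V, (∀ g, ∀ v ∈ W, ρ g v ∈ W) → W = ⊥ ∨ W = ⊤

/-- The product has order greater than six. -/
def Far (a b : G) : Prop := ∀ n, 1 ≤ n → n ≤ 6 → (a * b) ^ n ≠ 1

/-- Equality up to the factor `z`. -/
def Ez (z a b : G) : Prop := a = b ∨ a = z * b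

/-- `h` centralises `z` and permutes the `σ i` up to `z`. -/
def Act (z : G) (σ : Fin 5 → G) (h : G) (p : Fin 5 → Fin 5) : Prop :=
  Commute z h ∧ ∀ i, Ez z (h * σ i * h⁻¹) (σ (p i))

/-- The two-local configuration in the third Janko group. -/
structure JC (z : G) (σ : Fin 5 → G) (f1 f2 g k v v' : G) : Prop where
  z2 : z * z = 1
  far : Far z (k * z * k⁻¹)
  s2 : ∀ i, σ i * σ i = 1
  zs : ∀ i, Commute z (σ i)
  anti : ∀ i j, i ≠ j → σ i * σ j * σ i = z * σ j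
  prod : σ 0 * σ 1 * σ 2 * σ 3 * σ 4 = 1 ∨ σ 0 * σ 1 * σ 2 * σ 3 * σ 4 = z
  a1 : Act z σ f1 ![1, 4, 0, 2, 3]
  a2 : Act z σ f2 ![2, 0, 4, 1, 3]
  o1 : f1 ^ 5 = 1
  o2 : f2 ^ 5 = 1
  ox : (f1 * f2) ^ 9 = 1
  gz : g * z * g⁻¹ = σ 0
  b1 : Act z σ (g * (σ 1 * σ 2) * g⁻¹) ![0, 2, 1, 4, 3]
  b2 : Act z σ (g * (σ 1 * σ 3) * g⁻¹) ![0, 3, 4, 1, 2]
  v2 : v * v = 1
  v2' : v' * v' = 1
  vv : Commute v v'
  vz : Commute z v
  vz' : Commute z v'
  vs : Commute (σ 0) v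
  vs' : Commute (σ 0) v'
  sq : ∀ a ∈ [v, v', v * v'], ∀ b ∈ [v, v', v * v'], (a * (σ 1 * b * σ 1)) ^ 2 ∈ [z, σ 0, z * σ 0]

/-- The three-local configuration in the third Janko group. -/
structure SC (a x z1 z2 p1 p2 t : G) : Prop where
  a2 : a * a = 1
  gen : closure {a, x} = ⊤
  s19 : (a * x) ^ 19 = 1
  x3 : x ^ 3 = 1
  z13 : z1 ^ 3 = 1
  zz : Commute z1 z2
  xz1 : Commute x z1
  xz2 : Commute x z2
  p11 : Commute p1 z1
  p12 : Commute p1 z2
  p21 : Commute p2 z1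
  p22 : Commute p2 z2
  p1x : p1 * x * p1⁻¹ = x * z1
  p2x : p2 * x * p2⁻¹ = x * z2
  c2 : IsConj z1 z2
  c3 : IsConj z1 (z1 * z2)
  c4 : IsConj z1 (z1 * z2 * z2)
  ct : IsConj z1 t
  ts : t * (a * x) * t⁻¹ = (a * x) ^ 7

/-- `g` is conjugate in the centraliser of `z` to an element that raises `y` to the power two or four. -/
def Nz (z y g : G) : Prop := ∃ h, Commute z h ∧
  (h * g * h⁻¹ * y * (h * g * h⁻¹)⁻¹ = y ^ 2 ∨ h * g * h⁻¹ * y * (h * g * h⁻¹)⁻¹ = y ^ 4)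

/-- The configuration in the O'Nan group. -/
structure OC (z k y p1 p2 r1 r2 e : G) : Prop where
  z2 : z * z = 1
  far : Far z (k * z * k⁻¹)
  y7 : y ^ 7 = 1
  y1 : y ≠ 1
  zy : Commute z y
  p1y : Commute p1 y
  p2y : Commute p2 y
  pp : p1 * p2 * p1⁻¹ * p2⁻¹ = y
  r13 : r1 ^ 3 = 1
  r23 : r2 ^ 3 = 1
  rr : Commute r1 r2
  zr1 : Commute z r1
  zr2 : Commute z r2
  nz : ∀ g ∈ [r1, r2, r1 * r2, r1 * r2 * r2], Nz z y g
  ze : Commute z e
  ce : IsConj z e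
  cze : IsConj z (z * e)

/-- The configuration in the Rudvalis group. -/
structure RC (w k w' g : G) : Prop where
  w2 : w * w = 1
  far : Far w (k * w * k⁻¹)
  cw : IsConj w w'
  ne : w' ≠ w
  ww : Commute w w'
  g13 : g ^ 13 = 1
  g1 : g ≠ 1
  gw : Commute g w
  gw' : Commute g w'

end

end Cfsg.Agent.Gr.Pa
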