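import Mathlib
import Cfsg.Agent.Gr.Pa.Abs
import Cfsg.Agent.Spor.MX.J3Gen

/-! Configurations in the third Janko group, by words in the generators. -/

set_option autoImplicit false
set_option maxRecDepth 100000
set_option exponentiation.threshold 100000

namespace Cfsg.Agent.Gr.Pa

section

open Cfsg.Agent.Spor Cfsg.Agent.Spor.MX

noncomputable def cj_jc : BT :=
(.node (.node (.node (.node (.leaf (nat_lit 0x840000000004200000008000000000000008000000000000108020000000800008000000000040000000000000000000000000000000000021004000040000000000000040000000000200840000000004000000000020000200000000000000000000100000004200800000000000000000008021000000040000000000000000000000000000000000000000000000000001))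
 (.leaf (nat_lit 0x200800100001004000000100020004000800100020004000800000000004000040100020000200000100020000000800100000000200800000001000000800000020000200000000001000000000100020000000840100021000000040100020004200000108001004200000100020004000840108000000000840008000000200000008000000200840000001004200040000000))
) (.node (.leaf (nat_lit 0x1004000840008020000200840100021004200040108020004000040108001004200800100001004200800008021004000040008021004000000108021000000040008021004200840100000004000840000021000200040008020004200000100001000000800100020000000800108000000200840108001004200040000001000200040000020004000040008020000000800000001))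
 (.leaf (nat_lit 0x200000008001000200040008001000200040008021000000040000001004000800100000000000040100001000200040000000000200840100020004000840100021004000840000020004200000100001000000000008001000200840108000000000000000001004200000100021004000000100000004200840108001004200000100020000200840100021004200800100021))
)) (.node (.node (.leaf (nat_lit 0x1004200800008021004200040108020004000000008001004200800000020004000840008000000000840108021004200040008001000000040100001004000840000020004000800108000004000840100000004000840100001004200040108021004200040000020004200800100000004200840100021004000800108020004000040108021004200040000000004000800100001))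
 (.leaf (nat_lit 0x1000200000008021000200000100020000200000100021004200000008020004200000108000004000840108000000000040008020004200040000001000000840100020004000800000001000000800100001000200000100001000000040100021000200000008000000000840108000004200800108021000000800108020004000000100021004000040108001000200840108001))
) (.node (.leaf (nat_lit 0x21000200000100001000200040108000004200000108000000200040100020004000040108020000200800008000004200000100020000000000008021004000840108000004000040100000000200040100020004200000100001004200800000020004200000100021000200040108021000000800000020004000800000000004200000100000004200800100001000000800108020))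
 (.leaf (nat_lit 0x200000100021000000000100001004200800008020000200000000001004000800100021000200840108021004000040000021000200800000021004200040008000004200840108000004200000000001004000040008021004200040008020004200840100021004000840100000000000800000020000000040100001004000800108020004200840100001004200800108020))
))) (.node (.node (.node (.leaf (nat_lit 0x20004000840108001004200840000000004000000008001004000000100000000000040108020004200800100001004000040008021000200000100020000200000100021004000800100020004000040108001000200000100020004000000108001004000040100021004200840008020004000840000000004000000008021004000000100000000000840100021004000040100020))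
 (.leaf (nat_lit 0x20000000040100000000200000008000004000000000020004200000108000004000840100000004200000000021000000800108001004000840100020004000000000020000200800000021004200040000021000000840008001004000800108000004000000008000000000800000000000000040100020000000800108021004200840000021004000840108021000000840108000))
) (.node (.leaf (nat_lit 0x4200840108001000200000108021000200000000001000200800000000004200040000020004200840100021004000000008021000200800008001000200840108021004200040108020004000840108020004200800100021004000800008001004000000000001004200040108000004200000008000004000040008021000200000100001000200000008020004000000100020))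
 (.leaf (nat_lit 0x21000000800000001004200800100020004200040000021000000000000021000200840100001004200840108021004000040100021000200000108001000000840008021000000000100001004000040108021000200040000020004200000008001004000840008021004200000100021004200000008020000000040100001004000040000001004000840008020004000800108021))
)) (.node (.node (.leaf (nat_lit 0x40100000000000800100020000000840100000000200800100021004000800008000004000000108001000200800008000000200840000001004200840008000004000000000000004000040100021000000040108020000200000100021004000040008020004200800008021004000040008021004000840008021000200840100001000200040100021000200800008021))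
 (.leaf (nat_lit 0x200840008000004200840008020000200040000001000200000100001004200800000000000000000100020004000840008001000000000100021004200800008000000200000108000000000840008021004000000108020000000040108001004000800108021004000800100001004200840008001004200840008001004000040008021004000800008020004200800008001))
) (.leaf (nat_lit 0x20004200800008001004200800008021004200840000021004000800000020004000800108020004000040100020004200800000000000000800108020000000840108021000200000000021004000040008001004200040000021000000840100001000200040008021000000800000020000200840000021004000800008000004200840008021000000800008000000200800100020))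
)))

noncomputable def cj_jw : LT :=
(.node (.node (.node (.node (.leaf [nat_lit 4,nat_lit 3,nat_lit 8,nat_lit 8,nat_lit 8,nat_lit 6,nat_lit 6,nat_lit 7,nat_lit 8,nat_lit 8,nat_lit 8,nat_lit 6,nat_lit 8,nat_lit 3,nat_lit 6,nat_lit 6,nat_lit 7,nat_lit 1,nat_lit 8,nat_lit 8,nat_lit 8])
 (.leaf [nat_lit 4,nat_lit 8,nat_lit 8,nat_lit 8,nat_lit 6,nat_lit 7,nat_lit 7,nat_lit 8,nat_lit 6,nat_lit 8,nat_lit 8,nat_lit 8,nat_lit 6,nat_lit 8,nat_lit 6,nat_lit 8,nat_lit 6,nat_lit 8,nat_lit 8,nat_lit 8,nat_lit 6,nat_lit 6,nat_lit 8,nat_lit 8,nat_lit 8,nat_lit 6,nat_lit 6,nat_lit 8,nat_lit 8,nat_lit 8,nat_lit 5,nat_lit 5,nat_lit 7])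
) (.node (.leaf [nat_lit 6,nat_lit 6,nat_lit 7,nat_lit 8,nat_lit 6,nat_lit 6,nat_lit 8,nat_lit 6,nat_lit 6,nat_lit 8,nat_lit 7,nat_lit 7,nat_lit 5,nat_lit 5,nat_lit 6,nat_lit 8,nat_lit 8,nat_lit 8,nat_lit 2,nat_lit 6,nat_lit 3])
 (.leaf [nat_lit 6,nat_lit 8,nat_lit 8,nat_lit 8,nat_lit 4,nat_lit 8,nat_lit 6,nat_lit 8,nat_lit 6,nat_lit 3,nat_lit 8,nat_lit 5,nat_lit 5,nat_lit 6,nat_lit 8,nat_lit 6,nat_lit 8,nat_lit 8,nat_lit 8,nat_lit 6,nat_lit 8,nat_lit 8,nat_lit 8,nat_lit 6,nat_lit 6,nat_lit 8])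
)) (.node (.node (.leaf [nat_lit 7,nat_lit 7,nat_lit 1,nat_lit 8,nat_lit 8,nat_lit 8,nat_lit 6,nat_lit 6,nat_lit 8,nat_lit 6,nat_lit 6,nat_lit 8,nat_lit 6,nat_lit 6,nat_lit 8,nat_lit 2,nat_lit 3])
 (.leaf [nat_lit 6,nat_lit 8,nat_lit 8,nat_lit 8,nat_lit 6,nat_lit 8,nat_lit 8,nat_lit 8,nat_lit 6,nat_lit 8,nat_lit 5,nat_lit 6,nat_lit 6,nat_lit 8,nat_lit 8,nat_lit 8,nat_lit 7,nat_lit 7,nat_lit 6,nat_lit 5,nat_lit 5,nat_lit 4])
) (.node (.leaf [nat_lit 6,nat_lit 6,nat_lit 5,nat_lit 5,nat_lit 4,nat_lit 8,nat_lit 6,nat_lit 6,nat_lit 8,nat_lit 6,nat_lit 6,nat_lit 8,nat_lit 8,nat_lit 8,nat_lit 5,nat_lit 5,nat_lit 6,nat_lit 6,nat_lit 2,nat_lit 8,nat_lit 8,nat_lit 8,nat_lit 6,nat_lit 6,nat_lit 5,nat_lit 7])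
 (.leaf [nat_lit 8,nat_lit 5,nat_lit 6,nat_lit 6,nat_lit 8,nat_lit 8,nat_lit 8,nat_lit 6,nat_lit 8,nat_lit 1,nat_lit 6,nat_lit 6,nat_lit 8,nat_lit 8,nat_lit 8,nat_lit 6,nat_lit 6,nat_lit 8,nat_lit 6,nat_lit 8,nat_lit 6,nat_lit 5,nat_lit 5,nat_lit 8,nat_lit 1,nat_lit 2])
))) (.node (.node (.node (.leaf [nat_lit 8,nat_lit 7,nat_lit 7,nat_lit 6,nat_lit 8,nat_lit 8,nat_lit 8,nat_lit 6,nat_lit 8,nat_lit 7,nat_lit 6,nat_lit 8,nat_lit 4,nat_lit 5,nat_lit 5,nat_lit 6,nat_lit 8,nat_lit 8,nat_lit 8,nat_lit 6,nat_lit 8,nat_lit 8,nat_lit 8,nat_lit 1,nat_lit 6])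
 (.leaf [nat_lit 6,nat_lit 6,nat_lit 5,nat_lit 5,nat_lit 7,nat_lit 8,nat_lit 8,nat_lit 8,nat_lit 4,nat_lit 7,nat_lit 7,nat_lit 6,nat_lit 8,nat_lit 8,nat_lit 8,nat_lit 6,nat_lit 8,nat_lit 8,nat_lit 8,nat_lit 5,nat_lit 6,nat_lit 8,nat_lit 6,nat_lit 6,nat_lit 8,nat_lit 7,nat_lit 6,nat_lit 6,nat_lit 4])
) (.node (.leaf [nat_lit 6,nat_lit 5,nat_lit 5,nat_lit 8,nat_lit 8,nat_lit 8,nat_lit 6,nat_lit 6,nat_lit 6,nat_lit 6,nat_lit 8,nat_lit 8,nat_lit 8,nat_lit 6,nat_lit 6,nat_lit 8,nat_lit 4,nat_lit 6,nat_lit 6,nat_lit 8,nat_lit 6,nat_lit 6,nat_lit 8,nat_lit 7,nat_lit 7])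
 (.leaf [nat_lit 7,nat_lit 4,nat_lit 8,nat_lit 8,nat_lit 8,nat_lit 4,nat_lit 1,nat_lit 6,nat_lit 8,nat_lit 8,nat_lit 8,nat_lit 6,nat_lit 3,nat_lit 8,nat_lit 6,nat_lit 8,nat_lit 8,nat_lit 8,nat_lit 6,nat_lit 6,nat_lit 8,nat_lit 7,nat_lit 7])
)) (.node (.node (.leaf [nat_lit 8,nat_lit 7,nat_lit 7,nat_lit 6,nat_lit 6,nat_lit 8,nat_lit 3,nat_lit 6,nat_lit 6,nat_lit 5,nat_lit 5,nat_lit 8,nat_lit 8,nat_lit 8,nat_lit 6,nat_lit 8,nat_lit 6,nat_lit 8,nat_lit 8,nat_lit 8,nat_lit 6,nat_lit 8,nat_lit 3,nat_lit 1])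
 (.leaf [nat_lit 3,nat_lit 2,nat_lit 8,nat_lit 8,nat_lit 8,nat_lit 6,nat_lit 8,nat_lit 8,nat_lit 8,nat_lit 5,nat_lit 4,nat_lit 6,nat_lit 8,nat_lit 6,nat_lit 6,nat_lit 3,nat_lit 8,nat_lit 8,nat_lit 8,nat_lit 7,nat_lit 6,nat_lit 8,nat_lit 6,nat_lit 5,nat_lit 5,nat_lit 8,nat_lit 5,nat_lit 5])
) (.leaf [nat_lit 6,nat_lit 6,nat_lit 8,nat_lit 6,nat_lit 6,nat_lit 8,nat_lit 8,nat_lit 8,nat_lit 7,nat_lit 6,nat_lit 6,nat_lit 8,nat_lit 8,nat_lit 8,nat_lit 6,nat_lit 6,nat_lit 8,nat_lit 8,nat_lit 8,nat_lit 5,nat_lit 5,nat_lit 6,nat_lit 8,nat_lit 6,nat_lit 8,nat_lit 6,nat_lit 6])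
)))

noncomputable def cj_sc : BT :=
(.node (.node (.node (.node (.leaf (nat_lit 0x1004200000008000004000000000001004000000108021000000000008000000200000100001000200040108000000000000008020000200040100020000200840100000000000040108000000200840008000004200000100021000200000000021000000000008000000200800000001000000840000000000000800008020000000040108001000200000108000000000800100000))
 (.leaf (nat_lit 0x20004200000008001004200000008020000200040008021004200800108021004000840100021004200800108021004200840108021000000040100021000200000100000000200800108000004000040008001004000040000001000000040108001004000840100001000000000000021000000800000021000000800100000000000840108021004200040000000004000800008020))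
) (.leaf (nat_lit 0x200000000020000000040100001000200840000020004000800000020004200840000001004200040100001000000800108001000000040000001004200040008021004200000008001000200840000021004000040008021000000000000000000200040108020000200800108020000000000000021000200840000021000000000108001000000840000000004000000000000))
) (.node (.node (.leaf (nat_lit 0x21000200840108001004000040108021004000800100021004000040100021004200040108000000200800108001000000040008001000000800000001004200000000020000200040000001000000800108001000000800008000000000000008001004000800100020000000040100001004000000108020000200000108020004000000108000004200040108020004200040000021))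
 (.leaf (nat_lit 0x20000200000008001000000840108021004000800108020004000040100021004200040008000004000040108000000200800108020004000840108020004000040108001004000800108001004200000000020000200840100020000000000008020004000000100001004000000008021004000040000001004200000108000004000000108001000200040000021000000040008021))
) (.leaf (nat_lit 0x1000000840108001004200840000021004200040108000004000040008021000000840100021000200000008021000000800000021000200000108021004200800108020000200840008021000200040108001000000040100020000000000100000004000800008001004000840008020004200840008001004200800108021004200000000020000000800100020000000800100020))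
)) (.node (.node (.node (.leaf (nat_lit 0x21004000000000021004000800108001000200800108000000200000000021000000040108000004000800000001004200040108000004200000108001000200840008000004000840000000004000800000001000000000108021000000840000021004200040000020004000040000020004000800100021000000800008000000200840008001000000000008001000200040000000))
 (.leaf (nat_lit 0x1004200000108001004000800000001004000840100020000200000008000004000000000021000200840100021000200800108020000000800000000004200000008020004200840000001000200000108001004000840008000000000000100000004000000100001004000040000001000200800108001004200800008001004200800100021000000840008020004000000108020))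
) (.leaf (nat_lit 0x1000200040108000004200000100021004000800100000004200840108001000000000008021000200800100021000000800100000000200840000000000000800100020000000040008001000200000100001004000800108020004200000000021000200040100020000000800008001000000800100001000000040100001000200040000000004200000008021004200800008020))
) (.node (.leaf (nat_lit 0x1000000800000001004200800008001000200000108001004000000100001000200000108021000000800000001004200000000000004000840008020000000000108021000000840108020004000040108000000200840100020000000000008020000200840100000000200840000021000200840108021000200000108000000200000000020004000000000000000000000100000))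
 (.leaf (nat_lit 0x4000040000001004200800008001004200040008000004000840108000004200040108020000200840008001000200840100001004200040008021004200840008000000200000108020000200840108020004000800108020000200040100000000000800008000000200000100001000200800000000004200800108001004200040008000000000800100000004200800100000))
)))

noncomputable def cj_sw : LT :=
(.node (.node (.node (.node (.leaf [nat_lit 3,nat_lit 8,nat_lit 6,nat_lit 8,nat_lit 6,nat_lit 8,nat_lit 8,nat_lit 8,nat_lit 6,nat_lit 4,nat_lit 8,nat_lit 8,nat_lit 8,nat_lit 6,nat_lit 8,nat_lit 8,nat_lit 8,nat_lit 6,nat_lit 8,nat_lit 8,nat_lit 8,nat_lit 6,nat_lit 6,nat_lit 8,nat_lit 6,nat_lit 6,nat_lit 8,nat_lit 6,nat_lit 6,nat_lit 3])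
 (.leaf [nat_lit 2,nat_lit 8,nat_lit 8,nat_lit 8,nat_lit 6,nat_lit 6,nat_lit 8,nat_lit 6,nat_lit 6,nat_lit 3,nat_lit 7,nat_lit 6,nat_lit 6,nat_lit 8,nat_lit 6,nat_lit 6,nat_lit 8,nat_lit 8,nat_lit 8,nat_lit 6,nat_lit 8,nat_lit 6,nat_lit 8,nat_lit 6,nat_lit 8,nat_lit 6,nat_lit 4,nat_lit 3])
) (.leaf [nat_lit 5,nat_lit 5,nat_lit 6,nat_lit 2,nat_lit 4,nat_lit 8,nat_lit 6,nat_lit 6,nat_lit 8,nat_lit 6,nat_lit 6,nat_lit 8,nat_lit 8,nat_lit 8,nat_lit 6,nat_lit 8,nat_lit 8,nat_lit 8,nat_lit 6,nat_lit 8,nat_lit 8,nat_lit 8,nat_lit 7,nat_lit 7,nat_lit 6,nat_lit 6,nat_lit 8,nat_lit 3,nat_lit 6,nat_lit 6,nat_lit 5,nat_lit 5])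
) (.node (.node (.leaf [nat_lit 3,nat_lit 8,nat_lit 6,nat_lit 6,nat_lit 8,nat_lit 8,nat_lit 8,nat_lit 6,nat_lit 5,nat_lit 5,nat_lit 8,nat_lit 7,nat_lit 6,nat_lit 8,nat_lit 8,nat_lit 8,nat_lit 6,nat_lit 8,nat_lit 8,nat_lit 8,nat_lit 6,nat_lit 6,nat_lit 7])
 (.leaf [nat_lit 5,nat_lit 5,nat_lit 6,nat_lit 8,nat_lit 6,nat_lit 8,nat_lit 4,nat_lit 5,nat_lit 5,nat_lit 7,nat_lit 7,nat_lit 6,nat_lit 6,nat_lit 8,nat_lit 6,nat_lit 6,nat_lit 5,nat_lit 5,nat_lit 8,nat_lit 8,nat_lit 8])
) (.leaf [nat_lit 2,nat_lit 8,nat_lit 6,nat_lit 6,nat_lit 8,nat_lit 8,nat_lit 8,nat_lit 6,nat_lit 6,nat_lit 8,nat_lit 5,nat_lit 8,nat_lit 8,nat_lit 8,nat_lit 7,nat_lit 7,nat_lit 8,nat_lit 7,nat_lit 7,nat_lit 6,nat_lit 8,nat_lit 8,nat_lit 8,nat_lit 6,nat_lit 5,nat_lit 5])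
)) (.node (.node (.node (.leaf [nat_lit 3,nat_lit 8,nat_lit 7,nat_lit 7,nat_lit 6,nat_lit 3,nat_lit 8,nat_lit 8,nat_lit 8,nat_lit 6,nat_lit 8,nat_lit 4,nat_lit 8,nat_lit 6,nat_lit 6,nat_lit 8,nat_lit 6,nat_lit 8,nat_lit 6,nat_lit 6,nat_lit 7,nat_lit 3])
 (.leaf [nat_lit 8,nat_lit 6,nat_lit 8,nat_lit 8,nat_lit 8,nat_lit 5,nat_lit 4,nat_lit 6,nat_lit 4,nat_lit 8,nat_lit 6,nat_lit 3,nat_lit 8,nat_lit 8,nat_lit 8,nat_lit 6,nat_lit 8,nat_lit 6,nat_lit 6,nat_lit 8,nat_lit 8,nat_lit 8,nat_lit 2,nat_lit 6,nat_lit 6])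
) (.leaf [nat_lit 5,nat_lit 5,nat_lit 4,nat_lit 8,nat_lit 6,nat_lit 6,nat_lit 3,nat_lit 8,nat_lit 8,nat_lit 8,nat_lit 6,nat_lit 8,nat_lit 3,nat_lit 8,nat_lit 6,nat_lit 6,nat_lit 7,nat_lit 8,nat_lit 6,nat_lit 6,nat_lit 8,nat_lit 8,nat_lit 8,nat_lit 5,nat_lit 6,nat_lit 6,nat_lit 4,nat_lit 8,nat_lit 6,nat_lit 6])
) (.node (.leaf [nat_lit 6,nat_lit 5,nat_lit 7,nat_lit 7,nat_lit 2,nat_lit 8,nat_lit 6,nat_lit 6,nat_lit 8,nat_lit 6,nat_lit 8,nat_lit 6,nat_lit 8,nat_lit 8,nat_lit 8,nat_lit 7,nat_lit 7])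
 (.leaf [nat_lit 8,nat_lit 8,nat_lit 8,nat_lit 6,nat_lit 6,nat_lit 8,nat_lit 8,nat_lit 8,nat_lit 6,nat_lit 6,nat_lit 8,nat_lit 6,nat_lit 6,nat_lit 8,nat_lit 5,nat_lit 5,nat_lit 6,nat_lit 8,nat_lit 6,nat_lit 8,nat_lit 8,nat_lit 8,nat_lit 6,nat_lit 8,nat_lit 8,nat_lit 8,nat_lit 6,nat_lit 6,nat_lit 8,nat_lit 8,nat_lit 8,nat_lit 1,nat_lit 7,nat_lit 7,nat_lit 6])
)))

noncomputable def cj_back : LT :=
(.node (.node (.node (.node (.leaf [])
 (.leaf [nat_lit 0,nat_lit 1,nat_lit 0,nat_lit 1,nat_lit 0,nat_lit 1,nat_lit 0,nat_lit 1,nat_lit 1,nat_lit 0,nat_lit 1,nat_lit 1,nat_lit 0,nat_lit 1,nat_lit 1,nat_lit 0,nat_lit 1,nat_lit 1,nat_lit 0,nat_lit 1,nat_lit 1,nat_lit 0,nat_lit 1,nat_lit 0,nat_lit 1,nat_lit 1,nat_lit 0,nat_lit 1,nat_lit 0,nat_lit 1,nat_lit 0,nat_lit 1,nat_lit 1,nat_lit 0,nat_lit 1,nat_lit 0,nat_lit 1,nat_lit 0,nat_lit 1,nat_lit 0,nat_lit 1,nat_lit 0,nat_lit 1,nat_lit 1,nat_lit 0,nat_lit 1,nat_lit 1,nat_lit 0,nat_lit 1,nat_lit 0,nat_lit 1,nat_lit 1,nat_lit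 0,nat_lit 1,nat_lit 1,nat_lit 0,nat_lit 1,nat_lit 0,nat_lit 1,nat_lit 1,nat_lit 0,nat_lit 1,nat_lit 1,nat_lit 0,nat_lit 1,nat_lit 1,nat_lit 0,nat_lit 1,nat_lit 1,nat_lit 0])
) (.leaf [nat_lit 1,nat_lit 0,nat_lit 1,nat_lit 1,nat_lit 0,nat_lit 1,nat_lit 1,nat_lit 0,nat_lit 1,nat_lit 0,nat_lit 1,nat_lit 1,nat_lit 0,nat_lit 1,nat_lit 0,nat_lit 1,nat_lit 1,nat_lit 0,nat_lit 1,nat_lit 1,nat_lit 0,nat_lit 1,nat_lit 0,nat_lit 1,nat_lit 0,nat_lit 1,nat_lit 0,nat_lit 1,nat_lit 0,nat_lit 1,nat_lit 1,nat_lit 0,nat_lit 1,nat_lit 1,nat_lit 0,nat_lit 1,nat_lit 0,nat_lit 1,nat_lit 1,nat_lit 0,nat_lit 1,nat_lit 0,nat_lit 1,nat_lit 1,nat_lit 0,nat_lit 1,nat_lit 0,nat_lit 1,nat_lit 1,nat_lit 0,nat_lit 1,nat_lit 1,nat_lit 0,nat_lit 1,nat_lit 0,nat_lit 1,nat_lit 1,nat_lit 0,nat_lit 1,nat_lit 0,nat_lit 1,nat_lit 0,nat_lit 1,nat_lit 1,nat_lit 0])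
) (.node (.leaf [nat_lit 1,nat_lit 1,nat_lit 0,nat_lit 1,nat_lit 1,nat_lit 0,nat_lit 1,nat_lit 0,nat_lit 1,nat_lit 0,nat_lit 1,nat_lit 0,nat_lit 1,nat_lit 0,nat_lit 1,nat_lit 1,nat_lit 0,nat_lit 1,nat_lit 0,nat_lit 1,nat_lit 0,nat_lit 1,nat_lit 0,nat_lit 1,nat_lit 1,nat_lit 0,nat_lit 1,nat_lit 0,nat_lit 1,nat_lit 1,nat_lit 0,nat_lit 1,nat_lit 1,nat_lit 0,nat_lit 1,nat_lit 1,nat_lit 0,nat_lit 1,nat_lit 0,nat_lit 1,nat_lit 0,nat_lit 1,nat_lit 0,nat_lit 1,nat_lit 0,nat_lit 1,nat_lit 0,nat_lit 1,nat_lit 1,nat_lit 0,nat_lit 1,nat_lit 0,nat_lit 1,nat_lit 0,nat_lit 1,nat_lit 0,nat_lit 1,nat_lit 0,nat_lit 1,nat_lit 1,nat_lit 1,nat_lit 1,nat_lit 0,nat_lit 1,nat_lit 0,nat_lit 1,nat_lit 1])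
 (.leaf [nat_lit 0,nat_lit 1,nat_lit 1,nat_lit 0,nat_lit 1,nat_lit 1,nat_lit 0,nat_lit 1,nat_lit 0,nat_lit 1,nat_lit 1,nat_lit 0,nat_lit 1,nat_lit 1,nat_lit 0,nat_lit 1,nat_lit 0,nat_lit 1,nat_lit 1,nat_lit 0,nat_lit 1,nat_lit 1,nat_lit 0,nat_lit 1,nat_lit 0,nat_lit 1,nat_lit 1,nat_lit 0,nat_lit 1,nat_lit 1,nat_lit 0,nat_lit 1,nat_lit 1,nat_lit 0,nat_lit 1,nat_lit 1,nat_lit 0,nat_lit 1,nat_lit 1,nat_lit 0,nat_lit 1,nat_lit 0,nat_lit 1,nat_lit 0,nat_lit 1,nat_lit 1,nat_lit 0,nat_lit 1,nat_lit 0,nat_lit 1,nat_lit 0,nat_lit 1,nat_lit 1,nat_lit 0,nat_lit 1,nat_lit 0,nat_lit 1,nat_lit 0,nat_lit 1,nat_lit 0,nat_lit 1,nat_lit 0,nat_lit 1,nat_lit 1,nat_lit 0,nat_lit 1])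
)) (.node (.node (.leaf [nat_lit 1,nat_lit 1,nat_lit 0,nat_lit 1,nat_lit 0,nat_lit 1,nat_lit 1,nat_lit 0,nat_lit 1,nat_lit 1,nat_lit 0,nat_lit 1,nat_lit 1,nat_lit 0,nat_lit 1,nat_lit 1,nat_lit 0,nat_lit 1,nat_lit 0,nat_lit 1,nat_lit 1,nat_lit 0,nat_lit 1,nat_lit 1,nat_lit 0,nat_lit 1,nat_lit 0,nat_lit 1,nat_lit 1,nat_lit 0,nat_lit 1,nat_lit 1,nat_lit 0,nat_lit 1,nat_lit 0,nat_lit 1,nat_lit 1,nat_lit 0,nat_lit 1,nat_lit 1,nat_lit 1,nat_lit 1,nat_lit 0,nat_lit 1,nat_lit 1,nat_lit 0,nat_lit 1,nat_lit 0,nat_lit 1,nat_lit 0,nat_lit 1,nat_lit 1,nat_lit 1,nat_lit 1,nat_lit 0,nat_lit 1,nat_lit 0,nat_lit 1,nat_lit 0,nat_lit 1,nat_lit 0,nat_lit 1,nat_lit 0,nat_lit 1,nat_lit 1,nat_lit 0,nat_lit 1,nat_lit 0,nat_lit 1,nat_lit 1,nat_lit 0,nat_lit 1,nat_lit 1,nat_lit 0,nat_lit 1,nat_lit 1,nat_lit 0,nat_lit 1,nat_lit 1,nat_lit 0,nat_lit 1,nat_lit 1,nat_lit 0,nat_lit 1,nat_lit 1,nat_lit 0,nat_lit 1,nat_lit 1,nat_lit 0,nat_lit 1,nat_lit 0,nat_lit 1])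
 (.leaf [nat_lit 0,nat_lit 1,nat_lit 0,nat_lit 1,nat_lit 0,nat_lit 1,nat_lit 0,nat_lit 1,nat_lit 1,nat_lit 0,nat_lit 1,nat_lit 0,nat_lit 1,nat_lit 0,nat_lit 1,nat_lit 1,nat_lit 0,nat_lit 1,nat_lit 1,nat_lit 0,nat_lit 1,nat_lit 0,nat_lit 1,nat_lit 1,nat_lit 0,nat_lit 1,nat_lit 0,nat_lit 1,nat_lit 0,nat_lit 1,nat_lit 0,nat_lit 1,nat_lit 0,nat_lit 1,nat_lit 1,nat_lit 0,nat_lit 1,nat_lit 1,nat_lit 0,nat_lit 1,nat_lit 0,nat_lit 1,nat_lit 1,nat_lit 0,nat_lit 1,nat_lit 0,nat_lit 1,nat_lit 1,nat_lit 0,nat_lit 1,nat_lit 1,nat_lit 0,nat_lit 1,nat_lit 0,nat_lit 1,nat_lit 0,nat_lit 1,nat_lit 1,nat_lit 0,nat_lit 1,nat_lit 1,nat_lit 0,nat_lit 1,nat_lit 1,nat_lit 0,nat_lit 1,nat_lit 0,nat_lit 1,nat_lit 1])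
) (.node (.leaf [nat_lit 1,nat_lit 1,nat_lit 0,nat_lit 1,nat_lit 1,nat_lit 0,nat_lit 1,nat_lit 1,nat_lit 0,nat_lit 1,nat_lit 1,nat_lit 0,nat_lit 1,nat_lit 0,nat_lit 1,nat_lit 0,nat_lit 1,nat_lit 0,nat_lit 1,nat_lit 0,nat_lit 1,nat_lit 0,nat_lit 1,nat_lit 1,nat_lit 0,nat_lit 1,nat_lit 1,nat_lit 0,nat_lit 1,nat_lit 1,nat_lit 0,nat_lit 1,nat_lit 1,nat_lit 0,nat_lit 1,nat_lit 1,nat_lit 0,nat_lit 1,nat_lit 1,nat_lit 0,nat_lit 1,nat_lit 1,nat_lit 0,nat_lit 1,nat_lit 0,nat_lit 1,nat_lit 1,nat_lit 0,nat_lit 1,nat_lit 0,nat_lit 1,nat_lit 0,nat_lit 1])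
 (.leaf [nat_lit 1,nat_lit 0,nat_lit 1,nat_lit 0,nat_lit 1,nat_lit 1,nat_lit 0,nat_lit 1,nat_lit 1,nat_lit 0,nat_lit 1,nat_lit 0,nat_lit 1,nat_lit 1,nat_lit 0,nat_lit 1,nat_lit 0,nat_lit 1,nat_lit 0,nat_lit 1,nat_lit 1,nat_lit 0,nat_lit 1,nat_lit 1,nat_lit 0,nat_lit 1,nat_lit 1,nat_lit 1,nat_lit 1,nat_lit 0,nat_lit 1,nat_lit 1,nat_lit 0,nat_lit 1,nat_lit 1,nat_lit 0,nat_lit 1,nat_lit 1,nat_lit 0,nat_lit 1,nat_lit 0,nat_lit 1,nat_lit 1,nat_lit 0,nat_lit 1,nat_lit 0,nat_lit 1,nat_lit 1,nat_lit 0,nat_lit 1,nat_lit 1,nat_lit 0,nat_lit 1,nat_lit 0,nat_lit 1,nat_lit 1,nat_lit 0,nat_lit 1,nat_lit 0,nat_lit 1,nat_lit 1,nat_lit 0,nat_lit 1,nat_lit 1,nat_lit 0,nat_lit 1,nat_lit 0,nat_lit 1,nat_lit 0,nat_lit 1,nat_lit 0,nat_lit 1,nat_lit 1,nat_lit 0])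
)))

theorem cj_w1 : wordsB NM.F4x9.mul NM.F4x9.one MJ3.gC cj_jc.get 9 15 cj_jw = true := by decide +kernel

theorem cj_w2 : wordsB NM.F4x9.mul NM.F4x9.one MJ3.gC cj_sc.get 9 11 cj_sw = true := by decide +kernel

theorem cj_w3 : wordsB NM.F4x9.mul NM.F4x9.one MJ3.gC cj_sc.get 9 2 cj_sw = true := by decide +kernel

theorem cj_b : allRange (nat_lit 0) (nat_lit 9)
    (backZ NM.F4x9.mul NM.F4x9.one j3m_Z MJ3.gC cj_sc.get 2 cj_back) = true := by decide +kernel

theorem cj_n : Nat.beq (NM.evN NM.F4x9.mul NM.F4x9.one cj_jc.get (powW 180 [14]))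
    (NM.evN NM.F4x9.mul NM.F4x9.one cj_jc.get []) = false := by decide +kernel

/-- The test for the first list of letters. -/
noncomputable def cjE (v w : List ℕ) : Bool := eqZ NM.F4x9.mul NM.F4x9.one j3m_Z cj_jc.get 15 v w

/-- The test for the second list of letters. -/
noncomputable def cjS (v w : List ℕ) : Bool := eqZ NM.F4x9.mul NM.F4x9.one j3m_Z cj_sc.get 11 v w

theorem cj_act {G : Type*} [Group G] {L : ℕ → G} (E : ∀ v w, cjE v w = true → evalW L v = evalW L w)
    {h : G} (n : ℕ) (e : h = L n) (p : Fin 5 → Fin 5) (h0 : cjE [0, n] [n, 0] = true)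
    (h1 : ∀ i : Fin 5, cjE [n, i + 1] [p i + 1, n] = true ∨ cjE [n, i + 1] [0, p i + 1, n] = true) :
    Act (L 0) (fun i => L (i + 1)) h p := by
  subst e
  refine ⟨by simpa [Commute, SemiconjBy] using E _ _ h0, fun i => (h1 i).imp (fun k => ?_) fun k => ?_⟩ <;>
    rw [mul_inv_eq_iff_eq_mul] <;>
    simpa only [evalW_cons, evalW_nil, mul_one, mul_assoc] using E _ _ k

theorem cj_jc_of {G : Type*} [Group G] {L : ℕ → G} (E : ∀ v w, cjE v w = true → evalW L v = evalW L w)
    (hn : L 14 ^ 60 ≠ 1) :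
    JC (L 0) (fun i => L (i + 1)) (L 6) (L 7) (L 8) (L 9) (L 10) (L 11) ∧ (L 6 * L 7) ^ 3 = 1 := by
  have x3 : (L 6 * L 7) ^ 3 = 1 := (by simpa only [evalW_cons, evalW_nil, mul_one, pow_succ, pow_zero, one_mul, mul_assoc] using E [6, 7, 6, 7, 6, 7] [] (by decide +kernel))
  have c : L 0 * (L 9 * L 0 * (L 9)⁻¹) = L 14 := by
    rw [← mul_assoc, mul_inv_eq_iff_eq_mul]
    exact (by simpa only [evalW_cons, evalW_nil, mul_one, pow_succ, pow_zero, one_mul, mul_assoc] using E [0, 9, 0] [14, 9] (by decide +kernel))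
  have s2 : ∀ i : Fin 5, cjE [i + 1, i + 1] [] = true := by decide +kernel
  have zs : ∀ i : Fin 5, cjE [0, i + 1] [i + 1, 0] = true := by decide +kernel
  have an : ∀ i j : Fin 5, i ≠ j → cjE [i + 1, j + 1, i + 1] [0, j + 1] = true := by decide +kernel
  have sq : ∀ a ∈ [[10], [11], [10, 11]], ∀ b ∈ [[10], [11], [10, 11]], ∃ d ∈ [[0], [1], [0, 1]],
      cjE (powW 2 (a ++ ([2] ++ b ++ [2]))) d = true := by decide +kernel
  have cm : ∀ i j, cjE [i, j] [j, i] = true → Commute (L i) (L j) := fun i j h => by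
    simpa [Commute, SemiconjBy] using E _ _ h
  refine ⟨⟨(by simpa only [evalW_cons, evalW_nil, mul_one, pow_succ, pow_zero, one_mul, mul_assoc] using E [0, 0] [] (by decide +kernel)), fun n h1 h2 e => hn ?_, fun i => by simpa using E _ _ (s2 i),
    fun i => cm _ _ (zs i), fun i j h => by simpa [mul_assoc] using E _ _ (an i j h),
    Or.inl (show L 1 * L 2 * L 3 * L 4 * L 5 = 1 from (by simpa only [evalW_cons, evalW_nil, mul_one, pow_succ, pow_zero, one_mul, mul_assoc] using E [1, 2, 3, 4, 5] [] (by decide +kernel))),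
    cj_act E 6 rfl _ (by decide +kernel) (by decide +kernel),
    cj_act E 7 rfl _ (by decide +kernel) (by decide +kernel),
    (by simpa only [evalW_cons, evalW_nil, mul_one, pow_succ, pow_zero, one_mul, mul_assoc] using E [6, 6, 6, 6, 6] [] (by decide +kernel)),
    (by simpa only [evalW_cons, evalW_nil, mul_one, pow_succ, pow_zero, one_mul, mul_assoc] using E [7, 7, 7, 7, 7] [] (by decide +kernel)),
    by rw [show 9 = 3 * 3 from rfl, pow_mul, x3, one_pow],
    mul_inv_eq_iff_eq_mul.2 (show L 8 * L 0 = L 1 * L 8 from (by simpa only [evalW_cons, evalW_nil, mul_one, pow_succ, pow_zero, one_mul, mul_assoc] using E [8, 0] [1, 8] (by decide +kernel))),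
    cj_act E 12 (mul_inv_eq_iff_eq_mul.2 (show L 8 * (L 2 * L 3) = L 12 * L 8 from
      (by simpa only [evalW_cons, evalW_nil, mul_one, pow_succ, pow_zero, one_mul, mul_assoc] using E [8, 2, 3] [12, 8] (by decide +kernel)))) _ (by decide +kernel) (by decide +kernel),
    cj_act E 13 (mul_inv_eq_iff_eq_mul.2 (show L 8 * (L 2 * L 4) = L 13 * L 8 from
      (by simpa only [evalW_cons, evalW_nil, mul_one, pow_succ, pow_zero, one_mul, mul_assoc] using E [8, 2, 4] [13, 8] (by decide +kernel)))) _ (by decide +kernel) (by decide +kernel),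
    (by simpa only [evalW_cons, evalW_nil, mul_one, pow_succ, pow_zero, one_mul, mul_assoc] using E [10, 10] [] (by decide +kernel)),
    (by simpa only [evalW_cons, evalW_nil, mul_one, pow_succ, pow_zero, one_mul, mul_assoc] using E [11, 11] [] (by decide +kernel)),
    cm 10 11 (by decide +kernel), cm 0 10 (by decide +kernel), cm 0 11 (by decide +kernel),
    cm 1 10 (by decide +kernel), cm 1 11 (by decide +kernel), fun a ha b hb => ?_⟩, x3⟩
  · have d : n ∣ 60 := by interval_cases n <;> norm_num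
    obtain ⟨m, hm⟩ := d
    rw [hm, pow_mul, ← c, e, one_pow]
  · have m1 : [L 10, L 11, L 10 * L 11] = [[10], [11], [10, 11]].map (evalW L) := by simp
    have m2 : [L 0, L 1, L 0 * L 1] = [[0], [1], [0, 1]].map (evalW L) := by simp
    rw [m1] at ha hb
    obtain ⟨a, ha', rfl⟩ := List.mem_map.1 ha
    obtain ⟨b, hb', rfl⟩ := List.mem_map.1 hb
    obtain ⟨d, hd, e⟩ := sq a ha' b hb'
    have e' := E _ _ e
    rw [evalW_powW, evalW_append, evalW_append, evalW_append, evalW_cons, evalW_nil, mul_one] at e'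
    show (evalW L a * (L 2 * evalW L b * L 2)) ^ 2 ∈ [L 0, L 1, L 0 * L 1]
    rw [e', m2]
    exact List.mem_map_of_mem hd

theorem cj_sc_of {G : Type*} [Group G] {L : ℕ → G} (E : ∀ v w, cjS v w = true → evalW L v = evalW L w)
    (hg : genLt L 2 = ⊤) : SC (L 0) (L 1) (L 2) (L 3) (L 4) (L 5) (L 6) := by
  have cm : ∀ i j, cjS [i, j] [j, i] = true → Commute (L i) (L j) := fun i j h => by
    simpa [Commute, SemiconjBy] using E _ _ h
  have cj : ∀ (c : ℕ) (y : G), L c * L 2 = y * L c → IsConj (L 2) y := fun c y h =>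
    isConj_iff.2 ⟨L c, mul_inv_eq_iff_eq_mul.2 h⟩
  refine ⟨(by simpa only [evalW_cons, evalW_nil, mul_one, pow_succ, pow_zero, one_mul, mul_assoc] using E [0, 0] [] (by decide +kernel)), ?_, ?_,
    (by simpa only [evalW_cons, evalW_nil, mul_one, pow_succ, pow_zero, one_mul, mul_assoc] using E [1, 1, 1] [] (by decide +kernel)),
    (by simpa only [evalW_cons, evalW_nil, mul_one, pow_succ, pow_zero, one_mul, mul_assoc] using E [2, 2, 2] [] (by decide +kernel)),
    cm 2 3 (by decide +kernel), cm 1 2 (by decide +kernel), cm 1 3 (by decide +kernel),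
    cm 4 2 (by decide +kernel), cm 4 3 (by decide +kernel), cm 5 2 (by decide +kernel),
    cm 5 3 (by decide +kernel),
    mul_inv_eq_iff_eq_mul.2 (by simpa only [evalW_cons, evalW_nil, mul_one, pow_succ, pow_zero, one_mul, mul_assoc] using E [4, 1] [1, 2, 4] (by decide +kernel)),
    mul_inv_eq_iff_eq_mul.2 (by simpa only [evalW_cons, evalW_nil, mul_one, pow_succ, pow_zero, one_mul, mul_assoc] using E [5, 1] [1, 3, 5] (by decide +kernel)),
    cj 7 _ (by simpa only [evalW_cons, evalW_nil, mul_one, pow_succ, pow_zero, one_mul, mul_assoc] using E [7, 2] [3, 7] (by decide +kernel)),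
    cj 8 _ (by simpa only [evalW_cons, evalW_nil, mul_one, pow_succ, pow_zero, one_mul, mul_assoc] using E [8, 2] [2, 3, 8] (by decide +kernel)),
    cj 9 _ (by simpa only [evalW_cons, evalW_nil, mul_one, pow_succ, pow_zero, one_mul, mul_assoc] using E [9, 2] [2, 3, 3, 9] (by decide +kernel)),
    cj 10 _ (by simpa only [evalW_cons, evalW_nil, mul_one, pow_succ, pow_zero, one_mul, mul_assoc] using E [10, 2] [6, 10] (by decide +kernel)),
    mul_inv_eq_iff_eq_mul.2 ?_⟩
  · rw [eq_top_iff, ← hg]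
    refine genLt_le fun x hx => Subgroup.subset_closure ?_
    interval_cases x <;> simp
  · have := E (powW 19 [0, 1]) [] (by decide +kernel)
    rwa [evalW_powW, evalW_cons, evalW_cons, evalW_nil, mul_one] at this
  · have := E [6, 0, 1] (powW 7 [0, 1] ++ [6]) (by decide +kernel)
    simpa only [evalW_append, evalW_powW, evalW_cons, evalW_nil, mul_one] using this

end

variable (F : Type) [Field F] [Fintype F] [Fact (Fintype.card F = 4)] (ω : F) [Fact (ω ^ 2 + ω + 1 = 0)]

open Cfsg.Agent.Spor Cfsg.Agent.Spor.MX in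
theorem j3_jc : ∃ (z f1 f2 g k v v' : Cfsg.Spor.J3 F ω) (σ : Fin 5 → Cfsg.Spor.J3 F ω),
    JC z σ f1 f2 g k v v' ∧ (f1 * f2) ^ 3 = 1 := by
  have h := (j3m_link F ω).words cj_w1
  refine ⟨_, _, _, _, _, _, _, _, cj_jc_of (fun v w e => h.eq e) fun e => ?_⟩
  have h1 := h.evN (w := powW 180 [14]) (by decide +kernel)
  have h2 := h.evN (w := []) (by decide +kernel)
  refine NM.Model.ne_of_not_beq h1.1 h2.1 cj_n ?_
  rw [h1.2, h2.2, evalW_powW, evalW_cons, evalW_nil, mul_one, show 180 = 60 * 3 from rfl, pow_mul,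
    MJ3.pow_three F ω ((QuotientGroup.eq_one_iff _).1 ((map_pow (MJ3.π F ω) _ _).trans e))]

open Cfsg.Agent.Spor Cfsg.Agent.Spor.MX in
theorem j3_sc : ∃ a x z1 z2 p1 p2 t : Cfsg.Spor.J3 F ω, SC a x z1 z2 p1 p2 t :=
  ⟨_, _, _, _, _, _, _, cj_sc_of (fun _ _ e => ((j3m_link F ω).words cj_w2).eq e)
    (((j3m_link F ω).genLt_eq cj_w3 (range_append _ (allLt_of_zero _) cj_b rfl)).trans (j3m_top F ω))⟩

end Cfsg.Agent.Gr.Pa
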