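import Mathlib
import Cfsg.Agent.Gr.Pa.Abs
import Cfsg.Agent.Spor.ON.Main
import Cfsg.Agent.Spor.Ru.Main

/-! Explicit words for the configurations in the O'Nan and Rudvalis groups. -/

set_option autoImplicit false
set_option maxRecDepth 100000

namespace Cfsg.Agent.Gr.Pa

open Cfsg.Agent.Spor

namespace CertO

section Kit

variable {G α : Type*} [Group G] [MulAction G α] {e : ℕ → α} {n : ℕ} {T : ℕ → ℕ → ℕ} {k : ℕ → G} {M : ℕ}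

theorem eqs (h : Tabs e n T k M) {B : List ℕ} (hB : IsBase e (genLt k M) B) (ws : ℕ → List ℕ)
    (E : List (List ℕ × List ℕ)) (hc : band (lettersLt n B) (allL E fun p =>
      band (lettersLt M (expandW ws p.1)) (band (lettersLt M (expandW ws p.2))
        (agreeL T (expandW ws p.1) (expandW ws p.2) B))) = true) :
    ∀ p ∈ E, evalW (fun y => evalW k (ws y)) p.1 = evalW (fun y => evalW k (ws y)) p.2 := fun p hp => by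
  rw [band_iff, allL_iff] at hc
  rw [← evalW_expandW, ← evalW_expandW]
  exact h.eq_of_base hB hc.1 (hc.2 p hp)

theorem nes (h : Tabs e n T k M) (he : Set.InjOn e (Set.Iio n)) (ws : ℕ → List ℕ) (E : List (List ℕ × ℕ))
    (hc : allL E (fun p => band (blt p.2 n) (band (lettersLt M (expandW ws p.1))
      (!Nat.beq (traceP T (expandW ws p.1) p.2) p.2))) = true) :
    ∀ p ∈ E, evalW (fun y => evalW k (ws y)) p.1 ≠ 1 := fun p hp h1 => by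
  rw [← evalW_expandW] at h1
  exact h.smul_ne he ((allL_iff _ _).1 hc p hp) (by rw [h1, one_smul])

end Kit

def onW : List (List ℕ) :=
  [[0, 5, 3, 2, 3, 1, 5, 4, 2, 3, 2, 4, 3, 2, 3, 5, 2, 3, 4, 2, 3, 5, 2, 0],
   [2],
   [2, 1, 5, 3, 2, 0, 4, 3, 2, 3, 5, 2, 4, 3, 2, 3, 5, 4, 2, 3, 2, 0, 5, 1, 4, 2, 3, 2, 5, 1],
   [2, 3, 5, 2, 3, 2, 3, 5, 4, 2, 3, 4, 2, 1, 5, 3, 1, 5],
   [3, 2, 3, 5, 3, 2, 4, 3, 2, 3, 1, 5, 3, 2, 4, 2, 3, 2, 1, 5],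
   [3, 5, 3, 2, 3, 1, 5, 3, 2, 0, 4, 3, 2, 3, 5, 2, 3, 2],
   [4, 2, 3, 5, 2, 6, 4, 3, 2, 3, 5, 4, 6, 2, 5, 0, 4, 3, 2, 3, 5, 4, 2, 0, 4, 3, 2, 3, 5, 4, 2, 3, 2, 4, 2,
    0, 4, 1, 5, 3, 1],
   [1, 5, 2, 0, 4, 3, 2, 3, 5, 4, 2, 3, 2, 1, 5, 4, 3, 2, 4, 3, 0, 5, 2, 1],
   [0, 4, 5, 2, 3, 2, 4, 2, 3, 2, 3, 5, 3, 2, 4, 3, 2, 3, 5, 2, 3, 2, 1, 5],
   [3, 1, 5, 3, 2, 4, 3, 2, 3, 5, 0, 4, 3, 2, 3, 1, 5, 4, 2, 3, 4, 2, 3, 5, 3, 1, 4],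
   [5, 7, 3, 2, 3, 5, 6, 4, 2, 3, 5, 0, 4, 3, 6, 3, 4, 2, 3, 5, 3, 2, 4, 3, 2, 3, 5, 0, 4, 2, 3, 2, 3, 5, 0,
    4, 2, 3, 2, 0, 3, 5, 3, 2, 4, 3],
   [5, 3, 7, 2, 6, 4, 3, 2, 6, 3, 5, 6, 2, 1, 0, 5, 4, 2, 3, 2, 3, 5, 4, 3, 2, 3, 1, 5, 4, 2, 3, 2, 1, 4, 2,
    3, 0, 2, 4, 5, 3],
   [2, 3, 5, 2, 3, 7, 2, 4, 6, 1, 5, 3, 5, 4, 2, 3, 2, 3, 5, 4, 2, 3, 2, 5, 3, 1, 5]]

def onE : List (List ℕ × List ℕ) :=
  [([0, 0], []), ([1, 1], []), ([2, 2, 2, 2, 2, 2, 2], []), ([0, 2], [2, 0]), ([3, 2], [2, 3]), ([4, 2], [2,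
    4]), ([3, 4], [2, 4, 3]), ([5, 5, 5], []), ([6, 6, 6], []), ([5, 6], [6, 5]), ([0, 5], [5, 0]), ([0, 6],
    [6, 0]), ([5, 2], [2, 2, 5]), ([0, 10], [10, 0]), ([10, 6], [5, 5, 10]), ([0, 11], [11, 0]), ([11, 5, 6],
    [5, 11]), ([0, 12], [12, 0]), ([12, 5, 6, 6], [5, 12]), ([0, 7], [7, 0]), ([8, 0], [7, 8]), ([9, 0], [0,
    7, 9])]

def onN : List (List ℕ × ℕ) :=
  [([2], 1), ([0, 1, 0, 1], 1), ([0, 1, 0, 1, 0, 1, 0, 1], 1), ([0, 1, 0, 1, 0, 1, 0, 1, 0, 1, 0, 1], 1), ([0,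
    1, 0, 1, 0, 1, 0, 1, 0, 1, 0, 1, 0, 1, 0, 1], 1), ([0, 1, 0, 1, 0, 1, 0, 1, 0, 1, 0, 1, 0, 1, 0, 1, 0, 1,
    0, 1], 1), ([0, 1, 0, 1, 0, 1, 0, 1, 0, 1, 0, 1, 0, 1, 0, 1, 0, 1, 0, 1, 0, 1, 0, 1], 1)]

def ruW : List (List ℕ) :=
  [[3, 8, 6, 7, 0, 0, 6, 2, 3, 2, 5, 2, 1, 3, 0, 3],
   [1],
   [3, 8, 1, 1, 3, 3, 5, 0, 2, 4, 4, 2, 1, 5, 6],
   [1, 4, 1, 7, 1, 4, 1, 7],
   [1, 8, 6, 1, 5, 1, 6, 5, 1, 2, 3, 3, 2, 4, 2, 1],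
   [5, 3, 6, 5, 0, 6, 1, 3, 5, 4, 2, 0, 2, 7]]

def ruE : List (List ℕ × List ℕ) :=
  [([0, 0], []), ([1, 0], [5, 1]), ([4, 0], [2, 4]), ([0, 2], [2, 0]), ([3, 3, 3, 3, 3, 3, 3, 3, 3, 3, 3, 3,
    3], []), ([3, 0], [0, 3]), ([3, 2], [2, 3])]

def ruN : List (List ℕ × ℕ) :=
  [([3], 0), ([2, 0], 0), ([0, 5], 0), ([0, 5, 0, 5], 0), ([0, 5, 0, 5, 0, 5], 0), ([0, 5, 0, 5, 0, 5, 0, 5],
    0), ([0, 5, 0, 5, 0, 5, 0, 5, 0, 5], 0), ([0, 5, 0, 5, 0, 5, 0, 5, 0, 5, 0, 5], 0)]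

variable {G : Type*} [Group G]

theorem far_of {x y : G} (h1 : x * y ≠ 1) (h2 : (x * y) ^ 2 ≠ 1) (h3 : (x * y) ^ 3 ≠ 1) (h4 : (x * y) ^ 4 ≠ 1)
    (h5 : (x * y) ^ 5 ≠ 1) (h6 : (x * y) ^ 6 ≠ 1) : Far x y := fun n a b => by
  interval_cases n
  exacts [by rwa [pow_one], h2, h3, h4, h5, h6]

theorem oc_of (a : ℕ → G) (hE : ∀ p ∈ onE, evalW a p.1 = evalW a p.2) (hN : ∀ p ∈ onN, evalW a p.1 ≠ 1) :
    OC (a 0) (a 1) (a 2) (a 3) (a 4) (a 5) (a 6) (a 7) := by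
  simp only [onE, onN, List.forall_mem_cons, evalW_cons, evalW_nil, mul_one] at hE hN
  obtain ⟨e1, e2, e3, e4, e5, e6, e7, e8, e9, e10, e11, e12, e13, e14, e15, e16, e17, e18, e19, e20, e21, e22, -⟩ := hE
  obtain ⟨n0, n1, n2, n3, n4, n5, n6, -⟩ := hN
  have k1 : a 5 * a 2 * (a 5)⁻¹ = a 2 ^ 2 := by rw [e13, pow_two]; group
  refine ⟨e1, ?_, by rw [← e3]; simp only [pow_succ, pow_zero, one_mul, mul_assoc], n0, e4, e5, e6, by rw [e7]; group, by rw [← e8, pow_three],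
    by rw [← e9, pow_three], e10, e11, e12, ?_, e20, isConj_iff.2 ⟨a 8, by rw [e21]; group⟩,
    isConj_iff.2 ⟨a 9, by rw [e22]; group⟩⟩
  · rw [inv_eq_of_mul_eq_one_right e2]
    refine far_of ?_ ?_ ?_ ?_ ?_ ?_ <;> (try simp only [pow_succ, pow_zero, one_mul, mul_assoc]) <;> assumption
  · simp only [List.forall_mem_cons]
    refine ⟨⟨1, Commute.one_right _, .inl (by simpa using k1)⟩, ⟨a 10, e14, .inr ?_⟩, ⟨a 11, e16, .inl ?_⟩,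
      ⟨a 12, e18, .inl ?_⟩, by simp⟩
    · rw [e15, show a 5 * (a 5 * a 10) * (a 10)⁻¹ = a 5 * a 5 by group,
        show a 5 * a 5 * a 2 * (a 5 * a 5)⁻¹ = a 5 * (a 5 * a 2 * (a 5)⁻¹) * (a 5)⁻¹ by group, k1, ← conj_pow, k1,
        ← pow_mul]
    · rw [e17, mul_inv_cancel_right, k1]
    · rw [mul_assoc (a 5) (a 6), e19, mul_inv_cancel_right, k1]

theorem rc_of (a : ℕ → G) (hE : ∀ p ∈ ruE, evalW a p.1 = evalW a p.2) (hN : ∀ p ∈ ruN, evalW a p.1 ≠ 1) :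
    RC (a 0) (a 1) (a 2) (a 3) := by
  simp only [ruE, ruN, List.forall_mem_cons, evalW_cons, evalW_nil, mul_one] at hE hN
  obtain ⟨e1, e2, e3, e4, e5, e6, e7, -⟩ := hE
  obtain ⟨m0, m1, n1, n2, n3, n4, n5, n6, -⟩ := hN
  refine ⟨e1, ?_, isConj_iff.2 ⟨a 4, by rw [e3]; group⟩, fun h => m1 (by rw [h, e1]), e4,
    by rw [← e5]; simp only [pow_succ, pow_zero, one_mul, mul_assoc], m0, e6, e7⟩
  rw [e2, mul_inv_cancel_right]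
  refine far_of ?_ ?_ ?_ ?_ ?_ ?_ <;> (try simp only [pow_succ, pow_zero, one_mul, mul_assoc]) <;> assumption

end CertO

open CertO

theorem on_oc : ∃ z k y p1 p2 r1 r2 e : Cfsg.Spor.ON, OC z k y p1 p2 r1 r2 e :=
  ⟨_, _, _, _, _, _, _, _, oc_of _ (eqs MON.tabs MON.basek (fun i => onW.getD i []) onE (by decide +kernel))
    (nes MON.tabs (finE_injOn _) (fun i => onW.getD i []) onN (by decide +kernel))⟩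

theorem ru_rc : ∃ w k w' g : Cfsg.Spor.Ru, RC w k w' g :=
  ⟨_, _, _, _, rc_of _ (eqs MRu.tabs MRu.basek (fun i => ruW.getD i []) ruE (by decide +kernel))
    (nes MRu.tabs (finE_injOn _) (fun i => ruW.getD i []) ruN (by decide +kernel))⟩

end Cfsg.Agent.Gr.Pa
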