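import Mathlib
import Cfsg.Agent.Gr.M2.ArkB
import Cfsg.Agent.Gr.M2.Tri
import Cfsg.Agent.Gr.Pa.Abs

/-! Sections of the Monster: definitions in coordinates. -/

set_option autoImplicit false

namespace Cfsg.Agent.Gr.Pa

open Subgroup Cfsg.Agent.Spor Cfsg.Agent.Gr.Rk Cfsg.Agent.Gr.Am Cfsg.Agent.Gr.M2

/-- Classes of type four. -/
def T4 (c : LL) : Prop := c ≠ 0 ∧ qL c = 0 ∧ c ∉ ShS
/-- The commutator space of `γ` on the lattice modulo two. -/
def Rg (γ : Co0) (c : LL) : Prop := ∃ v, c = csm γ v + v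
/-- The frames in which both `a` and `b` are sign changes. -/
def Om (a b : Co0) : Set LL := {c | T4 c ∧ Rg a c ∧ Rg b c}
/-- `c` is a union of tetrads of the sextet of `T`. -/
def US (T : Wd) (c : Cd) : Prop := ∀ δ, wt δ = 4 → sy δ = sy T → δ * wd c = 0 ∨ δ * wd c = δ
/-- A trio that is permuted cyclically. -/
def Cy (σ : M24) : Prop := ∃ a ∈ Oct, ∃ b ∈ Oct, wd a * wd b = 0 ∧ pc σ a = b ∧ pc σ b = a + b + om

/-- The O'Nan configuration in `K`. -/
structure OK (y b e : K) (R : Subgroup K) : Prop where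
  y7 : y ^ 7 = 1
  y1 : y ≠ 1
  zy : Commute zz y
  com : y ∈ ⁅centralizer ({y} : Set K), centralizer ({y} : Set K)⁆
  b3 : b ^ 3 = 1
  bR : b ∈ R
  yb : Commute b y
  be : Commute b e
  Rz : ∀ g ∈ R, Commute zz g
  card : Nat.card R = 9 * orderOf b
  nz : ∀ g ∈ R, g ∉ zpowers b → Nz zz y g
  ez : e ∈ ZC
  ez' : zz * e ∈ ZC
  ze : Commute zz e

end Cfsg.Agent.Gr.Pa
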