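import Mathlib
import Cfsg.Agent.Gr.Pa.Defs

/-! Sections of the Monster: involutions over a dodecad (see `stubs/Cfsg/Agent/Gr/Pa/PLAN.md`). -/

set_option autoImplicit false

namespace Cfsg.Agent.Gr.Pa

open Subgroup Cfsg.Agent.Spor Cfsg.Agent.Spor.Leech Cfsg.Agent.Gr.Rk Cfsg.Agent.Gr.Am Cfsg.Agent.Gr.M2

open scoped Pointwise

attribute [local irreducible] sgC cls twoC csm perm negOne pc tq act tau

variable {d : Cd} {s e v v' : K}

namespace Dod

variable {x y g : K} {f : ZMod 2} {σ τ : M24}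

theorem notQ (hd : wt (wd d) = 12) (h : (s, sgC d) ∈ GK) : s ∉ QK := by
  rintro ⟨e, c, rfl⟩
  rcases sgC_pm.1 (frK.pm_of h) with h | h
  · rw [wt_wd_eq_zero.2 h] at hd; omega
  · rw [wt_wd_eq_24.2 h] at hd; omega

theorem comm_u (hd : wt (wd d) = 12) (k : (y, sgC d) ∈ GK) (hf : y ∈ QQ (tq f v0)) (g1 : Commute zz g)
    (g2 : Commute g y) : Commute g (tq f v0) := by
  obtain ⟨γ, hγ⟩ := exists_GK.2 g1.eq
  have h1 := conj_mem' hγ k
  rw [g2.eq, mul_inv_cancel_right] at h1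
  obtain ⟨f', e1⟩ := frK.act _ _ hγ f v0
  rw [csm_v0 (TriA.mon hd (frK.eq_or k h1))] at e1
  by_cases e : f' = f
  · exact mul_inv_eq_iff_eq_mul.1 (e ▸ e1)
  have h3 := (cj_mem_QQ g).2 hf
  rw [g2.eq, mul_inv_cancel_right, e1, z2_ne e, ← tq_mul_zz] at h3
  exact absurd (QQ_zz ▸ mem_of_mul (tq_v0_ZC f) zz_mem_ZC (tq_mem_v0.2 t0_zero.v12)
    (fun e => ZH.om_ne.1 (frK.inj e).2.symm) hf h3) (notQ hd k)

theorem d0_of {α : Cd} {c : LL} (hc : wt (wd c.1) = 12) (he : Ev0 c) (hq : qL c = 0) (h : csm (sgC α) c = c) :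
    D0 α := by
  obtain ⟨a, ha⟩ := exists_wd (sy_eq_zero_iff.1 (co_of_fix h he))
  have hd' : wt (wd (c.1 + om)) = 12 := by have := wt_wd_add_om c.1; omega
  have h3 := dod_sub (e := a) hc (by rw [ha, mul_right_comm, wd_mul_self])
  have h4 := dod_sub (e := α + a) hd' (by
    rw [map_add, map_add, wd_om, ha, mul_add, mul_one, add_mul, mul_right_comm, wd_mul_self, mul_comm,
      wd_add_self, zero_add])
  have k : wt (wd α) ≠ 12 := fun k => by
    rcases (v12_of_fix k h hq).1 with e | e <;> rw [e] at hc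
    · rw [wt_wd_eq_zero.2 rfl] at hc; omega
    · rw [wt_wd_eq_24.2 rfl] at hc; omega
  rcases h3 with rfl | rfl <;> rcases h4 with e | e
  · exact .inl (by simpa using e)
  · rw [add_zero] at e
    exact absurd (e ▸ hd') k
  · exact absurd (cd_eq_of_add e ▸ hc) k
  · exact .inr (add_right_cancel (e.trans (add_comm _ _)))

theorem rad0 (hd : wt (wd d) = 12) (h : (s, sgC d) ∈ GK) (h2 : s * s = 1) (hf : s ∈ QQ (tq 0 v0)) {t : K} {c : Cd}
    (k : (t, sgC c) ∈ GK) (hc : Commute t s) : t ∈ QQ (tq 0 v0) := by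
  have tz : Commute zz t := exists_GK.1 ⟨_, k⟩
  have tu := comm_u hd h hf tz hc
  obtain ⟨r, -, r1, r2, r3, -⟩ := M2.exists_swap
  have back : ∀ x, r * (r⁻¹ * x * r) * r⁻¹ = x := fun x => by group
  rw [← back s] at h h2 hf hc
  rw [← back t] at k hc tz tu ⊢
  generalize r⁻¹ * s * r = s', r⁻¹ * t * r = t' at *
  rw [← r1, cj_mem_QQ, QQ_zz] at hf ⊢
  obtain ⟨e, c', rfl⟩ := hf
  have he : Ev0 c' := by
    have : Commute zz _ := exists_GK.1 ⟨_, h⟩
    rw [← r2, cj_comm] at this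
    exact ev0_iff.2 (tq_comm_iff.1 this.eq)
  have hq : qL c' = 0 := by
    rw [conj_mul, conj_eq_one_iff, frK.sq, ← tq_zero] at h2
    exact (frK.inj h2).1
  have hw : wt (wd c'.1) = 12 := by
    rcases frK.eq_or h (r3 e c' he) with e1 | e1
    · exact (congrArg (fun x => wt (wd x)) (sgC_injective e1)).trans hd
    · rw [← sgC_om, ← sgC_add, add_comm] at e1
      exact (congrArg (fun x => wt (wd x)) (sgC_injective e1)).trans (by have := wt_wd_add_om d; omega)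
  rw [← r1, cj_comm] at tu
  obtain ⟨e2, a, e1⟩ := frK.eq_mul (r3 0 (c, 0) (zero_dotProduct _)) k
  have e3 : t' = tq 0 (c, 0) * (r⁻¹ * tq e2 a * r) := by
    calc t' = r⁻¹ * (r * t' * r⁻¹) * r := by group
      _ = _ := by rw [e1]; group
  obtain ⟨α, hα⟩ := sgn_of_mem (x := r⁻¹ * tq e2 a * r) (f := 0) (by
    rw [← cj_mem_QQ r, r2, back, QQ_zz]; exact tq_QK _ _) (by
    have : Commute (tq 0 (c, 0)) zz := (exists_GK.1 ⟨_, frK.mem 0 (c, 0)⟩).symm
    simpa [e3] using this.inv_left.mul_left tu)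
  have hα' : (t', sgC α) ∈ GK := by simpa [e3] using GK.mul_mem (frK.mem 0 (c, 0)) hα
  exact frK.ker' hα' (sgC_pm.2 (d0_of hw he hq (fix_of_comm hα' (cj_comm.1 hc))))

/-- `x` lies over a monomial element with permutation part `σ`. -/
def Ov (x : K) (σ : M24) : Prop := ∃ c, (x, sgC c * perm σ) ∈ GK

theorem Ov.mul (h : Ov x σ) (k : Ov y τ) : Ov (x * y) (σ * τ) := by
  obtain ⟨a, h⟩ := h
  obtain ⟨b, k⟩ := k
  refine ⟨a + pc σ b, ?_⟩
  rw [sgC_add, map_mul, ← mul_assoc, mul_assoc (sgC a), ← perm_sgC, ← mul_assoc, mul_assoc]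
  exact GK.mul_mem h k

theorem Ov.uniq (h : Ov x σ) (k : Ov x τ) : σ = τ := by
  obtain ⟨a, h⟩ := h
  obtain ⟨b, k⟩ := k
  rcases frK.eq_or k h with e | e
  · exact (mon_eq e).2
  · rw [← sgC_om, ← mul_assoc, ← sgC_add] at e
    exact (mon_eq e).2

theorem ov_one : Ov x 1 ↔ ∃ c, (x, sgC c) ∈ GK := by simp only [Ov, map_one, mul_one]

theorem ov_tq (e : ZMod 2) (a : LL) : Ov (tq e a) 1 := ov_one.2 ⟨0, sgC_zero ▸ frK.mem e a⟩

theorem sq_one {γ : Co0} (h : (x, γ) ∈ GK) (h2 : x * x = 1) : γ * γ = 1 :=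
  (frK.pm_of_one (h2 ▸ GK.mul_mem h h : ((1 : K), γ * γ) ∈ GK)).resolve_right fun k => by
    obtain ⟨ct, rfl, rfl⟩ := mem_GK.1 h
    exact no_lift k h2

theorem ex_ov (hd : wt (wd d) = 12) (h : (s, sgC d) ∈ GK) (h2 : s * s = 1) (x2 : x * x = 1) (xz : Commute zz x)
    (xs : Commute s x) : ∃ σ, Ov x σ ∧ pm σ (wd d) = wd d := by
  obtain ⟨γ, hγ⟩ := exists_GK.2 xz.eq
  have k : γ * sgC d = sgC d * γ := by
    have k1 := sq_one (x := x * s) (γ := γ * sgC d) (GK.mul_mem hγ h) (by rw [xs.mul_mul_mul_comm, x2, h2, mul_one])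
    rw [← inv_eq_of_mul_eq_one_right k1, mul_inv_rev, inv_eq_of_mul_eq_one_right (sq_one hγ x2),
      inv_eq_of_mul_eq_one_right (sgC_mul_self d)]
  obtain ⟨c, σ, rfl⟩ := exists_mon (mem_Mon_of_comm hd k)
  exact ⟨σ, ⟨c, hγ⟩, comm_sgC_iff.1 k⟩

/-- The multiplication table of the four-group. -/
def mt : Fin 4 → Fin 4 → Fin 4 := ![![0, 1, 2, 3], ![1, 0, 3, 2], ![2, 3, 0, 1], ![3, 2, 1, 0]]

theorem mt_eq : ∀ i j, mt i j = 0 ↔ i = j := by decide

theorem four_mul {G : Type*} [Group G] {v v' : G} (v2 : v * v = 1) (v2' : v' * v' = 1) (vv : Commute v v') (i j : Fin 4) :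
    ![1, v, v', v * v'] i * ![1, v, v', v * v'] j = ![1, v, v', v * v'] (mt i j) := by
  have k : ∀ x, v * (v * x) = x := fun x => by rw [← mul_assoc, v2, one_mul]
  have k' : ∀ x, v' * (v * x) = v * (v' * x) := fun x => by rw [← mul_assoc, ← vv.eq, mul_assoc]
  fin_cases i <;> fin_cases j <;> simp [mt, mul_assoc, v2, v2', k, k', ← vv.eq]

theorem pig (hd : wt (wd d) = 12) {a b : Fin 4 → M24} (ha : ∀ i j, a i * a j = a (mt i j)) (hb : ∀ i j, b i * b j = b (mt i j))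
    (sq : ∀ i j, a i * b j * (a i * b j) = 1) (da : ∀ i, pm (a i) (wd d) = wd d) (db : ∀ i, pm (b i) (wd d) = wd d) :
    ∃ i j, (i ≠ 0 ∨ j ≠ 0) ∧ a i * b j = 1 := by
  have a0 : a 0 = 1 := mul_eq_left.1 (ha 0 0)
  have b0 : b 0 = 1 := mul_eq_left.1 (hb 0 0)
  have cm : ∀ i j, Commute (b j) (a i) := fun i j => by
    have k1 := sq i 0
    have k2 := sq 0 j
    rw [b0, mul_one] at k1
    rw [a0, one_mul] at k2
    rw [commute_iff_eq, ← inv_eq_of_mul_eq_one_right (sq i j), mul_inv_rev, inv_eq_of_mul_eq_one_right k1,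
      inv_eq_of_mul_eq_one_right k2]
  have ml : ∀ i j k l, a i * b j * (a k * b l) = a (mt i k) * b (mt j l) := fun i j k l => by
    rw [(cm k j).mul_mul_mul_comm, ha, hb]
  let E : Subgroup MB.PG :=
    { carrier := {g | ∃ i j, g = (a i * b j).1}
      one_mem' := ⟨0, 0, by rw [a0, b0, mul_one]; rfl⟩
      mul_mem' := by
        rintro _ _ ⟨i, j, rfl⟩ ⟨k, l, rfl⟩
        exact ⟨_, _, congrArg Subtype.val (ml i j k l)⟩
      inv_mem' := by
        rintro _ ⟨i, j, rfl⟩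
        exact ⟨i, j, congrArg Subtype.val (inv_eq_of_mul_eq_one_right (sq i j))⟩ }
  have hE : EM (support₂ (wd d)) E := ⟨by rintro _ ⟨i, j, rfl⟩; exact Subtype.prop _, by
    rintro _ ⟨i, j, rfl⟩
    rw [coe_mul, mul_smul, ← support_pm, db, ← support_pm, da], by
    rintro _ ⟨i, j, rfl⟩
    exact congrArg Subtype.val (sq i j)⟩
  by_contra! H
  refine absurd ((Nat.card_le_card_of_injective (fun p : Fin 4 × Fin 4 => (⟨_, p.1, p.2, rfl⟩ : E))
    fun p q e => ?_).trans (hE.card_le_eight (dod_mem hd))) (by simp)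
  have e1 : a p.1 * b p.2 = a q.1 * b q.2 := Subtype.ext (Subtype.mk.inj e)
  have e2 := sq q.1 q.2
  nth_rw 1 [← e1] at e2
  rw [ml] at e2
  by_contra ne
  exact H _ _ (by simpa only [ne_eq, mt_eq, ← not_and_or, ← Prod.ext_iff] using ne) e2

end Dod

open Dod

theorem ex_rad (hd : wt (wd d) = 12) (h : (s, sgC d) ∈ GK) (h2 : s * s = 1) : ∃ f, s ∈ QQ (tq f v0) ∧
    ∀ t c, (t, sgC c) ∈ GK → Commute t s → t ∈ QQ (tq f v0) := by
  obtain ⟨f, hf⟩ := TriA.ex_u hd h2 h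
  refine ⟨f, hf, fun t c k hc => ?_⟩
  rcases z2_cases f with rfl | rfl
  · exact rad0 hd h h2 hf k hc
  obtain ⟨β, hβ⟩ := exists_flip
  have e : tq 0 β * tq 1 v0 * (tq 0 β)⁻¹ = tq 0 v0 := by rw [tq_conj, hβ]; rfl
  rw [← cj_mem_QQ (tq 0 β), e] at hf ⊢
  exact rad0 hd (by simpa using conj_mem' (frK.mem 0 β) h) (by rw [conj_mul, h2]; simp) hf
    (c := c) (by simpa using conj_mem' (frK.mem 0 β) k) (cj_comm.2 hc)

theorem no_dod (hd : wt (wd d) = 12) (h : (s, sgC d) ∈ GK) (h2 : s * s = 1) (e2 : e * e = 1) (ez : Commute zz e)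
    (es : e * s * e = zz * s) (v2 : v * v = 1) (v2' : v' * v' = 1) (vv : Commute v v') (vz : Commute zz v)
    (vz' : Commute zz v') (vs : Commute s v) (vs' : Commute s v')
    (sq : ∀ a ∈ [v, v', v * v'], ∀ b ∈ [v, v', v * v'], (a * (e * b * e)) ^ 2 ∈ [zz, s, zz * s]) : False := by
  obtain ⟨f, -, hf⟩ := ex_rad hd h h2
  have ei : e⁻¹ = e := inv_eq_of_mul_eq_one_right e2
  have hz : (zz * s, sgC d) ∈ GK := by simpa [zz] using GK.mul_mem (frK.mem 1 0) h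
  obtain ⟨ρ, hρ⟩ : ∃ ρ, Ov e ρ := by
    obtain ⟨γ, hγ⟩ := exists_GK.2 ez.eq
    have h1 := conj_mem' hγ h
    rw [ei, es] at h1
    obtain ⟨c, ρ, rfl⟩ := exists_mon (TriA.mon hd (frK.eq_or hz h1))
    exact ⟨ρ, c, hγ⟩
  have o1 : Ov 1 1 := tq_zero ▸ ov_tq 0 0
  have cj : ∀ x, Ov x 1 → Ov (e * x * e) 1 := fun x k => by
    have := (hρ.mul k).mul hρ
    rwa [mul_one, (hρ.mul hρ).uniq (e2 ▸ o1)] at this
  have am := four_mul v2 v2' vv
  have aL : ∀ i : Fin 4, i ≠ 0 → ![1, v, v', v * v'] i ∈ [v, v', v * v'] := fun i => by fin_cases i <;> simp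
  have az : ∀ i : Fin 4, Commute zz (![1, v, v', v * v'] i) ∧ Commute s (![1, v, v', v * v'] i) := fun i => by
    fin_cases i
    exacts [⟨.one_right _, .one_right _⟩, ⟨vz, vs⟩, ⟨vz', vs'⟩, ⟨vz.mul_right vz', vs.mul_right vs'⟩]
  have a0 : ![1, v, v', v * v'] 0 = 1 := rfl
  generalize ![1, v, v', v * v'] = a at am aL az a0
  have a2 : ∀ i, a i * a i = 1 := fun i => by rw [am, (mt_eq i i).2 rfl, a0]
  have bm : ∀ i j, e * a i * e * (e * a j * e) = e * a (mt i j) * e := fun i j => by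
    rw [← am, mul_assoc _ e, ← mul_assoc e, ← mul_assoc e, e2, one_mul, ← mul_assoc, mul_assoc e]
  have b0 : e * a 0 * e = 1 := by rw [a0, mul_one, e2]
  have b2 : ∀ i, e * a i * e * (e * a i * e) = 1 := fun i => by rw [bm, (mt_eq i i).2 rfl, b0]
  have bz : ∀ i, Commute zz (e * a i * e) ∧ Commute s (e * a i * e) := fun i => by
    have k := (ez.mul_right (az i).1).mul_right ez
    have k1 := (cj_comm (g := e)).2 (az i).2
    rw [ei, es] at k1
    exact ⟨k, by simpa using k.inv_left.mul_left k1⟩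
  choose σ hσ dσ using fun i => ex_ov hd h h2 (a2 i) (az i).1 (az i).2
  choose τ hτ dτ using fun i => ex_ov hd h h2 (b2 i) (bz i).1 (bz i).2
  have sq' : ∀ i j, i ≠ 0 → j ≠ 0 → a i * (e * a j * e) * (a i * (e * a j * e)) = zz ∨
      a i * (e * a j * e) * (a i * (e * a j * e)) = s ∨ a i * (e * a j * e) * (a i * (e * a j * e)) = zz * s :=
    fun i j hi hj => by simpa only [pow_two, List.mem_cons, List.not_mem_nil, or_false] using sq _ (aL i hi) _ (aL j hj)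
  have fin : ∀ i j, i ≠ 0 → j ≠ 0 → ¬ Ov (a i * (e * a j * e)) 1 := fun i j hi hj k => by
    obtain ⟨c, k⟩ := ov_one.1 k
    have k1 := (es_QQ (tq_v0_ZC f)).1.sq _ (hf _ c k ((az i).2.mul_right (bz j).2).symm)
    have k2 : a i * (e * a j * e) * (a i * (e * a j * e)) ∈ QK := k1.elim (· ▸ one_mem _) (· ▸ tq_QK _ _)
    rcases sq' i j hi hj with k3 | k3 | k3 <;> rw [k3] at k1 k2
    · exact k1.elim frK.z_ne fun e => ZH.om_ne.1 (frK.inj e).2.symm
    · exact notQ hd h k2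
    · exact notQ hd hz k2
  obtain ⟨i, j, hij, k⟩ := pig hd (fun i j => ((hσ i).mul (hσ j)).uniq (am i j ▸ hσ _))
    (fun i j => ((hτ i).mul (hτ j)).uniq (bm i j ▸ hτ _)) (fun i j => by
      refine (((hσ i).mul (hτ j)).mul ((hσ i).mul (hτ j))).uniq ?_
      by_cases hi : i = 0
      · rwa [hi, a0, one_mul, b2]
      by_cases hj : j = 0
      · rwa [hj, b0, mul_one, a2]
      rcases sq' i j hi hj with k | k | k <;> rw [k]
      exacts [ov_tq 1 0, ov_one.2 ⟨_, h⟩, ov_one.2 ⟨_, hz⟩]) dσ dτ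
  have k1 : Ov (a i * (e * a j * e)) 1 := k ▸ (hσ i).mul (hτ j)
  by_cases hi : i = 0
  · rw [hi, a0, one_mul] at k1
    have k2 := cj _ k1
    rw [← mul_assoc, ← mul_assoc, e2, one_mul, mul_assoc, e2, mul_one] at k2
    exact fin j j (hij.resolve_left (· hi)) (hij.resolve_left (· hi)) (mul_one (1 : M24) ▸ k2.mul k1)
  by_cases hj : j = 0
  · rw [hj, b0, mul_one] at k1
    exact fin i i hi hi (mul_one (1 : M24) ▸ k1.mul (cj _ k1))
  exact fin i j hi hj k1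

end Cfsg.Agent.Gr.Pa
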