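import Mathlib
import Cfsg.Agent.Gr.Pa.Defs
import Cfsg.Agent.Gr.M2.Bas
import Cfsg.Agent.Gr.SubHe

/-! An element of order seven of the Monster with a fixed class does not lie in the commutator
subgroup of its centraliser. -/

set_option autoImplicit false

namespace Cfsg.Agent.Gr.Pa

open Subgroup Cfsg.Agent.Spor Cfsg.Agent.Spor.Leech Cfsg.Agent.Gr.Rk Cfsg.Agent.Gr.Am Cfsg.Agent.Gr.M2

attribute [local irreducible] sgC cls twoC csm perm negOne pc tq act tau

theorem he_two_pts : ∃ (τ : M24) (p q : GolayPt), orderOf τ = 7 ∧ p ≠ q ∧ τ.1 p = p ∧ τ.1 q = q := by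
  classical
  have : Fact (Nat.Prime 7) := ⟨by norm_num⟩
  have : Finite M24 := Nat.finite_of_card_ne_zero (by rw [Golay.card_M24]; norm_num)
  obtain ⟨τ, hτ⟩ := exists_prime_orderOf_dvd_card' (G := M24) 7 (by rw [Golay.card_M24]; norm_num)
  have h1 : τ.1 ^ 7 ^ 1 = 1 := by
    rw [pow_one, ← hτ, ← coe_pow, pow_orderOf_eq_one, coe_one]
  have h3 : Fintype.card GolayPt = 24 := by decide
  have h2 := Equiv.Perm.card_compl_support_modEq (α := GolayPt) (p := 7) (n := 1) h1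
  have h4 : 1 < (τ.1.supportᶜ).card := by
    rw [h3, Nat.ModEq] at h2
    omega
  obtain ⟨p, hp, q, hq, hpq⟩ := Finset.one_lt_card.1 h4
  exact ⟨τ, p, q, hτ, hpq, Equiv.Perm.notMem_support.1 (Finset.mem_compl.1 hp),
    Equiv.Perm.notMem_support.1 (Finset.mem_compl.1 hq)⟩

/-- Two elements of order seven in a group whose order is not divisible by 49. -/
theorem he_conj {G : Type*} [Group G] {S : Subgroup G} [Finite S] (hS : ¬ 7 ^ 2 ∣ Nat.card S)
    {a b : G} (ha : a ∈ S) (hb : b ∈ S) (a7 : a ^ 7 = 1) (b7 : orderOf b = 7) :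
    ∃ k : G, k * a * k⁻¹ ∈ zpowers b := by
  have : Fact (Nat.Prime 7) := ⟨by norm_num⟩
  have h1 : Nat.card (zpowers (⟨b, hb⟩ : S)) = 7 := by
    rw [Nat.card_zpowers, ← orderOf_coe, b7]
  have h2 : (Nat.card S).factorization 7 = 1 := by
    refine le_antisymm ?_ ((Nat.Prime.pow_dvd_iff_le_factorization Fact.out Nat.card_pos.ne').1
      (by rw [pow_one, ← h1]; exact card_subgroup_dvd_card _))
    by_contra h
    exact hS ((Nat.Prime.pow_dvd_iff_le_factorization Fact.out Nat.card_pos.ne').2 (by omega))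
  let P : Sylow 7 S := Sylow.ofCard (zpowers (⟨b, hb⟩ : S)) (by rw [h1, h2, pow_one])
  have h3 : IsPGroup 7 (zpowers (⟨a, ha⟩ : S)) := by
    rw [IsPGroup.iff_card]
    have h4 : orderOf (⟨a, ha⟩ : S) ∣ 7 := orderOf_dvd_of_pow_eq_one (Subtype.ext a7)
    rw [Nat.card_zpowers]
    rcases (Nat.dvd_prime Fact.out).1 h4 with e | e
    · exact ⟨0, by rw [e, pow_zero]⟩
    · exact ⟨1, by rw [e, pow_one]⟩
  obtain ⟨Q, hQ⟩ := h3.exists_le_sylow
  obtain ⟨k, hk⟩ := MulAction.exists_smul_eq S Q P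
  have h5 : k * ⟨a, ha⟩ * k⁻¹ ∈ (P : Subgroup S) := by
    rw [← hk, Sylow.coe_subgroup_smul]
    exact smul_mem_pointwise_smul _ (MulAut.conj k) _ (hQ (mem_zpowers _))
  obtain ⟨n, hn⟩ := h5
  exact ⟨k, n, congrArg Subtype.val hn⟩

theorem he_frame {η : Co0} (h7 : η ^ 7 = 1) {c : LL} (hc : csm η c = c) (h0 : c ≠ 0) :
    ∃ k : Co0, csm η (csm k v0) = csm k v0 := by
  obtain ⟨x, rfl⟩ := cls_surjective c
  obtain ⟨v, hv, h⟩ := MT.exists_short' x
  rw [cls_eq_iff.2 hv] at hc h0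
  have fx : nm v < 64 → η • v = v := fun hl => by
    rw [csm_cls, cls_eq_iff] at hc
    rcases hc.eq_or_neg (by rw [nm_smul]; exact hl.le) hl with e | e
    · exact e
    · have e2 : (η * η) • v = v := by rw [mul_smul, e, smul_neg, e, neg_neg]
      have e3 : ∀ n : ℕ, (η * η) ^ n • v = v := fun n => by
        induction n with
        | zero => rw [pow_zero, one_smul]
        | succ n ih => rw [pow_succ, mul_smul, e2, ih]
      have e4 : (η * η) ^ 4 = η := by
        rw [← pow_two, ← pow_mul, show 2 * 4 = 7 + 1 from rfl, pow_succ, h7, one_mul]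
      exact e4 ▸ e3 4
  obtain ⟨τ, p, q, hτ, hpq, hp, hq⟩ := he_two_pts
  have key : ∀ (u : Λ) (g : Co0), g • v = u → η • v = v → perm τ • u = u →
      Nat.card (MulAction.stabilizer Co0 u) ≠ 0 → ¬ 7 ^ 2 ∣ Nat.card (MulAction.stabilizer Co0 u) →
      ∃ k : Co0, csm η (csm k v0) = csm k v0 := fun u g hg h1 h2 h3 h4 => by
    have := Nat.finite_of_card_ne_zero h3
    obtain ⟨k, n, hn⟩ := he_conj (a := g * η * g⁻¹) (b := perm τ) h4
      (by rw [MulAction.mem_stabilizer_iff, ← hg, mul_smul, mul_smul, inv_smul_smul, h1]) h2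
      (by rw [conj_pow, h7, mul_one, mul_inv_cancel])
      (by rw [orderOf_injective perm perm_injective, hτ])
    have h5 : k * (g * η * g⁻¹) * k⁻¹ ∈ Mon := hn ▸ zpow_mem (perm_mem_Mon τ) n
    refine ⟨(k * g)⁻¹, ?_⟩
    have h6 : η * (k * g)⁻¹ = (k * g)⁻¹ * (k * (g * η * g⁻¹) * k⁻¹) := by group
    rw [← csm_mul, h6, csm_mul, csm_v0 h5]
  rcases h with rfl | h | h | h
  · exact absurd cls_zero h0
  · obtain ⟨g, hg⟩ := exists_smul_eq_v44 h hpq
    refine key _ g hg (fx (by omega)) (by rw [perm_v44, hp, hq]) ?_ ?_ <;>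
      rw [card_stab32 (nm_v44 hpq 1 1)] <;> norm_num
  · obtain ⟨g, hg⟩ := exists_smul_eq_odd1 h p
    refine key _ g hg (fx (by omega)) (by rw [perm_odd1, hp]) ?_ ?_ <;>
      rw [card_stab48 (by rw [nm_odd1]; norm_num)] <;> norm_num
  · obtain ⟨g, hg⟩ := exists_smul_eq_e8 h none
    have e : csm g⁻¹ v0 = cls v := by
      rw [← inv_smul_smul g v, hg, ← csm_cls, cls_e8]
    exact ⟨g⁻¹, by rw [e, hc]⟩

theorem he_split {G H : Type*} [Group G] [Group H] [Group.IsPerfect H]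
    (hH : Cfsg.HasCyclicSchurMultiplier H 1) {y : G} (h1 : y ≠ 1)
    [((zpowers y).subgroupOf (centralizer (zpowers y : Set G))).Normal]
    (e : (centralizer (zpowers y : Set G) ⧸ (zpowers y).subgroupOf (centralizer (zpowers y : Set G))) ≃* H) :
    y ∉ ⁅centralizer ({y} : Set G), centralizer ({y} : Set G)⁆ := by
  have hz : ∀ x : centralizer (zpowers y : Set G),
      QuotientGroup.mk' ((zpowers y).subgroupOf (centralizer (zpowers y : Set G))) x = 1 →
      x ∈ center (centralizer (zpowers y : Set G)) := fun x hx => mem_center_iff.2 fun g =>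
    Subtype.ext (g.2 x.1 ((MT.ker_mk_subgroupOf x).1 hx)).symm
  obtain ⟨η, hη⟩ := Ch.exists_lift_of_trivial_multiplier hH e.symm.toMonoidHom
    (QuotientGroup.mk'_surjective _) hz
  have hη' : ∀ a, QuotientGroup.mk' _ (η a) = e.symm a := fun a => DFunLike.congr_fun hη a
  rw [← Sub.cz_eq]
  intro hy
  have h2 : ⁅centralizer (zpowers y : Set G), centralizer (zpowers y : Set G)⁆ ≤
      ((centralizer (zpowers y : Set G)).subtype.comp η).range := by
    refine commutator_le.2 fun a ha b hb => ?_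
    have d : ∀ x : centralizer (zpowers y : Set G), ∃ u, ∃ w ∈ center (centralizer (zpowers y : Set G)),
        x = η u * w := fun x => ⟨e (QuotientGroup.mk' _ x), (η (e (QuotientGroup.mk' _ x)))⁻¹ * x,
      hz _ (by rw [map_mul, map_inv, hη', MulEquiv.symm_apply_apply, inv_mul_cancel]), by group⟩
    obtain ⟨u, w, hw, e1⟩ := d ⟨a, ha⟩
    obtain ⟨u', w', hw', e2⟩ := d ⟨b, hb⟩
    refine ⟨u * u' * u⁻¹ * u'⁻¹, ?_⟩
    have e3 : η (u * u' * u⁻¹ * u'⁻¹) = ⟨a, ha⟩ * ⟨b, hb⟩ * (⟨a, ha⟩ : centralizer (zpowers y : Set G))⁻¹ *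
        (⟨b, hb⟩ : centralizer (zpowers y : Set G))⁻¹ := by
      rw [e1, e2, map_mul, map_mul, map_mul, map_inv, map_inv]
      have c1 := mem_center_iff.1 hw
      have c2 := mem_center_iff.1 hw'
      calc _ = η u * (w * w⁻¹) * η u' * (η u)⁻¹ * (w' * w'⁻¹) * (η u')⁻¹ := by group
        _ = η u * w * (w⁻¹ * η u' * w) * (w⁻¹ * ((η u)⁻¹ * w')) * w'⁻¹ * (η u')⁻¹ := by
          rw [mul_assoc w⁻¹ (η u'), c1 (η u')]
          have : w⁻¹ * ((η u)⁻¹ * w') = (η u)⁻¹ * w' * w⁻¹ := by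
            rw [eq_mul_inv_iff_mul_eq, mul_assoc, c1 ((η u)⁻¹ * w'), inv_mul_cancel_left]
          rw [this]
          have : η u' * ((η u)⁻¹ * w' * w⁻¹) = w⁻¹ * (η u' * ((η u)⁻¹ * w')) := by
            rw [eq_inv_mul_iff_mul_eq, ← c1]; group
          calc _ = η u * w * (w⁻¹ * (η u' * ((η u)⁻¹ * w'))) * w'⁻¹ * (η u')⁻¹ := by group
            _ = _ := by rw [← this]; group
        _ = _ := by
          rw [mul_assoc w⁻¹ (η u'), c1 (η u'), inv_mul_cancel_left, c2 (η u)⁻¹, ← mul_assoc w⁻¹, c2 w⁻¹]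
          group
    exact congrArg Subtype.val e3
  obtain ⟨a, ha⟩ := h2 hy
  have h3 : e.symm a = 1 := by
    rw [← hη', MT.ker_mk_subgroupOf]
    exact ⟨1, (zpow_one y).trans ha.symm⟩
  rw [e.symm.map_eq_one_iff] at h3
  exact h1 (by rw [← ha, h3, map_one])

theorem on_he {y : K} {η : Co0} {c : LL} (h7 : y ^ 7 = 1) (h1 : y ≠ 1) (h : (y, η) ∈ GK) (hc : csm η c = c)
    (h0 : c ≠ 0) : y ∉ ⁅centralizer ({y} : Set K), centralizer ({y} : Set K)⁆ := by
  have : Fact (Nat.Prime 7) := ⟨by norm_num⟩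
  have := finite_K
  have hy : orderOf y = 7 := orderOf_eq_prime h7 h1
  obtain ⟨η', h', e7⟩ : ∃ η', (y, η') ∈ GK ∧ η' ^ 7 = 1 := by
    have k : ((1 : K), η ^ 7) ∈ GK := by simpa [h7] using GK.pow_mem h 7
    rcases frK.pm_of_one k with e | e
    · exact ⟨η, h, e⟩
    · refine ⟨negOne * η, frK.mem_neg h, ?_⟩
      rw [Commute.mul_pow (negOne_comm η).symm, e, show 7 = 2 * 3 + 1 from rfl, pow_succ, pow_mul, pow_two,
        negOne_mul_self, one_pow, one_mul, negOne_mul_self]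
  obtain ⟨k, hk⟩ := he_frame e7 ((frK.csm_eq h h' c).trans hc) h0
  have n0 : csm k v0 ≠ 0 := fun e => om_ne_zero (congrArg Prod.fst
    (ActH.csm_injective k (e.trans (csm_zero k).symm)))
  obtain ⟨s, hs, hz, ys⟩ : ∃ s, s = tq 0 (csm k v0) ∧ s ∈ ZC ∧ s * y = y * s := by
    refine ⟨_, rfl, ?_, ?_⟩
    · obtain ⟨g, hg⟩ := frK.surj k
      obtain ⟨e, he⟩ : ∃ e, g * tq e v0 * g⁻¹ = tq 0 (csm k v0) := by
        obtain ⟨ε, hε⟩ := frK.exists_ac hg
        exact ⟨ε v0, by rw [hε, z2_add_self]⟩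
      rw [← he, conj_mem_ZC, tq_ZC (fun e => om_ne_zero (congrArg Prod.fst e))]
      have e1 : v0 = cls (e8 none) := (cls_e8 none).symm
      refine ⟨by simp [qL], ?_⟩
      rw [e1]
      exact cls_not_mem_ShS (by rw [nm_e8]) (by rw [nm_e8]; norm_num)
    · obtain ⟨ε, hε⟩ := frK.exists_ac h'
      have a1 : ∀ e, y * tq e (csm k v0) * y⁻¹ = tq (e + ε (csm k v0)) (csm k v0) := fun e => by
        rw [hε, hk]
      have a2 : Commute (y * y) (tq 0 (csm k v0)) := by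
        refine mul_inv_eq_iff_eq_mul.1 ?_
        have : y * y * tq 0 (csm k v0) * (y * y)⁻¹ = y * (y * tq 0 (csm k v0) * y⁻¹) * y⁻¹ := by group
        rw [this, a1, a1, zero_add, z2_add_self]
      have a3 : (y * y) ^ 4 = y := by
        rw [← pow_two, ← pow_mul, show 2 * 4 = 7 + 1 from rfl, pow_succ, h7, one_mul]
      exact (a3 ▸ a2.pow_left 4).symm
  have sq : s ∈ QK := mem_QK.2 ⟨_, _, hs⟩
  have sz : s ≠ zz := fun e => n0 (frK.inj (hs.symm.trans e)).2
  obtain ⟨g, hg⟩ := mem_ZC.1 hz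
  have e0 : g⁻¹ * zz * g⁻¹⁻¹ = s := by rw [← hg]; group
  have hcj := mdata.card_joint (mdata.pair (e0 ▸ sq) (e0 ▸ sz))
  rw [e0] at hcj
  obtain ⟨e⟩ := S5417.result zz _ isOfMonsterType s
    ⟨mem_centralizer_singleton_iff.2 (CL.es2.z_comm _ sq).symm, sq⟩
    (isConj_iff.2 ⟨g⁻¹, e0⟩) sz (zpowers y)
    (zpowers_le.2 (MT.mem_centralizer_pair.2 ⟨exists_GK.1 ⟨_, h⟩, ys⟩)) (by
      rw [hcj, MT.factorization_joint (k := 1) (by norm_num) (by norm_num) (by norm_num), pow_one,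
        Nat.card_zpowers, hy])
  have := S1695.result.1
  have := Sub.perfect_of_card (G := Cfsg.Spor.He) (by rw [S1695.result.2]; norm_num)
  exact he_split S2049.result h1 e

end Cfsg.Agent.Gr.Pa
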