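import Mathlib
import Cfsg.Agent.Gr.Pa.Abs

/-! Lifting the local configurations through a central extension of order one or three. -/

set_option autoImplicit false

namespace Cfsg.Agent.Gr.Pa

open Subgroup

variable {A X : Type} [Group A] [Group X] {π : A →* X}

namespace C3

theorem k3 (h : C3 π) {k : A} (hk : π k = 1) : k ^ 3 = 1 :=
  orderOf_dvd_iff_pow_eq_one.1 ((orderOf_dvd_natCard π.ker hk).trans h.card)

theorem kc (h : C3 π) {k : A} (hk : π k = 1) (a : A) : Commute a k := mem_center_iff.1 (h.cen hk) a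

theorem uniq (h : C3 π) {n : ℕ} (hn : n.Coprime 3) {a b : A} (ha : a ^ n = 1) (hb : b ^ n = 1)
    (e : π a = π b) : a = b := by
  have hk : π (a⁻¹ * b) = 1 := by rw [map_mul, map_inv, e, inv_mul_cancel]
  have h1 := (h.kc hk a).mul_pow n
  rw [mul_inv_cancel_left, ha, hb, one_mul] at h1
  have := pow_gcd_eq_one.2 ⟨h1.symm, h.k3 hk⟩
  rwa [hn, pow_one, inv_mul_eq_one] at this

theorem ex (h : C3 π) {n : ℕ} (hn : n.Coprime 3) {x : X} (hx : x ^ n = 1) :
    ∃ a, π a = x ∧ a ^ n = 1 := by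
  obtain ⟨a, rfl⟩ := h.surj x
  obtain ⟨m, h1, h2⟩ := Nat.chineseRemainder hn 1 0
  refine ⟨a ^ m, by rw [map_pow, pow_eq_pow_of_modEq h1 hx, pow_one], ?_⟩
  rw [← pow_mul, mul_comm, pow_mul, pow_eq_pow_of_modEq h2 (h.k3 (by rw [map_pow, hx])), pow_zero]

theorem u2 (h : C3 π) {a b : A} (ha : a * a = 1) (hb : b * b = 1) (e : π a = π b) : a = b :=
  h.uniq (n := 2) (by decide) (by rwa [pow_two]) (by rwa [pow_two]) e

theorem e2 (h : C3 π) {x : X} (hx : x * x = 1) : ∃ a, π a = x ∧ a * a = 1 := by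
  simpa only [pow_two] using h.ex (n := 2) (by decide) (x := x) (by rwa [pow_two])

theorem com (h : C3 π) {n : ℕ} (hn : n.Coprime 3) {a b : A} (ha : a ^ n = 1)
    (e : Commute (π a) (π b)) : Commute a b :=
  (mul_inv_eq_iff_eq_mul.1 (h.uniq hn (by rw [conj_pow, ha, mul_one, mul_inv_cancel]) ha (by
    rw [map_mul, map_mul, map_inv, ← e.eq, mul_inv_cancel_right]))).symm

theorem c2 (h : C3 π) {a b : A} (ha : a * a = 1) (e : Commute (π a) (π b)) : Commute a b :=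
  h.com (n := 2) (by decide) (by rwa [pow_two]) e

end C3

namespace Lift

theorem cj2 {a : A} (h : a * a = 1) (g : A) : g * a * g⁻¹ * (g * a * g⁻¹) = 1 := by
  rw [conj_mul, h, mul_one, mul_inv_cancel]

theorem mul2 {a b : A} (ha : a * a = 1) (hb : b * b = 1) (c : Commute a b) : a * b * (a * b) = 1 := by
  rw [c.symm.mul_mul_mul_comm, ha, hb, one_mul]

theorem farL {a k : A} (h : Far (π a) (π k * π a * (π k)⁻¹)) : Far a (k * a * k⁻¹) :=
  fun n h1 h2 e => h n h1 h2 (by simpa using congrArg π e)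

theorem farM (hι : Function.Injective π) {a k : A} (h : Far a (k * a * k⁻¹)) :
    Far (π a) (π k * π a * (π k)⁻¹) := fun n h1 h2 e => h n h1 h2 (hι (by simpa using e))

theorem act (h : C3 π) {z g : A} {σ : Fin 5 → A} {p : Fin 5 → Fin 5} (z2 : z * z = 1)
    (s2 : ∀ i, σ i * σ i = 1) (zs : ∀ i, Commute z (σ i))
    (H : Act (π z) (fun i => π (σ i)) (π g) p) : Act z σ g p :=
  ⟨h.c2 z2 H.1, fun i => (H.2 i).imp (fun e => h.u2 (cj2 (s2 i) g) (s2 _) (by simpa using e))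
    fun e => h.u2 (cj2 (s2 i) g) (mul2 z2 (s2 _) (zs _)) (by simpa using e)⟩

theorem act' {z g : A} {σ : Fin 5 → A} {p : Fin 5 → Fin 5} (H : Act z σ g p) :
    Act (π z) (fun i => π (σ i)) (π g) p :=
  ⟨H.1.map π, fun i => (H.2 i).imp (fun e => by simpa using congrArg π e)
    fun e => by simpa using congrArg π e⟩

theorem sqL (h : C3 π) {a c w : A} (ha : a * a = 1) (hc : c * c = 1) (hw : w * w = 1)
    (e : π ((a * c) ^ 2) = π w) : (a * c) ^ 2 = w := by
  have i : ∀ {x : A}, x * x = 1 → x⁻¹ = x := inv_eq_of_mul_eq_one_right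
  have e1 : π (a * c * a⁻¹) = π (w * c) := by
    rw [map_mul π w, ← e, ← map_mul, pow_two, mul_assoc (a * c) (a * c), mul_assoc a c c, hc, i ha,
      mul_one]
  have e2 : π ((w * c)⁻¹) = π (w * c) := by rw [map_inv, ← e1, ← map_inv, i (cj2 hc a)]
  rw [mul_inv_rev, i hc, i hw, map_mul, map_mul] at e2
  have := h.u2 (cj2 hc a) (mul2 hw hc (h.c2 hw e2.symm)) e1
  rw [pow_two, ← mul_assoc, ← i ha, i ha, show a * c * a = w * c by rw [← this, i ha], mul_assoc, hc,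
    mul_one]

theorem prod2 {z : A} {σ : Fin 5 → A} (z2 : z * z = 1) (s2 : ∀ i, σ i * σ i = 1)
    (zs : ∀ i, Commute z (σ i)) (an : ∀ i j, i ≠ j → σ i * σ j * σ i = z * σ j) :
    σ 0 * σ 1 * σ 2 * σ 3 * σ 4 * (σ 0 * σ 1 * σ 2 * σ 3 * σ 4) = 1 := by
  have r1 : ∀ w, z * (z * w) = w := fun w => by rw [← mul_assoc, z2, one_mul]
  have r2 : ∀ i w, σ i * (σ i * w) = w := fun i w => by rw [← mul_assoc, s2, one_mul]
  have r3 : ∀ i w, σ i * (z * w) = z * (σ i * w) := fun i w => by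
    rw [← mul_assoc, ← (zs i).eq, mul_assoc]
  have r4 : ∀ i j, i ≠ j → ∀ w, σ i * (σ j * w) = z * (σ j * (σ i * w)) := fun i j h w => by
    rw [← mul_assoc z, ← an i j h, mul_assoc, r2, mul_assoc]
  rw [← mul_one (σ 4)]
  simp only [mul_assoc, one_mul, r1, r2, r3, r4 1 0 (by decide), r4 2 0 (by decide),
    r4 3 0 (by decide), r4 4 0 (by decide), r4 2 1 (by decide), r4 3 1 (by decide),
    r4 4 1 (by decide), r4 3 2 (by decide), r4 4 2 (by decide), r4 4 3 (by decide)]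

theorem conj (h : C3 π) {a b : A} (ha : a * a = 1) (hb : b * b = 1) (e : IsConj (π a) (π b)) :
    IsConj a b := by
  obtain ⟨c, hc⟩ := isConj_iff.1 e
  obtain ⟨c, rfl⟩ := h.surj c
  exact isConj_iff.2 ⟨c, h.u2 (cj2 ha c) hb (by simpa using hc)⟩

theorem sq_of_conj {a b : X} (ha : a * a = 1) (e : IsConj a b) : b * b = 1 := by
  obtain ⟨c, rfl⟩ := isConj_iff.1 e
  exact cj2 ha c

theorem nz_ne {z y g : X} (y7 : y ^ 7 = 1) (y1 : y ≠ 1) (H : Nz z y g) : g ≠ 1 := by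
  rintro rfl
  obtain ⟨h, -, e | e⟩ := H <;> simp only [mul_one, mul_inv_cancel, one_mul, inv_one] at e
  · exact y1 (by rwa [pow_two, left_eq_mul] at e)
  · rw [pow_succ, right_eq_mul] at e
    exact y1 (by simpa using pow_gcd_eq_one.2 ⟨y7, e⟩)

theorem nz_inv {z y g : X} (y7 : y ^ 7 = 1) (H : Nz z y g) : Nz z y g⁻¹ := by
  obtain ⟨h, hz, e⟩ := H
  refine ⟨h, hz, ?_⟩
  rw [show h * g⁻¹ * h⁻¹ = (h * g * h⁻¹)⁻¹ by group]
  generalize h * g * h⁻¹ = u at e
  have k : ∀ n, u * y * u⁻¹ = y ^ n → (u⁻¹ * y * u⁻¹⁻¹) ^ n = y := fun n e => by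
    rw [conj_pow, ← e]; group
  have k8 : (u⁻¹ * y * u⁻¹⁻¹) ^ 8 = u⁻¹ * y * u⁻¹⁻¹ := by
    rw [conj_pow, pow_succ, y7, one_mul]
  rcases e with e | e
  · exact .inr (by rw [← k8, show 8 = 2 * 4 from rfl, pow_mul, k 2 e])
  · exact .inl (by rw [← k8, show 8 = 4 * 2 from rfl, pow_mul, k 4 e])

theorem nz (h : C3 π) {z y g : A} (z2 : z * z = 1) (y7 : y ^ 7 = 1) (H : Nz (π z) (π y) (π g)) :
    Nz z y g := by
  obtain ⟨c, hc, e⟩ := H
  obtain ⟨c, rfl⟩ := h.surj c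
  have k : ∀ n, (y ^ n) ^ 7 = 1 := fun n => by rw [← pow_mul, mul_comm, pow_mul, y7, one_pow]
  refine ⟨c, h.c2 z2 hc, e.imp (fun e => ?_) fun e => ?_⟩ <;>
    exact h.uniq (n := 7) (by decide) (by rw [conj_pow, y7, mul_one, mul_inv_cancel]) (k _)
      (by simpa only [map_mul, map_inv, map_pow] using e)

theorem nz' {z y g : A} (H : Nz z y g) : Nz (π z) (π y) (π g) := by
  obtain ⟨c, hc, e⟩ := H
  refine ⟨π c, hc.map π, e.imp (fun e => ?_) fun e => ?_⟩ <;>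
    simpa only [map_mul, map_inv, map_pow] using congrArg π e

/-- The group of order nine on two commuting generators. -/
def nine {a b : X} (ha : a ^ 3 = 1) (hb : b ^ 3 = 1) (c : Commute a b) :
    Multiplicative (ZMod 3 × ZMod 3) →* X :=
  MonoidHom.mk' (fun x => a ^ x.toAdd.1.val * b ^ x.toAdd.2.val) fun x y => by
    simp only [toAdd_mul, Prod.fst_add, Prod.snd_add, ZMod.val_add]
    rw [← pow_eq_pow_mod _ ha, ← pow_eq_pow_mod _ hb, pow_add, pow_add,
      (c.pow_pow _ _).mul_mul_mul_comm]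

theorem nine_nz {z k y p1 p2 r1 r2 e : X} (H : OC z k y p1 p2 r1 r2 e)
    (x : Multiplicative (ZMod 3 × ZMod 3)) (hx : x ≠ 1) : Nz z y (nine H.r13 H.r23 H.rr x) := by
  have k : ∀ x : Multiplicative (ZMod 3 × ZMod 3), x ≠ 1 → ∃ u ∈ [((1, 0) : ZMod 3 × ZMod 3), (0, 1),
      (1, 1), (1, 2)], x = .ofAdd u ∨ x = (Multiplicative.ofAdd u)⁻¹ := by decide
  have l : ∀ u ∈ [((1, 0) : ZMod 3 × ZMod 3), (0, 1), (1, 1), (1, 2)],
      Nz z y (nine H.r13 H.r23 H.rr (.ofAdd u)) := by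
    simp only [List.forall_mem_cons, List.not_mem_nil, false_imp_iff, implies_true, and_true]
    refine ⟨?_, ?_, ?_, ?_⟩
    · exact show Nz z y (r1 ^ 1 * r2 ^ 0) by simpa using H.nz r1 (by simp)
    · exact show Nz z y (r1 ^ 0 * r2 ^ 1) by simpa using H.nz r2 (by simp)
    · exact show Nz z y (r1 ^ 1 * r2 ^ 1) by simpa using H.nz (r1 * r2) (by simp)
    · exact show Nz z y (r1 ^ 1 * r2 ^ 2) by
        rw [pow_one, pow_two, ← mul_assoc]; exact H.nz _ (by simp)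
  obtain ⟨u, hu, o | o⟩ := k x hx
  · exact o ▸ l u hu
  · rw [o, map_inv]; exact nz_inv H.y7 (l u hu)

end Lift

open Lift

theorem JC.lift (h : C3 π) {z f1 f2 g k v v' : X} {σ : Fin 5 → X} (H : JC z σ f1 f2 g k v v')
    (hx : (f1 * f2) ^ 3 = 1) : ∃ (z f1 f2 g k v v' : A) (σ : Fin 5 → A), JC z σ f1 f2 g k v v' := by
  obtain ⟨z, rfl, z2⟩ := h.e2 H.z2
  obtain ⟨v, rfl, v2⟩ := h.e2 H.v2
  obtain ⟨v', rfl, v2'⟩ := h.e2 H.v2'
  obtain ⟨f1, rfl, o1⟩ := h.ex (n := 5) (by decide) H.o1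
  obtain ⟨f2, rfl, o2⟩ := h.ex (n := 5) (by decide) H.o2
  obtain ⟨g, rfl⟩ := h.surj g
  obtain ⟨k, rfl⟩ := h.surj k
  choose s hs s2 using fun i => h.e2 (H.s2 i)
  obtain rfl : σ = fun i => π (s i) := funext fun i => (hs i).symm
  have zs : ∀ i, Commute z (s i) := fun i => h.c2 z2 (H.zs i)
  have an : ∀ i j, i ≠ j → s i * s j * s i = z * s j := fun i j o =>
    h.u2 (by simpa [inv_eq_of_mul_eq_one_right (s2 i)] using cj2 (s2 j) (s i))
      (mul2 z2 (s2 j) (zs j)) (by simpa using H.anti i j o)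
  have vv := h.c2 v2 H.vv
  have m : ∀ a ∈ [v, v', v * v'], a * a = 1 ∧ π a ∈ [π v, π v', π v * π v'] := by
    simp [v2, v2', mul2 v2 v2' vv]
  refine ⟨z, f1, f2, g, k, v, v', s, z2, farL H.far, s2, zs, an, H.prod.imp
    (fun e => h.u2 (prod2 z2 s2 zs an) (mul_one 1) (by simpa using e))
    (fun e => h.u2 (prod2 z2 s2 zs an) z2 (by simpa using e)), act h z2 s2 zs H.a1,
    act h z2 s2 zs H.a2, o1, o2, ?_, h.u2 (cj2 z2 g) (s2 0) (by simpa using H.gz),
    act h z2 s2 zs (by simpa using H.b1), act h z2 s2 zs (by simpa using H.b2), v2, v2', vv,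
    h.c2 z2 H.vz, h.c2 z2 H.vz', h.c2 (s2 0) H.vs, h.c2 (s2 0) H.vs', fun a ha b hb => ?_⟩
  · rw [show 9 = 3 * 3 from rfl, pow_mul]
    exact h.k3 (by simpa using hx)
  · have k := H.sq _ (m a ha).2 _ (m b hb).2
    have c : s 1 * b * s 1 * (s 1 * b * s 1) = 1 := by
      simpa [inv_eq_of_mul_eq_one_right (s2 1)] using cj2 (m b hb).1 (s 1)
    simp only [List.mem_cons, List.not_mem_nil, or_false] at k ⊢
    exact k.imp (fun e => sqL h (m a ha).1 c z2 (by simpa using e)) fun k => k.imp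
      (fun e => sqL h (m a ha).1 c (s2 0) (by simpa using e))
      fun e => sqL h (m a ha).1 c (mul2 z2 (s2 0) (zs 0)) (by simpa using e)

theorem JC.map {G : Type} [Group G] (ι : A →* G) (hι : Function.Injective ι) {z f1 f2 g k v v' : A} {σ : Fin 5 → A}
    (H : JC z σ f1 f2 g k v v') : JC (ι z) (fun i => ι (σ i)) (ι f1) (ι f2) (ι g) (ι k) (ι v) (ι v') := by
  refine ⟨by simpa using congrArg ι H.z2, farM hι H.far, fun i => by simpa using congrArg ι (H.s2 i),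
    fun i => (H.zs i).map ι, fun i j o => by simpa using congrArg ι (H.anti i j o),
    H.prod.imp (fun e => by simpa using congrArg ι e) fun e => by simpa using congrArg ι e,
    act' H.a1, act' H.a2, by simpa using congrArg ι H.o1, by simpa using congrArg ι H.o2,
    by simpa using congrArg ι H.ox, by simpa using congrArg ι H.gz,
    by simpa using act' (π := ι) H.b1, by simpa using act' (π := ι) H.b2,
    by simpa using congrArg ι H.v2, by simpa using congrArg ι H.v2', H.vv.map ι, H.vz.map ι,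
    H.vz'.map ι, H.vs.map ι, H.vs'.map ι, fun a ha b hb => ?_⟩
  have m : ∀ a ∈ [ι v, ι v', ι v * ι v'], ∃ a' ∈ [v, v', v * v'], ι a' = a := by simp
  obtain ⟨a, ha', rfl⟩ := m a ha
  obtain ⟨b, hb', rfl⟩ := m b hb
  simpa using List.mem_map_of_mem (f := ι) (H.sq a ha' b hb')

theorem RC.lift (h : C3 π) {w k w' g : X} (H : RC w k w' g) : ∃ w k w' g : A, RC w k w' g := by
  obtain ⟨w, rfl, w2⟩ := h.e2 H.w2
  obtain ⟨w', rfl, w2'⟩ := h.e2 (sq_of_conj H.w2 H.cw)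
  obtain ⟨g, rfl, g13⟩ := h.ex (n := 13) (by decide) H.g13
  obtain ⟨k, rfl⟩ := h.surj k
  exact ⟨w, k, w', g, w2, farL H.far, conj h w2 w2' H.cw, fun e => H.ne (by rw [e]), h.c2 w2 H.ww,
    g13, fun e => H.g1 (by rw [e, map_one]), (h.c2 w2 H.gw.symm).symm, (h.c2 w2' H.gw'.symm).symm⟩

theorem RC.map {G : Type} [Group G] (ι : A →* G) (hι : Function.Injective ι) {w k w' g : A} (H : RC w k w' g) :
    RC (ι w) (ι k) (ι w') (ι g) :=
  ⟨by simpa using congrArg ι H.w2, farM hι H.far, ι.map_isConj H.cw, hι.ne H.ne, H.ww.map ι,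
    by simpa using congrArg ι H.g13, fun e => H.g1 (hι (by rw [e, map_one])), H.gw.map ι, H.gw'.map ι⟩

theorem OC.lift {G : Type} [Group G] (h : C3 π) (ι : A →* G) (hι : Function.Injective ι)
    {z k y p1 p2 r1 r2 e : X} (H : OC z k y p1 p2 r1 r2 e) : ∃ (z k y b e : G) (R : Subgroup G),
      z * z = 1 ∧ Far z (k * z * k⁻¹) ∧ y ^ 7 = 1 ∧ y ≠ 1 ∧ Commute z y ∧
      y ∈ ⁅centralizer ({y} : Set G), centralizer ({y} : Set G)⁆ ∧ b ^ 3 = 1 ∧ b ∈ R ∧ Commute b y ∧ Commute b e ∧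
      (∀ g ∈ R, Commute z g) ∧ Nat.card R = 9 * orderOf b ∧ (∀ g ∈ R, g ∉ zpowers b → Nz z y g) ∧
      IsConj z e ∧ IsConj z (z * e) ∧ Commute z e := by
  obtain ⟨z, rfl, z2⟩ := h.e2 H.z2
  obtain ⟨e, rfl, e2⟩ := h.e2 (sq_of_conj H.z2 H.ce)
  obtain ⟨y, rfl, y7⟩ := h.ex (n := 7) (by decide) H.y7
  obtain ⟨k, rfl⟩ := h.surj k
  obtain ⟨p1, rfl⟩ := h.surj p1
  obtain ⟨p2, rfl⟩ := h.surj p2
  have := Fact.mk Nat.prime_three
  obtain ⟨b, hb⟩ := π.ker.isCyclic_iff_exists_zpowers_eq_top.1 (isCyclic_of_card_dvd_prime h.card)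
  have bk : π b = 1 := show b ∈ π.ker from hb ▸ mem_zpowers b
  have ze := h.c2 z2 H.ze
  have fi : Function.Injective (nine H.r13 H.r23 H.rr) := (injective_iff_map_eq_one _).2 fun x e =>
    by_contra fun o => nz_ne H.y7 H.y1 (nine_nz H x o) e
  refine ⟨ι z, ι k, ι y, ι b, ι e, ((nine H.r13 H.r23 H.rr).range.comap π).map ι,
    by simpa using congrArg ι z2, farM hι (farL H.far), by simpa using congrArg ι y7,
    fun o => H.y1 (by rw [hι (o.trans (map_one ι).symm), map_one]), (h.c2 z2 H.zy).map ι, ?_,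
    by simpa using congrArg ι (h.k3 bk), mem_map_of_mem _ (mem_comap.2 (bk ▸ one_mem _)),
    (h.kc bk y).symm.map ι, (h.kc bk e).symm.map ι, ?_, ?_, ?_, ι.map_isConj (conj h z2 e2 H.ce),
    by simpa using ι.map_isConj (conj h z2 (mul2 z2 e2 ze) (by simpa using H.cze)), ze.map ι⟩
  · have c : ∀ p : A, Commute (π p) (π y) → ι p ∈ centralizer ({ι y} : Set G) := fun p hp =>
      mem_centralizer_singleton_iff.2 ((h.com (n := 7) (by decide) y7 hp.symm).symm.map ι)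
    have hk : π (y⁻¹ * (p1 * p2 * p1⁻¹ * p2⁻¹)) = 1 := by simp [H.pp]
    have h1 := (h.kc hk y).mul_pow 15
    rw [mul_inv_cancel_left, show 15 = 3 * 5 from rfl, pow_mul (y⁻¹ * _), h.k3 hk, one_pow, mul_one,
      show 3 * 5 = 7 * 2 + 1 from rfl, pow_succ y, pow_mul y, y7, one_pow, one_mul] at h1
    have := pow_mem (commutator_mem_commutator (c p1 H.p1y) (c p2 H.p2y)) (7 * 2 + 1)
    rwa [← map_commutatorElement, ← map_pow, commutatorElement_def, h1] at this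
  · rintro _ ⟨a, ⟨x, hx⟩, rfl⟩
    exact (h.c2 z2 (hx ▸ (H.zr1.pow_right _).mul_right (H.zr2.pow_right _))).map ι
  · have hk : π.ker ≤ (nine H.r13 H.r23 H.rr).range.comap π := ker_le_comap _ _
    rw [card_map_of_injective hι, orderOf_injective ι hι, ← Nat.card_zpowers, hb,
      ← (π.ker.subgroupOf _).card_mul_index, Nat.card_congr (subgroupOfEquivOfLe hk).toEquiv,
      mul_comm, ← relIndex, relIndex_ker, map_comap_eq_self_of_surjective h.surj,
      ← Nat.card_congr (MonoidHom.ofInjective fi).toEquiv]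
    simp
  · rintro _ ⟨a, ⟨x, hx⟩, rfl⟩ hn
    refine nz' (Lift.nz h z2 y7 (hx ▸ nine_nz H x fun o => hn ?_))
    rw [← MonoidHom.map_zpowers, hb]
    exact mem_map_of_mem _ (show π a = 1 by rw [← hx, o, map_one])

end Cfsg.Agent.Gr.Pa
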