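import Mathlib
import Cfsg.Agent.Gr.Pa.Defs

/-! Frames in which two commuting involutions of trace eight are both sign changes. -/

set_option autoImplicit false

namespace Cfsg.Agent.Gr.Pa

open Subgroup Cfsg.Agent.Spor Cfsg.Agent.Spor.Leech Cfsg.Agent.Gr.Rk Cfsg.Agent.Gr.Am Cfsg.Agent.Gr.M2

attribute [local irreducible] sgC cls twoC csm perm negOne pc tq act

variable {o o' c c' : Cd} {T : Wd} {a b g s : Co0} {x : LL}

theorem T4.map (h : T4 x) (k : Co0) : T4 (csm k x) :=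
  ⟨fun e => h.1 (ActH.csm_eq_zero.1 e), by rw [qL_csm]; exact h.2.1, fun e => h.2.2 (csm_mem.1 e)⟩

theorem t4_v0 : T4 v0 := ⟨ZH.om_ne.1, t0_v0.v12.qL, ZH.om_ne.2.2⟩

theorem OmH.t4_iff (e : ZMod 2) : T4 x ↔ x ≠ 0 ∧ tq e x ∈ ZC :=
  and_congr_right fun h => (tq_ZC h).symm

theorem OmH.tq_ne (h : x ≠ 0) (e : ZMod 2) : tq e x ≠ zz := fun k => h (tq_inj.1 k).2

theorem T4.std (h : T4 x) : ∃ k : Co0, csm k x = v0 := by
  obtain ⟨g, g1, g2⟩ := adj_std zz_mem_ZC ((OmH.t4_iff 0).1 h).2 (QQ_zz ▸ tq_QK 0 x) (OmH.tq_ne h.1 0) 0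
  obtain ⟨γ, hγ⟩ := exists_GK.2 (mul_inv_eq_iff_eq_mul.1 g1).symm
  obtain ⟨f, hf⟩ := frK.act _ _ hγ 0 x
  exact ⟨γ, (frK.inj (hf.symm.trans g2)).2⟩

theorem Rg.conj (h : Rg g x) (k : Co0) : Rg (k * g * k⁻¹) (csm k x) := by
  obtain ⟨v, rfl⟩ := h
  exact ⟨csm k v, by rw [csm_conj, csm_add]⟩

theorem Rg.fix (h : Rg g x) (h2 : g * g = 1) : csm g x = x := by
  obtain ⟨v, rfl⟩ := h
  rw [csm_add, ← csm_mul, h2, csm_one, add_comm]

theorem OmH.conj (h : x ∈ Om a b) (k : Co0) : csm k x ∈ Om (k * a * k⁻¹) (k * b * k⁻¹) :=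
  ⟨h.1.map k, h.2.1.conj k, h.2.2.conj k⟩

theorem om_conj (k : Co0) : csm k x ∈ Om (k * a * k⁻¹) (k * b * k⁻¹) ↔ x ∈ Om a b := by
  refine ⟨fun h => ?_, fun h => OmH.conj h k⟩
  have := OmH.conj h k⁻¹
  rwa [ActH.csm_inv_csm, show k⁻¹ * (k * a * k⁻¹) * k⁻¹⁻¹ = a by group,
    show k⁻¹ * (k * b * k⁻¹) * k⁻¹⁻¹ = b by group] at this

theorem OmH.rg_iff : Rg (sgC o) x ↔ x ∈ NO o := (mem_perp_fix (sgC_mul_self o)).symm

theorem OmH.oct_of_tr (h : tr (sgC c) = 8) : c ∈ Oct := by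
  rw [tr_sgC] at h
  have : (wt (wd c) : ℝ) = 8 := by linarith
  exact mem_Oct.2 (by exact_mod_cast this)

theorem diag (h2 : g * g = 1) (h8 : tr g = 8) (h : Rg g v0) : ∃ o ∈ Oct, g = sgC o := by
  obtain ⟨k, hk⟩ : ∃ k, k * g * k⁻¹ = sgC o0 := by
    obtain ⟨k, o, ho, e⟩ := exists_conj_oct h2 h8
    obtain ⟨σ, hσ⟩ := ex_pc_oct (mem_Oct.2 ho) o0_oct
    exact ⟨sgC 0 * perm σ * k, by rw [← hσ, ← mon_conj 0 o σ, ← e]; group⟩
  have h1 := h.conj k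
  rw [hk, OmH.rg_iff] at h1
  have t := t4_v0.map k
  have l : Lin (AO o0) zz (tq 1 (csm k v0)) :=
    ⟨pnt_zz, tq_mem_AO.2 h1, ((OmH.t4_iff 1).1 t).2, QQ_zz ▸ tq_QK 1 _, OmH.tq_ne t.1 1⟩
  obtain ⟨y, y1, y2, y3⟩ := l.trans (lin_v0 1)
  obtain ⟨γ, hγ⟩ := exists_GK.2 (mul_inv_eq_iff_eq_mul.1 y2).symm
  obtain ⟨f, hf⟩ := frK.act _ _ hγ 1 (csm k v0)
  have m : γ * k ∈ Mon := mem_Mon_of_csm (by rw [csm_mul]; exact (frK.inj (hf.symm.trans y3)).2)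
  obtain ⟨a0, ha, -, hn⟩ := ex_a0
  have ha' : y * a0 * y⁻¹ ∈ AO o0 := y1 ▸ cj_mem.2 ha
  have hn' : y * a0 * y⁻¹ ∉ QK := fun e => hn (by rwa [← QQ_zz, ← y2, cj_mem_QQ, QQ_zz] at e)
  obtain ⟨d, hd⟩ : ∃ d, γ * sgC o0 * γ⁻¹ = sgC d :=
    (frK.eq_or (AO_gk ha' hn') (conj_mem' hγ (AO_gk ha hn))).elim (fun e => ⟨_, e⟩)
      fun e => ⟨om + o0, by rw [e, sgC_add, sgC_om]⟩
  obtain ⟨e, σ, he⟩ := exists_mon (inv_mem m)
  have : g = sgC (pc σ d) := by rw [← mon_conj e d σ, ← he, ← hd, ← hk]; group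
  exact ⟨_, OmH.oct_of_tr (this ▸ h8), this⟩

theorem OmH.rg_v0 (ho : o ∈ Oct) : Rg (sgC o) v0 := by
  have h := mem_Oct.1 ho
  obtain ⟨i, hi, -⟩ := exists_pt (δ := wd o) [] (by rw [h]; decide)
  obtain ⟨j, hj⟩ := exists_out h
  exact ⟨clB i j, (om_eq h hi hj).symm⟩

theorem OmH.t4_tet (h : wt T = 4) (α : ZMod 2) : T4 (α • om, sy T) := by
  obtain ⟨h1, h2⟩ := four_ZC h 0 α
  rw [OmH.t4_iff 0]
  exact ⟨fun e => h2 (Prod.mk_eq_zero.1 e).2, h1⟩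

theorem OmH.rg_tet (ho : o ∈ Oct) (h : wt T = 4) (hs : T * wd o = T) (α : ZMod 2) :
    Rg (sgC o) (α • om, sy T) :=
  OmH.rg_iff.2 ((v12_NO ho (GolB.v12 (GolB.tet_ev h hs) α)).2 ⟨T, GolB.tet_ev h hs, rfl⟩)

theorem OmH.ex_smul (h : D0 c) : ∃ α : ZMod 2, c = α • om :=
  h.elim (fun e => ⟨0, by rw [e, zero_smul]⟩) fun e => ⟨1, by rw [e, one_smul]⟩

theorem om_std (ho : o ∈ Oct) (ho' : o' ∈ Oct) (h : wt (wd o * wd o') = 4) :
    x ∈ Om (sgC o) (sgC o') ↔ x = v0 ∨ ∃ α : ZMod 2, x = (α • om, sy (wd o * wd o')) := by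
  constructor
  · rintro ⟨t, h1, h2⟩
    rw [OmH.rg_iff] at h1 h2
    have d0 : D0 x.1 := by
      refine (NO_d4 ho h1).elim id fun k => (NO_d4 ho' h2).elim id fun k' => ?_
      have e : D0 (o + o') := (k.add k').of_eq (by rw [add_add_add_comm, cd_add_self, zero_add])
      have w := wt_add (wd o) (wd o')
      rw [← map_add, h, mem_Oct.1 ho, mem_Oct.1 ho'] at w
      rcases e with e | e
      · rw [wt_wd_eq_zero.2 e] at w; omega
      · rw [wt_wd_eq_24.2 e] at w; omega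
    have v : V12 x := ⟨d0, (fix_co ho (NO_le o h1)).1⟩
    by_cases h0 : x.2 = 0
    · exact Or.inl (Prod.ext (d0.resolve_left fun e => t.1 (Prod.ext e h0)) h0)
    have hd : ¬ Du x.2 := fun e => t.2.2 (du_short v e)
    obtain ⟨p, hp, -⟩ := exists_pt (δ := wd o * wd o') [] (by rw [h]; decide)
    obtain ⟨p1, p2⟩ : wd o p = 1 ∧ wd o' p = 1 := mul_eq_one.1 hp
    obtain ⟨δ, a1, a2, a3, a4⟩ := GA.tet_in ho ((v12_NO ho v).1 h1) h0 hd p1
    obtain ⟨δ', b1, b2, b3, b4⟩ := GA.tet_in ho' ((v12_NO ho' v).1 h2) h0 hd p2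
    obtain rfl := tet_eq a1 b1 (a3.symm.trans b3) a4 b4
    have w := wt_add δ (wd o * wd o')
    rw [← mul_assoc, a2, b2, a1, h] at w
    have e : δ + wd o * wd o' = 0 := wt_eq_zero.1 (by omega)
    obtain ⟨α, hα⟩ := OmH.ex_smul d0
    refine Or.inr ⟨α, Prod.ext hα ?_⟩
    rw [a3, ← GA.cancel δ (wd o * wd o'), e, add_zero]
  · rintro (rfl | ⟨α, rfl⟩)
    · exact ⟨t4_v0, OmH.rg_v0 ho, OmH.rg_v0 ho'⟩
    · exact ⟨OmH.t4_tet h α, OmH.rg_tet ho h (by rw [mul_right_comm, wd_mul_self]) α,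
        OmH.rg_tet ho' h (by rw [mul_assoc, wd_mul_self]) α⟩

theorem OmH.card_std (ho : o ∈ Oct) (ho' : o' ∈ Oct) (h : wt (wd o * wd o') = 4) :
    (Om (sgC o) (sgC o')).ncard = 3 := by
  have n := GA.sy_ne h
  refine Set.ncard_eq_three.2 ⟨v0, (0, sy (wd o * wd o')), (om, sy (wd o * wd o')),
    fun e => n (congrArg Prod.snd e).symm, fun e => n (congrArg Prod.snd e).symm,
    fun e => om_ne_zero (congrArg Prod.fst e).symm, Set.ext fun x => ?_⟩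
  rw [om_std ho ho' h, Set.mem_insert_iff, Set.mem_insert_iff, Set.mem_singleton_iff]
  refine or_congr_right ⟨?_, ?_⟩
  · rintro ⟨α, rfl⟩
    rcases z2_cases α with rfl | rfl
    · exact Or.inl (by rw [zero_smul])
    · exact Or.inr (by rw [one_smul])
  · rintro (rfl | rfl)
    · exact ⟨0, by rw [zero_smul]⟩
    · exact ⟨1, by rw [one_smul]⟩

theorem OmH.card_conj (k : Co0) : (Om (k * a * k⁻¹) (k * b * k⁻¹)).ncard = (Om a b).ncard := by
  rw [← Set.ncard_image_of_injective (Om a b) (ActH.csm_injective k)]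
  congr 1
  ext y
  constructor
  · intro hy
    exact ⟨csm k⁻¹ y, (om_conj k).1 (by rwa [ActH.csm_csm_inv]), ActH.csm_csm_inv k y⟩
  · rintro ⟨y, hy, rfl⟩
    exact OmH.conj hy k

/-- Two transpositions of a monomial involution give a class in its commutator space. -/
theorem OmH.tet (e : Cd) {σ : M24} (s2 : σ * σ = 1) {i j : Pt} (h1 : σ.1 i ≠ i) (h2 : σ.1 j ≠ j)
    (h3 : j ≠ i) (h4 : j ≠ σ.1 i) : ∃ (α : ZMod 2) (δ : Wd), wt δ = 4 ∧ Rg (sgC e * perm σ) (α • om, sy δ) ∧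
      ∀ ε : Wd, (∀ p, ε (σ.1 p) = ε p) → ε i = 1 → ε j = 1 → δ * ε = δ := by
  have ss : ∀ p, σ.1 (σ.1 p) = p := fun p => by
    rw [← Equiv.Perm.mul_apply, ← Subgroup.coe_mul, s2]; rfl
  obtain ⟨v, hv⟩ := (v12_clB i j).csm_mon rfl e σ
  obtain ⟨α, hα⟩ := OmH.ex_smul (v.add (v12_clB i j)).1
  rw [pm_e2] at hv
  refine ⟨α, e2 (σ.1 i) (σ.1 j) + e2 i j, GA.four (σ.1.injective.ne h3.symm) h1 h4.symm
    (fun k => h4 (by rw [← k, ss])) h2 h3.symm, ⟨clB i j, Prod.ext hα.symm ?_⟩, fun ε k hi hj => ?_⟩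
  · rw [Prod.snd_add, hv, map_add]; rfl
  · rw [add_mul, GA.e2_mul ((k i).trans hi) ((k j).trans hj), GA.e2_mul hi hj]

theorem om_card (ha : a * a = 1) (hb : b * b = 1) (hc : a * b = b * a) (ta : tr a = 8) (tb : tr b = 8)
    (tab : tr (a * b) = 8) : (Om a b).ncard = 3 := by
  have sq : ∀ h ∈ closure ({a, b} : Set Co0), h * h = 1 := by
    have cm : ∀ x ∈ closure ({a, b} : Set Co0), ∀ y ∈ closure ({a, b} : Set Co0), Commute x y :=
      fun x hx y hy => closure_induction₂ (p := fun x y _ _ => Commute x y)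
        (by rintro _ _ (rfl | rfl) (rfl | rfl); exacts [rfl, hc, hc.symm, rfl])
        (fun _ _ => Commute.one_left _) (fun _ _ => Commute.one_right _)
        (fun _ _ _ _ _ _ h k => h.mul_left k) (fun _ _ _ _ _ _ h k => h.mul_right k)
        (fun _ _ _ _ h => h.inv_left) (fun _ _ _ _ h => h.inv_right) hx hy
    intro h hh
    induction hh using closure_induction with
    | mem x hx => rcases hx with rfl | rfl <;> assumption
    | one => exact one_mul 1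
    | mul x y hx hy h k => rw [(cm y hy x hx).mul_mul_mul_comm, h, k, one_mul]
    | inv x hx h => rw [← mul_inv_rev, h, inv_one]
  obtain ⟨y, hy⟩ : ∃ y, y ∈ Om a b := by
    obtain ⟨k, o, ho, e, hk⟩ := sx_red sq (subset_closure (Or.inl rfl)) ta
    have ho' := mem_Oct.2 ho
    suffices ∃ y, y ∈ Om (sgC o) (k * b * k⁻¹) by
      obtain ⟨y, hy⟩ := this
      exact ⟨csm k⁻¹ y, (om_conj k).1 (by rwa [ActH.csm_csm_inv, e])⟩
    rcases hk b (subset_closure (Or.inr rfl)) ⟨Or.inl tb, tab.trans tb.symm⟩ with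
      ⟨d, hd, -⟩ | ⟨d, σ, hd, s2, -, k1, k2⟩
    · rw [hd]
      exact ⟨v0, t4_v0, OmH.rg_v0 ho', OmH.rg_v0 (OmH.oct_of_tr (by rw [← hd, tr_conj, tb]))⟩
    · obtain ⟨i, hi, -⟩ := exists_pt (δ := wd o) [] (by rw [ho]; decide)
      obtain ⟨j, hj, n⟩ := exists_pt (δ := wd o) [i, σ.1 i] (by rw [ho]; simp)
      simp only [List.mem_cons, List.not_mem_nil, or_false, not_or] at n
      obtain ⟨α, δ, w, r, s⟩ := OmH.tet d s2 (k2 i hi) (k2 j hj) n.1 n.2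
      exact ⟨_, OmH.t4_tet w α, OmH.rg_tet ho' w (s _ k1 hi hj) α, hd ▸ r⟩
  obtain ⟨m, hm⟩ := hy.1.std
  have h1 := OmH.conj hy m
  rw [hm] at h1
  obtain ⟨o, ho, e⟩ := diag (by rw [conj_mul, ha, mul_one, mul_inv_cancel]) (by rw [tr_conj, ta]) h1.2.1
  obtain ⟨o', ho', e'⟩ := diag (by rw [conj_mul, hb, mul_one, mul_inv_cancel]) (by rw [tr_conj, tb]) h1.2.2
  have h8 := mem_Oct.1 (OmH.oct_of_tr (c := o + o') (by rw [sgC_add, ← e, ← e', conj_mul, tr_conj, tab]))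
  have w := wt_add (wd o) (wd o')
  rw [← map_add, h8, mem_Oct.1 ho, mem_Oct.1 ho'] at w
  rw [← OmH.card_conj m, e, e']
  exact OmH.card_std ho ho' (by omega)

theorem om_meet (ho : o ∈ Oct) (ho' : o' ∈ Oct) (h : wt (wd o * wd o') = 4) (hg : g ∈ Mon) (h2 : g * g = 1)
    (h8 : tr g = 8) (c1 : g * sgC o = sgC o * g) (c2 : g * sgC o' = sgC o' * g)
    (t1 : tr (g * sgC o) = 8 ∨ tr (g * sgC o) = -8) (t2 : tr (g * sgC o') = tr (g * sgC o)) :
    ∃ x ∈ Om (sgC o) (sgC o'), Rg g x := by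
  obtain ⟨e, σ, rfl⟩ := exists_mon hg
  have s2 : σ * σ = 1 := perm_eq (c := 0) (by rw [h2, sgC_zero, map_one, mul_one])
  by_cases k : σ = 1
  · subst k
    rw [map_one, mul_one] at h8 ⊢
    exact ⟨v0, ⟨t4_v0, OmH.rg_v0 ho, OmH.rg_v0 ho'⟩, OmH.rg_v0 (OmH.oct_of_tr h8)⟩
  have inv : ∀ {d : Cd}, pm σ (wd d) = wd d → ∀ p, wd d (σ.1 p) = wd d p := fun h p => by
    rw [← pm_apply σ (wd _) p, h]
  have i1 := inv (comm_sgC_iff.1 c1)
  have i2 := inv (comm_sgC_iff.1 c2)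
  have hF : (Finset.univ.filter fun p => σ.1 p = p).card ≤ 8 := by
    have := Std.card_fixSet_le σ.2 (congrArg Subtype.val s2) fun e => k (Subtype.ext e)
    rw [show (Finset.univ.filter fun p => σ.1 p = p) = MB.fixSet σ.1 from
      Finset.ext fun p => (Finset.mem_filter_univ p).trans MB.mem_fixSet.symm]
    omega
  obtain ⟨s, hs, k1⟩ : ∃ s : ℝ, (s = 1 ∨ s = -1) ∧ tr (sgC e * perm σ * sgC o) = 8 * s :=
    t1.elim (fun k => ⟨1, Or.inl rfl, by rw [k, mul_one]⟩) fun k => ⟨-1, Or.inr rfl, by rw [k]; norm_num⟩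
  rw [k1, c2, ← mul_assoc, ← sgC_add, tr_mon] at t2
  rw [c1, ← mul_assoc, ← sgC_add, tr_mon] at k1
  rw [tr_mon] at h8
  have a0 := all_eq hF (Or.inl rfl) (h8.trans (mul_one _).symm)
  have a1 := all_eq hF hs k1
  have a2 := all_eq hF hs t2
  have z : ∀ p ∈ Finset.univ.filter fun p => σ.1 p = p, wd e p = 0 := fun p hp =>
    (z2_cases _).resolve_right fun k => by
      have := a0 p hp
      rw [if_pos k] at this
      norm_num at this
  have nf : ∀ p, wd o p = 1 → σ.1 p ≠ p := by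
    rcases hs with rfl | rfl
    · intro p hp e1
      have m := (Finset.mem_filter_univ (p := fun p => σ.1 p = p) p).2 e1
      have := a1 p m
      rw [map_add, Pi.add_apply, z p m, hp, if_pos (add_zero _)] at this
      norm_num at this
    · exfalso
      have b : ∀ {d : Cd} {p}, wd e p = 0 → (if wd (d + e) p = 1 then -1 else 1 : ℝ) = -1 → wd d p = 1 :=
        fun h1 h2 => by
          rw [map_add, Pi.add_apply, h1, add_zero] at h2
          by_contra n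
          rw [if_neg n] at h2
          norm_num at h2
      have c8 : (Finset.univ.filter fun p => σ.1 p = p).card = 8 := by
        rw [Finset.sum_congr rfl a0, Finset.sum_const, nsmul_eq_mul, mul_one] at h8
        exact_mod_cast h8
      have := Finset.card_le_card (show (Finset.univ.filter fun p => σ.1 p = p) ⊆ support₂ (wd o * wd o') from
        fun p hp => mem_supp.2 (by rw [Pi.mul_apply, b (z p hp) (a1 p hp), b (z p hp) (a2 p hp), mul_one]))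
      rw [← wt_eq_card, h, c8] at this
      omega
  obtain ⟨i, hi, -⟩ := exists_pt (δ := wd o * wd o') [] (by rw [h]; decide)
  obtain ⟨j, hj, n⟩ := exists_pt (δ := wd o * wd o') [i, σ.1 i] (by rw [h]; simp)
  simp only [List.mem_cons, List.not_mem_nil, or_false, not_or] at n
  obtain ⟨p1, p2⟩ : wd o i = 1 ∧ wd o' i = 1 := mul_eq_one.1 hi
  obtain ⟨q1, q2⟩ : wd o j = 1 ∧ wd o' j = 1 := mul_eq_one.1 hj
  obtain ⟨α, δ, w, r, s⟩ := OmH.tet e s2 (nf i p1) (nf j q1) n.1 n.2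
  exact ⟨_, ⟨OmH.t4_tet w α, OmH.rg_tet ho w (s _ i1 p1 q1) α, OmH.rg_tet ho' w (s _ i2 p2 q2) α⟩, r⟩

end Cfsg.Agent.Gr.Pa
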