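import Mathlib
import Cfsg.Agent.Gr.Pa.Defs

/-! Unions of tetrads of a sextet, and traces of elements of the Conway group. -/

set_option autoImplicit false

namespace Cfsg.Agent.Gr.Pa

open Subgroup Cfsg.Agent.Spor Cfsg.Agent.Spor.Leech Cfsg.Agent.Gr.Rk Cfsg.Agent.Gr.Am Cfsg.Agent.Gr.M2

attribute [local irreducible] sgC cls twoC csm

variable {o o' c c' : Cd} {T : Wd} {a b g s : Co0} {x : LL}

theorem US.add (h : US T c) (h' : US T c') : US T (c + c') := fun δ h4 e => by
  rw [map_add, mul_add]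
  rcases h δ h4 e with k | k <;> rcases h' δ h4 e with k' | k' <;> rw [k, k']
  · exact Or.inl (add_zero _)
  · exact Or.inr (zero_add _)
  · exact Or.inr (add_zero _)
  · exact Or.inl (wd_add_self _)

theorem us_om (T : Wd) : US T om := fun δ _ _ => Or.inr (by rw [wd_om, mul_one])

theorem us_of_rg (ho : o ∈ Oct) (hT : wt T = 4) {α : ZMod 2} (h : Rg (sgC o) (α • om, sy T)) : US T o := by
  have h1 : ((α • om, sy T) : LL) ∈ NO o := (mem_perp_fix (sgC_mul_self o)).2 h
  have h2 : V12 (α • om, sy T) := v12_smul α (by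
    rw [sy_dot_om]; exact even_wt.2 (by rw [hT]; norm_num))
  have h3 : Rf o (sy T) := (v12_NO ho h2).1 h1
  intro δ h4 e
  by_cases k : ∃ p, δ p = 1 ∧ wd o p = 0
  · obtain ⟨p, k1, k2⟩ := k
    exact Or.inl (special_out ho h4 (by rw [e]; exact h3) k1 k2)
  · refine Or.inr (funext fun p => ?_)
    rw [Pi.mul_apply]
    rcases z2_cases (δ p) with k1 | k1
    · rw [k1, zero_mul]
    · rcases z2_cases (wd o p) with k2 | k2
      · exact absurd ⟨p, k1, k2⟩ k
      · rw [k2, mul_one]

theorem sy_of_us (hT : wt T = 4) (h : US T c) (h' : US T c') (h4 : wt (wd c * wd c') = 4) :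
    sy (wd c * wd c') = sy T := by
  obtain ⟨p, hp, -⟩ := exists_pt (δ := wd c * wd c') [] (by rw [h4]; simp)
  obtain ⟨δ, d4, e, dp⟩ := ex_tet hT p
  have key : ∀ d : Cd, US T d → wd d p = 1 → δ * wd d = δ := fun d hd k =>
    (hd δ d4 e).resolve_left fun k' => GA.one_ne ((k.symm.trans (GA.out_of k' dp)))
  rw [Pi.mul_apply] at hp
  have p1 : wd c p = 1 := by
    rcases z2_cases (wd c p) with k | k
    · rw [k, zero_mul] at hp; exact absurd hp.symm GA.one_ne
    · exact k
  have p2 : wd c' p = 1 := by rwa [p1, one_mul] at hp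
  have k : δ * (wd c * wd c') = δ := by rw [← mul_assoc, key c h p1, key c' h' p2]
  have k2 := wt_add δ (wd c * wd c')
  rw [k, d4, h4] at k2
  have k3 : δ + wd c * wd c' = 0 := wt_eq_zero.1 (by omega)
  have k4 : wd c * wd c' = δ := by
    rw [← GA.cancel δ (wd c * wd c'), k3, add_zero]
  rw [k4, e]

theorem lemI (h : ¬ Ev0 x) (c c' : Cd) :
    csm (sgC c') (csm (sgC c) x + x) + (csm (sgC c) x + x) ≠ v0 := by
  have i : Pt := none
  have hl : ¬ Ev0 (cls (lam i)) := by
    rw [cls_lam, Ev0, sy_dot_om, sum_e1]; exact GA.one_ne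
  obtain ⟨w, hw, rfl⟩ : ∃ w, Ev0 w ∧ x = cls (lam i) + w :=
    ⟨cls (lam i) + x, ev0_add_of_not hl h, by rw [← add_assoc, ll_add_self, zero_add]⟩
  obtain ⟨β, e1⟩ : ∃ β : ZMod 2, csm (sgC c) (cls (lam i)) + cls (lam i) = (c + β • om, th c) :=
    ⟨q4 (wd c) + wd c i, by
      rw [csm_cls, cls_sgC_lam, cls_lam, clX, Prod.mk_add_mk, add_zero, add_assoc, cd_add_self, add_zero]⟩
  obtain ⟨α, e2⟩ : ∃ α : ZMod 2, csm (sgC c) w + w = (α • om, sy (wd w.1 * wd c)) :=
    ⟨_, csm_sgC_even hw c⟩
  have v2 : V12 (α • om, sy (wd w.1 * wd c)) := v12_smul α (by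
    rw [sy_dot_om, sum_mul_eq, wd_dot_wd])
  have e3 := csm_sgC_even (w := (c + β • om, th c)) (th_dot_om c) c'
  have e4 := v2.csm_sgC c'
  have ht : th (c + β • om) = th c := by
    rcases z2_cases β with k | k <;> rw [k]
    · rw [zero_smul, add_zero]
    · rw [one_smul, th_add_om]
  dsimp only at e3 e4
  rw [ht, cd_add_self, zero_dotProduct, add_zero] at e3
  rw [csm_add (sgC c), add_add_add_comm, e1, e2, csm_add, add_add_add_comm, e3, e4,
    add_right_comm (α • om, sy (wd w.1 * wd c)), ll_add_self, zero_add, Prod.mk_add_mk, add_zero]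
  intro k
  obtain ⟨k1, k2⟩ := Prod.ext_iff.1 k
  dsimp only at k1 k2
  obtain ⟨d, hd⟩ := exists_wd (sy_eq_zero_iff.1 k2)
  have hd' : wd c * wd c' = wd (d + β • c') := by
    rw [map_add, hd, map_add, map_smul, map_smul, wd_om, add_mul, smul_mul_assoc, one_mul, add_assoc,
      wd_add_self, add_zero]
  rw [← hd, q2_wd, sy_dot, mul_dot, hd', wd_dot_wd, zero_smul, add_zero] at k1
  exact om_ne_zero k1.symm

theorem Us.closure_sq {G : Type*} [Group G] {S : Set G} (h1 : ∀ x ∈ S, x * x = 1)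
    (h2 : ∀ x ∈ S, ∀ y ∈ S, x * y = y * x) : ∀ h ∈ Subgroup.closure S, h * h = 1 := by
  have c1 : ∀ x ∈ S, ∀ y ∈ Subgroup.closure S, Commute x y := fun x hx y hy => by
    induction hy using closure_induction with
    | mem y hy => exact h2 x hx y hy
    | one => exact Commute.one_right x
    | mul y z _ _ k k' => exact k.mul_right k'
    | inv y _ k => exact k.inv_right
  have c2 : ∀ x ∈ Subgroup.closure S, ∀ y ∈ Subgroup.closure S, Commute x y := fun x hx y hy => by
    induction hx using closure_induction with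
    | mem x hx => exact c1 x hx y hy
    | one => exact Commute.one_left y
    | mul x z _ _ k k' => exact k.mul_left k'
    | inv x _ k => exact k.inv_left
  intro h hh
  induction hh using closure_induction with
  | mem y hy => exact h1 y hy
  | one => exact mul_one 1
  | mul y z hy hz k k' =>
    rw [mul_assoc, ← mul_assoc z, ← (c2 y hy z hz).eq, mul_assoc, k', mul_one, k]
  | inv y _ k => rw [← mul_inv_rev, k, inv_one]

theorem tr_trio (ha : a * a = 1) (hb : b * b = 1) (hs : s * s = 1) (ab : a * b = b * a) (sa : s * a = a * s)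
    (sb : s * b = b * s) (ta : tr a = 8) (tb : tr b = 8) (tab : tr (a * b) = -8) :
    tr s - tr (s * a) - tr (s * b) + tr (s * (a * b)) = 0 := by
  have sq := Us.closure_sq (S := ({a, b, s} : Set Co0)) (by
    rintro x (rfl | rfl | rfl) <;> assumption) (by
    rintro x (rfl | rfl | rfl) y (rfl | rfl | rfl) <;> first | rfl | assumption | (symm; assumption))
  have ma : a ∈ Subgroup.closure ({a, b, s} : Set Co0) := subset_closure (by simp)
  have mb : b ∈ Subgroup.closure ({a, b, s} : Set Co0) := subset_closure (by simp)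
  have ms : s ∈ Subgroup.closure ({a, b, s} : Set Co0) := subset_closure (by simp)
  have h1 := tr3 sq ma mb ms (r := -1) (s := -1) (u := 1) (by norm_num) (by norm_num) (by norm_num)
  have h2 := tr3 sq ma mb ms (r := -1) (s := -1) (u := -1) (by norm_num) (by norm_num) (by norm_num)
  have e : a * (b * s) = s * (a * b) := by rw [← sb, ← mul_assoc, ← sa, mul_assoc]
  rw [e, ← sa, ← sb, ta, tb, tab] at h1 h2
  linarith

theorem tr_three {σ : M24} (h : Cy σ) (hg : g ∈ Mon) (hc : g * (sgC c * perm σ) = sgC c * perm σ * g) :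
    tr g ≠ 8 := by
  classical
  obtain ⟨e, τ, rfl⟩ := exists_mon hg
  obtain ⟨u, -, v, -, uv, k1, k2⟩ := h
  have mm : ∀ (d e : Cd) (σ τ : M24), sgC d * perm σ * (sgC e * perm τ) = sgC (d + pc σ e) * perm (σ * τ) :=
    fun d e σ τ => by
      rw [sgC_add, map_mul, mul_assoc, ← mul_assoc (perm σ), perm_sgC, mul_assoc, mul_assoc]
  rw [mm, mm] at hc
  obtain ⟨c1, c2⟩ := mon_eq hc
  have c3 : ∀ p, τ.1 (σ.1 p) = σ.1 (τ.1 p) := fun p => congrArg (fun m : M24 => m.1 p) c2
  let f : Pt → ℤ := fun p => if τ.1 p = p then (if wd e p = 1 then -1 else 1) else 0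
  have hf : ∀ p, f (σ.1 p) = f p := fun p => by
    by_cases k : τ.1 p = p
    · have k' : τ.1 (σ.1 p) = σ.1 p := by rw [c3, k]
      have k3 := congrArg (fun d => wd d (σ.1 p)) c1
      simp only [map_add, Pi.add_apply, wd_pc, pm_apply] at k3
      have k4 := pm_apply τ (wd c) (σ.1 p)
      rw [k'] at k4
      rw [k4, add_comm, add_right_inj] at k3
      simp only [f, if_pos k, if_pos k', k3]
    · have k' : ¬ τ.1 (σ.1 p) = σ.1 p := fun k' => k (σ.1.injective (by rw [← c3, k']))
      simp only [f, if_neg k, if_neg k']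
  let S : Cd → ℤ := fun d => ∑ p, if wd d p = 1 then f p else 0
  have hS : ∀ d, S (pc σ d) = S d := fun d => by
    simp only [S]
    rw [← Equiv.sum_comp σ.1]
    refine Finset.sum_congr rfl fun p _ => ?_
    rw [wd_pc, pm_apply, hf]
  have h3 : ∑ p, f p = S u + S v + S (u + v + om) := by
    simp only [S]
    rw [← Finset.sum_add_distrib, ← Finset.sum_add_distrib]
    refine Finset.sum_congr rfl fun p _ => ?_
    have := congrFun uv p
    rw [Pi.mul_apply, Pi.zero_apply] at this
    rw [map_add, map_add, wd_om, Pi.add_apply, Pi.add_apply, Pi.one_apply]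
    rcases z2_cases (wd u p) with m | m <;> rcases z2_cases (wd v p) with m' | m' <;> rw [m, m'] at this ⊢
    · rw [if_neg GA.one_ne.symm, if_pos (by decide)]; ring
    · rw [if_neg GA.one_ne.symm, if_pos rfl, if_neg (by decide)]; ring
    · rw [if_neg GA.one_ne.symm, if_pos rfl, if_neg (by decide)]; ring
    · exact absurd this (by decide)
  rw [← k2, hS, ← k1, hS] at h3
  have h4 : tr (sgC e * perm τ) = ((∑ p, f p : ℤ) : ℝ) := by
    rw [tr_mon, Finset.sum_filter, Int.cast_sum]
    refine Finset.sum_congr rfl fun p _ => ?_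
    simp only [f]
    split_ifs <;> simp
  rw [h4, h3]
  intro k
  have : S u + S u + S u = 8 := by exact_mod_cast k
  omega

theorem tr_inv (g : Co0) : tr g⁻¹ = tr g := by
  rw [tr, tr, ← mat_transpose, Matrix.trace_transpose]

theorem tr_cases (h : g * g = 1) : g = 1 ∨ g = negOne ∨ tr g = 8 ∨ tr g = -8 ∨
    ∃ k d, wt (wd d) = 12 ∧ k * g * k⁻¹ = sgC d := by
  obtain ⟨k, d, e⟩ := exists_conj_sgC h
  have t : tr g = 24 - 2 * wt (wd d) := by rw [← tr_sgC, ← e, tr_conj]
  rcases wt_wd d with m | m | m | m | m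
  · rw [wt_wd_eq_zero.1 m, sgC_zero] at e
    exact Or.inl (by simpa using e)
  · exact Or.inr (Or.inr (Or.inl (by rw [t, m]; norm_num)))
  · exact Or.inr (Or.inr (Or.inr (Or.inr ⟨k, d, m, e⟩)))
  · exact Or.inr (Or.inr (Or.inr (Or.inl (by rw [t, m]; norm_num))))
  · rw [wt_wd_eq_24.1 m, sgC_om, mul_inv_eq_iff_eq_mul, ← negOne_comm] at e
    exact Or.inr (Or.inl (mul_left_cancel e))

end Cfsg.Agent.Gr.Pa
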