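import Mathlib
import Cfsg.Agent.Gr.Pa.Om
import Cfsg.Agent.Gr.Pa.Us
import Cfsg.Agent.Gr.Pa.Lift

/-! The third Janko group and the Monster: tools. -/

set_option autoImplicit false

namespace Cfsg.Agent.Gr.Pa.Jm

open Subgroup Cfsg.Agent.Spor Cfsg.Agent.Spor.Leech Cfsg.Agent.Gr.Rk Cfsg.Agent.Gr.Am Cfsg.Agent.Gr.M2

attribute [local irreducible] sgC cls twoC csm perm negOne pc tq act tau

section Ez

variable {G : Type} [Group G] {z a b c d h h' : G} {σ : Fin 5 → G} {p q : Fin 5 → Fin 5}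

theorem ez_trans (z2 : z * z = 1) (h1 : Ez z a b) (h2 : Ez z b c) : Ez z a c := by
  rcases h1 with rfl | rfl <;> rcases h2 with rfl | rfl
  · exact Or.inl rfl
  · exact Or.inr rfl
  · exact Or.inr rfl
  · exact Or.inl (by rw [← mul_assoc, z2, one_mul])

theorem ez_mul (z2 : z * z = 1) (hb : Commute z b) (h1 : Ez z a b) (h2 : Ez z c d) : Ez z (a * c) (b * d) := by
  rcases h1 with rfl | rfl <;> rcases h2 with rfl | rfl
  · exact Or.inl rfl
  · exact Or.inr (by rw [← mul_assoc, ← hb.eq, mul_assoc])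
  · exact Or.inr (mul_assoc _ _ _)
  · exact Or.inl (by rw [hb.eq, mul_assoc, ← mul_assoc z, z2, one_mul])

theorem ez_conj (hh : Commute z h) (h1 : Ez z a b) : Ez z (h * a * h⁻¹) (h * b * h⁻¹) := by
  rcases h1 with rfl | rfl
  · exact Or.inl rfl
  · exact Or.inr (by rw [← mul_assoc, ← hh.eq]; group)

theorem act_mul (z2 : z * z = 1) (h1 : Act z σ h p) (h2 : Act z σ h' q) : Act z σ (h * h') (p ∘ q) :=
  ⟨h1.1.mul_right h2.1, fun i => ez_trans z2 (by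
    rw [show h * h' * σ i * (h * h')⁻¹ = h * (h' * σ i * h'⁻¹) * h⁻¹ by group]; exact ez_conj h1.1 (h2.2 i)) (h1.2 _)⟩

theorem cj {f1 f2 g k v v' : G} (H : JC z σ f1 f2 g k v v') (h : G) :
    JC (h * z * h⁻¹) (fun i => h * σ i * h⁻¹) (h * f1 * h⁻¹) (h * f2 * h⁻¹) (h * g * h⁻¹) (h * k * h⁻¹)
      (h * v * h⁻¹) (h * v' * h⁻¹) :=
  H.map (MulAut.conj h).toMonoidHom (MulAut.conj h).injective

theorem two_trans {P : Fin 5 → Fin 5 → Prop} (h : P 0 1)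
    (h1 : ∀ i j, P i j → P (![1, 4, 0, 2, 3] i) (![1, 4, 0, 2, 3] j))
    (h2 : ∀ i j, P i j → P (![2, 0, 4, 1, 3] i) (![2, 0, 4, 1, 3] j)) : ∀ i j, i ≠ j → P i j := by
  have a14 : P 1 4 := h1 _ _ h
  have a43 : P 4 3 := h1 _ _ a14
  have a32 : P 3 2 := h1 _ _ a43
  have a20 : P 2 0 := h1 _ _ a32
  have a03 : P 0 3 := h2 _ _ a14
  have a12 : P 1 2 := h1 _ _ a03
  have a40 : P 4 0 := h1 _ _ a12
  have a31 : P 3 1 := h1 _ _ a40
  have a24 : P 2 4 := h1 _ _ a31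
  have a21 : P 2 1 := h2 _ _ a03
  have a04 : P 0 4 := h1 _ _ a21
  have a13 : P 1 3 := h1 _ _ a04
  have a42 : P 4 2 := h1 _ _ a13
  have a30 : P 3 0 := h1 _ _ a42
  have a23 : P 2 3 := h2 _ _ a04
  have a02 : P 0 2 := h1 _ _ a23
  have a10 : P 1 0 := h1 _ _ a02
  have a41 : P 4 1 := h1 _ _ a10
  have a34 : P 3 4 := h1 _ _ a41
  intro i j ne
  fin_cases i <;> fin_cases j <;> first | exact absurd rfl ne | assumption

end Ez

variable {x x' h : K} {γ γ' η a b : Co0} {c c' w : LL} {o o' : Cd}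

theorem z2 : zz * zz = 1 := frK.z_sq

theorem gk_z (k : (x, γ) ∈ GK) : (zz * x, γ) ∈ GK := by
  simpa [zz] using GK.mul_mem (frK.mem 1 0) k

theorem gk_ez (e : Ez zz x x') (k : (x, γ) ∈ GK) : (x', γ) ∈ GK := by
  rcases e with rfl | rfl
  · exact k
  · simpa [← mul_assoc, z2] using gk_z k

theorem gk_of (hc : Commute zz x) : ∃ γ, (x, γ) ∈ GK := exists_GK.2 hc.eq

theorem gk_comm (k : (x, γ) ∈ GK) : Commute zz x := frK.z_comm k

theorem conj_zz (k : (x, γ) ∈ GK) : x * zz * x⁻¹ = zz := by rw [← (gk_comm k).eq, mul_inv_cancel_right]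

theorem lift_sq (k : (x, γ) ∈ GK) (h2 : x * x = 1) : γ * γ = 1 := by
  rcases frK.pm_of_one (g := γ * γ) (by simpa [h2] using GK.mul_mem k k) with e | e
  · exact e
  · obtain ⟨δ, rfl, rfl⟩ := mem_GK.1 k
    exact (no_lift e h2).elim

theorem lift_eq (k : (x, γ) ∈ GK) (k' : (x, γ') ∈ GK) (t : tr γ = tr γ') (t0 : tr γ ≠ 0) : γ = γ' := by
  rcases frK.eq_or k k' with e | e
  · exact e.symm
  · rw [e, tr_neg] at t
    exact absurd (by linarith) t0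

theorem lift_conj (kh : (h, η) ∈ GK) (k : (x, γ) ∈ GK) (k' : (x', γ') ∈ GK) (e : Ez zz (h * x * h⁻¹) x')
    (t : tr γ = tr γ') (t0 : tr γ ≠ 0) : η * γ * η⁻¹ = γ' :=
  lift_eq (gk_ez e (conj_mem' kh k)) k' (by rw [tr_conj, t]) (by rwa [tr_conj])

theorem csm_ez {e f : ZMod 2} (kh : (h, η) ∈ GK) (E : Ez zz (h * tq e c * h⁻¹) (tq f c')) : csm η c = c' := by
  obtain ⟨u, k⟩ := frK.act _ _ kh e c
  rw [k] at E
  rcases E with E | E
  · exact (frK.inj E).2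
  · exact (frK.inj (E.trans (frK.z_mul f c'))).2

theorem qk_ez (e : Ez zz x x') (k : x ∈ QK) : x' ∈ QK := by
  rcases e with rfl | rfl
  · exact k
  · exact (QK.mul_mem_cancel_left (tq_QK 1 0)).1 k

theorem qk_conj (hc : Commute zz h) (k : x ∈ QK) : h * x * h⁻¹ ∈ QK := by
  rw [← QQ_zz] at k ⊢
  exact conj_QQ hc.symm k

/-- The stabiliser of a class. -/
def St (c : LL) : Subgroup Co0 where
  carrier := {γ | csm γ c = c}
  one_mem' := csm_one c
  mul_mem' {a b} ha hb := by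
    change csm _ c = c at ha hb ⊢
    rw [csm_mul, hb, ha]
  inv_mem' {a} ha := by
    change csm _ c = c at ha ⊢
    conv_lhs => rw [← ha]
    rw [← csm_mul, inv_mul_cancel, csm_one]

theorem mem_St : γ ∈ St c ↔ csm γ c = c := Iff.rfl

theorem pow_St {n : ℕ} (k : (x, γ) ∈ GK) (hn : x ^ n = 1) (c : LL) : γ ^ n ∈ St c := by
  rcases frK.pm_of_one (g := γ ^ n) (by simpa [hn] using GK.pow_mem k n) with e | e
  · rw [e]; exact one_mem _
  · rw [e]; exact csm_negOne c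

theorem csm_inj (e : csm γ c = csm γ c') : c = c' := by
  rw [← csm_one c, ← csm_one c', ← inv_mul_cancel γ, csm_mul, csm_mul, e]

theorem oct_of_tr (t : tr (sgC o) = 8) : o ∈ Oct := by
  rw [tr_sgC] at t
  exact mem_Oct.2 (by exact_mod_cast (by linarith : ((wt (wd o) : ℕ) : ℝ) = 8))

theorem four_of_tr (ho : o ∈ Oct) (ho' : o' ∈ Oct) (t : tr (sgC o * sgC o') = 8) : wt (wd o * wd o') = 4 := by
  rw [← sgC_add] at t
  have := wt_add (wd o) (wd o')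
  rw [← map_add, mem_Oct.1 (oct_of_tr t), mem_Oct.1 ho, mem_Oct.1 ho'] at this
  omega

/-- A four-group all of whose involutions have trace eight. -/
structure F8 (a b : Co0) : Prop where
  a2 : a * a = 1
  b2 : b * b = 1
  ab : a * b = b * a
  ta : tr a = 8
  tb : tr b = 8
  tab : tr (a * b) = 8

theorem F8.std0 (F : F8 a b) (hc : v0 ∈ Om a b) :
    ∃ o ∈ Oct, ∃ o' ∈ Oct, wt (wd o * wd o') = 4 ∧ a = sgC o ∧ b = sgC o' := by
  obtain ⟨o, ho, e⟩ := diag F.a2 F.ta hc.2.1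
  obtain ⟨o', ho', e'⟩ := diag F.b2 F.tb hc.2.2
  exact ⟨o, ho, o', ho', four_of_tr ho ho' (by rw [← e, ← e', F.tab]), e, e'⟩

theorem F8.conj (F : F8 a b) (k : Co0) : F8 (k * a * k⁻¹) (k * b * k⁻¹) where
  a2 := by rw [conj_mul, F.a2]; simp
  b2 := by rw [conj_mul, F.b2]; simp
  ab := by rw [conj_mul, conj_mul, F.ab]
  ta := by rw [tr_conj, F.ta]
  tb := by rw [tr_conj, F.tb]
  tab := by rw [conj_mul, tr_conj, F.tab]

theorem F8.std (F : F8 a b) (hc : c ∈ Om a b) : ∃ k, csm k c = v0 ∧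
    ∃ o ∈ Oct, ∃ o' ∈ Oct, wt (wd o * wd o') = 4 ∧ k * a * k⁻¹ = sgC o ∧ k * b * k⁻¹ = sgC o' := by
  obtain ⟨k, e⟩ := T4.std hc.1
  exact ⟨k, e, (F.conj k).std0 (e ▸ (om_conj k).2 hc)⟩

theorem F8.ne (F : F8 a b) : (Om a b).Nonempty :=
  Set.nonempty_of_ncard_ne_zero (by rw [om_card F.a2 F.b2 F.ab F.ta F.tb F.tab]; decide)

theorem std_three (ho : o ∈ Oct) (ho' : o' ∈ Oct) (h4 : wt (wd o * wd o') = 4) (hc : c ∈ Om (sgC o) (sgC o'))
    (ne : c ≠ v0) : w ∈ Om (sgC o) (sgC o') ↔ w = v0 ∨ w = c ∨ w = v0 + c := by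
  obtain rfl | ⟨α, rfl⟩ := (om_std ho ho' h4).1 hc
  · exact absurd rfl ne
  rw [om_std ho ho' h4]
  refine or_congr_right ⟨?_, ?_⟩
  · rintro ⟨β, rfl⟩
    by_cases e : β = α
    · exact Or.inl (by rw [e])
    · refine Or.inr ?_
      rw [z2_ne e, add_smul, one_smul, add_comm]
      exact Prod.ext rfl (zero_add _).symm
  · rintro (rfl | rfl)
    · exact ⟨α, rfl⟩
    · exact ⟨1 + α, Prod.ext (by rw [add_smul, one_smul]; rfl) (zero_add _)⟩

theorem F8.three (F : F8 a b) (hc : c ∈ Om a b) (hc' : c' ∈ Om a b) (ne : c' ≠ c) :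
    w ∈ Om a b ↔ w = c ∨ w = c' ∨ w = c + c' := by
  obtain ⟨k, e, o, ho, o', ho', h4, ea, eb⟩ := F.std hc
  have := (om_conj k).2 hc'
  rw [ea, eb] at this
  rw [← om_conj k, ea, eb, std_three ho ho' h4 this fun q => ne (csm_inj (q.trans e.symm)), ← e, ← csm_add]
  exact or_congr ⟨csm_inj, fun q => by rw [q]⟩ (or_congr ⟨csm_inj, fun q => by rw [q]⟩ ⟨csm_inj, fun q => by rw [q]⟩)

theorem F8.swap (F : F8 a b) : Om b (a * b) = Om a b := by
  obtain ⟨c, hc⟩ := F.ne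
  obtain ⟨k, -, o, ho, o', ho', h4, ea, eb⟩ := F.std hc
  ext w
  have e : wd o' * wd (o + o') = wd o * wd o' + wd o' := by rw [map_add, mul_add, wd_mul_self, mul_comm]
  have t : tr (sgC (o + o')) = 8 := by rw [sgC_add, ← ea, ← eb, conj_mul, tr_conj, F.tab]
  have h4' : wt (wd o' * wd (o + o')) = 4 := four_of_tr ho' (oct_of_tr t) (by
    rw [← sgC_add, add_comm o, ← add_assoc, cd_add_self, zero_add, ← ea, tr_conj, F.ta])
  rw [← om_conj k, ← om_conj k (a := a), ← conj_mul, ea, eb, ← sgC_add, om_std ho ho' h4,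
    om_std ho' (oct_of_tr t) h4', e, map_add, sy_wd, add_zero]

theorem F8.orb (F : F8 a b) (hγ : ∀ w ∈ Om a b, csm γ w ∈ Om a b) (hc : c ∈ Om a b) :
    γ ^ 2 ∈ St c ∨ γ ^ 3 ∈ St c ∧ ∀ w ∈ Om a b, w = c ∨ w = csm γ c ∨ w = csm γ (csm γ c) := by
  by_cases ne : csm γ c = c
  · exact Or.inl (pow_mem (mem_St.2 ne) 2)
  rcases (F.three hc (hγ c hc) ne).1 (hγ _ (hγ c hc)) with e | e | e
  · exact Or.inl (by rw [mem_St, pow_two, csm_mul, e])
  · exact absurd (csm_inj e) ne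
  · refine Or.inr ⟨?_, fun w hw => by rw [e]; exact (F.three hc (hγ c hc) ne).1 hw⟩
    rw [mem_St, pow_succ, pow_two, csm_mul, csm_mul, e, csm_add, e, add_comm c, ll_cancel]

theorem F8.fix2 (F : F8 a b) (hγ : ∀ w ∈ Om a b, csm γ w ∈ Om a b) (h2 : γ * γ = 1) :
    ∃ w ∈ Om a b, csm γ w = w := by
  obtain ⟨c, hc⟩ := F.ne
  by_cases ne : csm γ c = c
  · exact ⟨c, hc, ne⟩
  · exact ⟨c + csm γ c, (F.three hc (hγ c hc) ne).2 (Or.inr (Or.inr rfl)), by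
      rw [csm_add, ← csm_mul, h2, csm_one, add_comm]⟩

theorem om_pres (ha : γ * a * γ⁻¹ = a) (hb : γ * b * γ⁻¹ = b) : ∀ w ∈ Om a b, csm γ w ∈ Om a b := fun w hw => by
  have := (om_conj γ).2 hw
  rwa [ha, hb] at this

end Cfsg.Agent.Gr.Pa.Jm
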