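import Mathlib
import Cfsg.Agent.Gr.Pa.Defs

/-! Sections of the Monster: quaternion subgroups over two octads. -/

set_option autoImplicit false

namespace Cfsg.Agent.Gr.Pa

open Subgroup Cfsg.Agent.Spor Cfsg.Agent.Spor.Leech Cfsg.Agent.Gr.Rk Cfsg.Agent.Gr.Am Cfsg.Agent.Gr.M2

attribute [local irreducible] sgC cls twoC csm perm negOne pc tq act tau

variable {d o o' c : Cd} {g x y y' : K} {σ : M24}

namespace Q8A

variable {α β : Cd} {e : ZMod 2} {a : LL}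

theorem fix_of_sq {γ : Co0} (k : (y, γ) ∈ GK) (h2 : y * y = 1) (h : y * tq e a * (y * tq e a) = zz) :
    csm γ a = a := by
  obtain ⟨f, e1⟩ := frK.act _ _ k e a
  rw [inv_eq_of_mul_eq_one_right h2] at e1
  rw [← mul_assoc, e1, frK.mul] at h
  have h1 := (frK.inj h).2
  rw [← add_zero (csm γ a), ← ll_add_self a, ← add_assoc, h1, zero_add]

/-- The code part of an element of `Q_u Q_z`. -/
def Al (g : K) (α : Cd) : Prop := ∃ R e a, R ∈ QQ (tq 0 v0) ∧ Commute zz R ∧ g = R * tq e a ∧ Ev0 a ∧ D0 (a.1 + α)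

theorem Al.of_d0 (h : Al g α) (k : D0 (α + β)) : Al g β := by
  obtain ⟨R, e, a, h1, h2, h3, h4, h5⟩ := h
  exact ⟨R, e, a, h1, h2, h3, h4, (h5.add k).of_eq (by rw [add_assoc, GA.cancel'])⟩

theorem Al.uniq (h : Al g α) (k : Al g β) : D0 (α + β) := by
  obtain ⟨R, e, a, h1, -, h3, -, h5⟩ := h
  obtain ⟨R', e', a', k1, -, k3, -, k5⟩ := k
  have h6 : R'⁻¹ * R = tq e' a' * (tq e a)⁻¹ := by
    rw [inv_mul_eq_iff_eq_mul, ← mul_assoc, ← k3, h3, mul_inv_cancel_right]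
  have h7 := mul_mem (inv_mem k1) h1
  rw [h6, frK.inv, frK.mul, tq_mem_v0] at h7
  refine ((h5.add k5).add (show D0 (a'.1 + a.1) from h7.1)).of_eq ?_
  rw [show a.1 + α + (a'.1 + β) + (a'.1 + a.1) = α + β + (a.1 + a.1) + (a'.1 + a'.1) by abel, cd_add_self,
    cd_add_self, add_zero, add_zero]

theorem Al.mul (h : Al y α) (k : Al y' β) : Al (y * y') (α + β) := by
  obtain ⟨R, e, a, h1, h2, rfl, h4, h5⟩ := h
  obtain ⟨R', e', a', k1, k2, rfl, k4, k5⟩ := k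
  obtain ⟨d, hd⟩ := sgn_of_mem (inv_mem k1) k2.inv_right.symm
  obtain ⟨f, e1⟩ := frK.act _ _ hd e a
  have h6 : D0 ((csm (sgC d) a).1 + a.1) := (d0_smul _).of_eq (congrArg Prod.fst (csm_sgC_even h4 d)).symm
  refine ⟨R * R', f + e' + a'.2 ⬝ᵥ (csm (sgC d) a).1, csm (sgC d) a + a', mul_mem h1 k1,
    h2.mul_right k2, by rw [← frK.mul, ← e1]; group,
    ((ev0_csm (sgC_mem_Mon d)).2 h4).add k4, ((h5.add k5).add h6).of_eq ?_⟩
  rw [Prod.fst_add, show a.1 + α + (a'.1 + β) + ((csm (sgC d) a).1 + a.1) =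
    (csm (sgC d) a).1 + a'.1 + (α + β) + (a.1 + a.1) by abel, cd_add_self, add_zero]

theorem Al.z_mul (h : Al g α) : Al (zz * g) α := by
  obtain ⟨R, e, a, h1, h2, rfl, h4, h5⟩ := h
  exact ⟨R, e + 1, a, h1, h2, by rw [← mul_assoc, h2.eq, mul_assoc]; exact congrArg _ (frK.z_mul e a), h4, h5⟩

theorem Al.ez (h : Al y' α) (k : Ez zz y y') : Al y α := by
  rcases k with rfl | rfl
  exacts [h, h.z_mul]

theorem Al.conj (h : Al g α) (hx : (x, sgC c * perm σ) ∈ GK) (hv : Commute x (tq 0 v0)) :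
    Al (x * g * x⁻¹) (pc σ α) := by
  obtain ⟨R, e, a, h1, h2, rfl, h4, h5⟩ := h
  obtain ⟨f, e1⟩ := frK.act _ _ hx e a
  have hz : Commute zz x := exists_GK.1 ⟨_, hx⟩
  have h6 : D0 (pc σ a.1 + pc σ α) := h5.of_eq (by rw [← pc_add, h5.pc])
  refine ⟨x * R * x⁻¹, f, _, conj_QQ hv h1, (hz.mul_right h2).mul_right hz.inv_right, by rw [← e1]; group,
    (ev0_csm (mon_mem c σ)).2 h4, ((fst_csm h4 c σ).add h6).of_eq (by rw [add_assoc, GA.cancel'])⟩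

theorem ex_al (ho : o ∈ Oct) (h : (g, sgC o) ∈ GK) (h2 : g * g = zz) :
    ∃ c ∈ Oct, wd c * wd o = 0 ∧ Al g c := by
  obtain ⟨s, hs, s1, -, s2, -⟩ := M2.exists_swap
  have hN := clT_NO ho (δ := 0) (by simp [mem_Ev])
  have k0 := s2 0 _ (fix_co ho (NO_le o hN)).1
  rw [GolB.fst_clT] at k0
  have h0 : s * tq 0 (clT o 0) * s⁻¹ ∈ QQ (tq 0 v0) := by
    rw [← s1, cj_mem_QQ, QQ_zz]; exact tq_QK _ _
  have hp : Pnt (AO o) zs := ⟨isArk_AO ho, tq_mem_AO.2 ((v12_NO ho t0_v0.v12).2 (Rf.zero o)), tq_v0_ZC 1⟩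
  have hA : s * tq 0 (clT o 0) * s⁻¹ ∈ AO o := (mem_normalizer_iff.1 (hp.le_norm hs) _).1 (tq_mem_AO.2 hN)
  generalize s * tq 0 (clT o 0) * s⁻¹ = R at k0 h0 hA
  have q0 := (isArk_AO ho).sq hA
  obtain ⟨e, a, rfl⟩ := frK.eq_mul k0 h
  have ha : a ∈ Fix (sgC o) := fix_of_sq k0 q0 h2
  have hc : Commute R (tq e a) := (tq_cent_AO ho).2 ha R hA
  rw [hc.symm.mul_mul_mul_comm, q0, one_mul, frK.sq] at h2
  have hq : qL a = 1 := (frK.inj h2).1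
  obtain ⟨h3, h4⟩ := fix_co ho ha
  have h5 : ¬ D4 o a.1 := fun h5 => by
    obtain ⟨b, hb, hn⟩ := d4_split ho ha h5
    have h6 : b ∈ Fix (sgC o) := (add_mem_cancel_left ha).1 (NO_le o hn)
    have h7 := qL_add b (a + b)
    rw [add_left_comm, ll_add_self, add_zero, hq, hb.qL, NO_qL ho hn, show pol b (a + b) = 0 from hn b h6] at h7
    exact absurd h7 (by decide)
  have h6 : Al (R * tq e a) a.1 := ⟨R, e, a, h0, exists_GK.1 ⟨_, k0⟩, rfl, h3, d0_self _⟩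
  rcases h4 with h4 | h4
  · exact ⟨_, GA.oct_of ho h4 h5, h4, h6⟩
  · have h7 : wd (a.1 + om) * wd o = 0 := by rw [map_add, wd_om, add_mul, h4, one_mul, wd_add_self]
    exact ⟨_, GA.oct_of ho h7 fun k => h5 (add_om_om a.1 ▸ k.add GA.d4_om), h7,
      h6.of_d0 (d0_om.of_eq (GA.cancel' _ _).symm)⟩

theorem oct_eq (ho : o ∈ Oct) (ho' : o' ∈ Oct) (h : D0 (o + o')) : o = o' := by
  rcases h with h | h
  · rw [← GA.cancel' o o', h, add_zero]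
  · have h1 := wt_wd_add_om o
    rw [← h, GA.cancel', mem_Oct.1 ho, mem_Oct.1 ho'] at h1
    omega

theorem pc_eq (ho : o ∈ Oct) (ho' : o' ∈ Oct) (hy : (y, sgC o) ∈ GK) (hy' : (y', sgC o') ∈ GK)
    (hx : (x, sgC c * perm σ) ∈ GK) (h : Ez zz (x * y * x⁻¹) y') : pc σ o = o' := by
  have h1 := conj_mem' hx hy
  rw [mon_conj] at h1
  have h2 : (x * y * x⁻¹, sgC o') ∈ GK := by
    rcases h with h | h <;> rw [h]
    · exact hy'
    · simpa [zz] using GK.mul_mem (frK.mem 1 0) hy'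
  refine oct_eq (pc_oct σ ho) ho' ?_
  rcases frK.eq_or h2 h1 with h3 | h3
  · exact (d0_self o').of_eq (by rw [sgC_injective h3])
  · rw [← sgC_om, ← sgC_add] at h3
    exact d0_om.of_eq (by rw [sgC_injective h3, add_assoc, cd_add_self, add_zero])

theorem disj_of (ho : o ∈ Oct) (ho' : o' ∈ Oct) (h : o + o' + om ∈ Oct) : wd o * wd o' = 0 := by
  have h1 := wt_wd_add_om (o + o')
  have h2 := wt_add (wd o) (wd o')
  rw [← map_add, mem_Oct.1 ho, mem_Oct.1 ho'] at h2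
  rw [mem_Oct.1 h] at h1
  exact hammingNorm_eq_zero.1 (show wt _ = 0 by omega)

end Q8A

open Q8A

theorem sq_dod (hd : wt (wd d) = 12) (h : (g, sgC d) ∈ GK) : g * g ≠ zz := by
  intro h2
  obtain ⟨s, -, s1, -, s2, -⟩ := M2.exists_swap
  have k0 : (s * tq 0 (d, 0) * s⁻¹, sgC d) ∈ GK := s2 0 (d, 0) (by simp [Ev0])
  have h0 : s * tq 0 (d, 0) * s⁻¹ ∈ QQ (tq 0 v0) := by
    rw [← s1, cj_mem_QQ, QQ_zz]; exact tq_QK _ _
  have q0 : s * tq 0 (d, 0) * s⁻¹ * (s * tq 0 (d, 0) * s⁻¹) = 1 := by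
    rw [conj_mul, frK.sq, show qL (d, 0) = 0 by simp [qL], tq_zero]; simp
  generalize s * tq 0 (d, 0) * s⁻¹ = y0 at k0 h0 q0
  obtain ⟨e, a, rfl⟩ := frK.eq_mul k0 h
  obtain ⟨f, hf⟩ := TriA.mulq (e := e) hd h0 k0 (fix_of_sq k0 q0 h2)
  rcases (es_QQ (tq_v0_ZC f)).1.sq _ hf with h3 | h3 <;> rw [h2] at h3
  · exact frK.z_ne h3
  · exact ZH.om_ne.1 (frK.inj h3).2.symm

theorem q8 (ho : o ∈ Oct) (ho' : o' ∈ Oct) (h4 : wt (wd o * wd o') = 4) (hy : (y, sgC o) ∈ GK)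
    (hy' : (y', sgC o') ∈ GK) (s1 : y * y = zz) (s2 : y' * y' = zz) (s3 : y * y' * (y * y') = zz)
    (hx : (x, sgC c * perm σ) ∈ GK) (hv : Commute x (tq 0 v0)) (x1 : Ez zz (x * y * x⁻¹) y')
    (x2 : Ez zz (x * y' * x⁻¹) (y * y')) : Cy σ := by
  have ho3 : o + o' ∈ Oct := by
    have h1 := wt_add (wd o) (wd o')
    rw [← map_add, mem_Oct.1 ho, mem_Oct.1 ho', h4] at h1
    exact mem_Oct.2 (by omega)
  have hy3 : (y * y', sgC (o + o')) ∈ GK := sgC_add o o' ▸ GK.mul_mem hy hy'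
  obtain ⟨c1, k1, d1, a1⟩ := ex_al ho hy s1
  obtain ⟨c2, k2, d2, a2⟩ := ex_al ho' hy' s2
  obtain ⟨c3, k3, d3, a3⟩ := ex_al ho3 hy3 s3
  have p1 := oct_eq (pc_oct σ k1) k2 ((a1.conj hx hv).uniq (a2.ez x1))
  have p2 := oct_eq (pc_oct σ k2) k3 ((a2.conj hx hv).uniq (a3.ez x2))
  have q1 := pc_eq ho ho' hy hy' hx x1
  have q2 := pc_eq ho' ho3 hy' hy3 hx x2
  rcases (a1.mul a2).uniq a3 with h | h
  · have e : c3 = c1 + c2 := by rw [← GA.cancel' (c1 + c2) c3, h, add_zero]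
    have e' : c1 + o + om + (c2 + o' + om) + om = c3 + (o + o') + om := by
      rw [e, show c1 + o + om + (c2 + o' + om) + om = c1 + c2 + (o + o') + om + om + om by abel, add_om_om]
    refine ⟨_, third_oct k1 ho d1, _, third_oct k2 ho' d2, disj_of (third_oct k1 ho d1) (third_oct k2 ho' d2)
      (e' ▸ third_oct k3 ho3 d3), ?_, ?_⟩
    · rw [pc_add, pc_add, p1, q1, pc_om]
    · rw [e', pc_add, pc_add, p2, q2, pc_om]
  · have e : c1 + c2 + om = c3 := by rw [← h, GA.cancel']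
    exact ⟨c1, k1, c2, k2, disj_of k1 k2 (e ▸ k3), p1, p2.trans e.symm⟩

end Cfsg.Agent.Gr.Pa
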