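import Mathlib
import Cfsg.Agent.GT.PGroupBasic
import Cfsg.Agent.Gr.Pa.Abs

/-! Frattini covers and trivial actions. -/

set_option autoImplicit false

namespace Cfsg.Agent.Gr.Pa

open Subgroup
open scoped commutatorElement

theorem exists_cov {G X : Type} [Group G] [Group X] [Finite G] (φ : G →* X) (hφ : Function.Surjective φ) :
    ∃ H : Subgroup G, Cov (φ.comp H.subtype) := by
  obtain ⟨H, hH⟩ := exists_minimal_of_wellFoundedLT (fun H : Subgroup G => H.map φ = ⊤)
    ⟨⊤, map_top_of_surjective φ hφ⟩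
  refine ⟨H, MonoidHom.range_eq_top.1 ?_, fun K hK => ?_⟩
  · rw [MonoidHom.range_comp, range_subtype, hH.1]
  · rw [← map_map] at hK
    exact top_le_iff.1 fun x _ => by
      obtain ⟨y, hy, e⟩ := hH.2 hK (map_subtype_le K) x.2
      exact Subtype.ext e ▸ hy

theorem Cov.perfect {A X : Type} [Group A] [Group X] {π : A →* X} (h : Cov π) (hX : commutator X = ⊤) :
    commutator A = ⊤ := h.min _ (by
  rw [commutator_def, map_commutator, map_top_of_surjective π h.surj, ← commutator_def, hX])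

theorem Red.nil {A X : Type} [Group A] [Group X] [Finite A] {π : A →* X} (h : Cov π) :
    Group.IsNilpotent π.ker := by
  have hle : π.ker ≤ frattini A := le_iInf₂ fun M hM => by_contra fun hn => hM.1 (h.min M (by
    have := congrArg (map π) (hM.2 _ (left_lt_sup.2 hn))
    rwa [Subgroup.map_sup, (Subgroup.map_eq_bot_iff π.ker).2 le_rfl, sup_bot_eq,
      map_top_of_surjective π h.surj] at this))
  have := frattini_nilpotent (G := A)
  exact Group.nilpotent_of_mulEquiv (subgroupOfEquivOfLe hle)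

theorem Red.act {A X : Type} [Group A] [Group X] {π : A →* X} (h : Function.Surjective π)
    (V : Subgroup A) [V.Normal] (hV : V ≤ centralizer π.ker) :
    ∃ ρ : X →* MulAut V, ∀ (a : A) (v : V), (ρ (π a) v : A) = a * v * a⁻¹ :=
  ⟨π.liftOfSurjective h ⟨MulAut.conjNormal, fun k hk => MulEquiv.ext fun v => Subtype.ext (by
      simp [hV v.2 k hk])⟩, fun a v => by
    rw [MonoidHom.liftOfRightInverse_comp_apply]; rfl⟩

/-- The elements of the centre of `N` killed by `p`. -/
def Red.om {A : Type} [Group A] (N : Subgroup A) (p : ℕ) : Subgroup A where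
  carrier := {v | (v ∈ N ∧ v ∈ centralizer (N : Set A)) ∧ v ^ p = 1}
  one_mem' := ⟨⟨one_mem _, one_mem _⟩, one_pow _⟩
  mul_mem' := fun {a b} ha hb => ⟨⟨mul_mem ha.1.1 hb.1.1, mul_mem ha.1.2 hb.1.2⟩, by
    rw [Commute.mul_pow (hb.1.2 a ha.1.1), ha.2, hb.2, one_mul]⟩
  inv_mem' := fun {a} ha => ⟨⟨inv_mem ha.1.1, inv_mem ha.1.2⟩, by rw [inv_pow, ha.2, inv_one]⟩

instance Red.om_normal {A : Type} [Group A] (N : Subgroup A) [hN : N.Normal] (p : ℕ) : (Red.om N p).Normal :=
  ⟨fun v hv g => ⟨⟨hN.conj_mem v hv.1.1 g,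
    (inferInstance : (centralizer (N : Set A)).Normal).conj_mem v hv.1.2 g⟩, by
      rw [conj_pow, hv.2, mul_one, mul_inv_cancel]⟩⟩

theorem Red.om_ne {A : Type} [Group A] [Finite A] {N : Subgroup A} (hN : Group.IsNilpotent N) {p : ℕ}
    (hp : p.Prime) (h : p ∣ Nat.card N) : Red.om N p ≠ ⊥ := by
  have := Fact.mk hp
  obtain ⟨P⟩ : Nonempty (Sylow p N) := inferInstance
  have h1 := GT.PG.inf_center_ne_bot (P : Subgroup N) (P.ne_bot_of_dvd_card h)
  have h2 : IsPGroup p ((P : Subgroup N) ⊓ center N : Subgroup N) := P.isPGroup'.to_le inf_le_left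
  have := (nontrivial_iff_ne_bot _).2 h1
  obtain ⟨n, hn, e⟩ := h2.nontrivial_iff_card.1 this
  obtain ⟨x, hx⟩ := exists_prime_orderOf_dvd_card' (G := ((P : Subgroup N) ⊓ center N : Subgroup N)) p
    (e ▸ dvd_pow_self p hn.ne')
  have ho : orderOf ((x : N) : A) = p := by rw [orderOf_coe, orderOf_coe, hx]
  refine (ne_bot_iff_exists_ne_one.2 ⟨⟨((x : N) : A), ⟨x.1.2, fun k hk => ?_⟩, ?_⟩, fun e => ?_⟩)
  · exact congrArg Subtype.val (mem_center_iff.1 x.2.2 ⟨k, hk⟩)
  · exact orderOf_dvd_iff_pow_eq_one.1 ho.dvd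
  · rw [show ((x : N) : A) = 1 from congrArg Subtype.val e, orderOf_one] at ho
    exact hp.one_lt.ne ho

theorem Red.central {X : Type} [Group X] (hX : commutator X = ⊤) (n : ℕ) :
    ∀ (A : Type) [Group A] [Finite A] (π : A →* X), Nat.card A = n → Cov π →
    (∀ (p : ℕ) (V : Type) [CommGroup V] [Finite V] [Nontrivial V] (ρ : X →* MulAut V), p.Prime →
      (∀ v : V, v ^ p = 1) → Nat.card V ∣ Nat.card π.ker → Irr ρ → ∀ g, ρ g = 1) →
    π.ker ≤ center A := by
  induction n using Nat.strong_induction_on with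
  | _ n ih =>
  intro A _ _ π hn h H
  by_cases hb : π.ker = ⊥
  · rw [hb]; exact bot_le
  obtain ⟨p, hp, hd⟩ := Nat.exists_prime_and_dvd (mt card_eq_one.1 hb)
  obtain ⟨V, hV⟩ := exists_minimal_of_wellFoundedLT
    (fun V : Subgroup A => V.Normal ∧ V ≠ ⊥ ∧ V ≤ Red.om π.ker p)
    ⟨_, inferInstance, Red.om_ne (Red.nil h) hp hd, le_rfl⟩
  obtain ⟨hN, h1, h2⟩ := hV.1
  have hk : V ≤ π.ker := fun v hv => (h2 hv).1.1
  obtain ⟨ρ, hρ⟩ := Red.act h.surj V fun v hv => (h2 hv).1.2
  have := (nontrivial_iff_ne_bot _).2 h1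
  have hc : V ≤ center A := by
    letI : CommGroup V := { (inferInstance : Group V) with
      mul_comm := fun a b => Subtype.ext ((h2 b.2).1.2 a (hk a.2)) }
    have := H p V ρ hp (fun v => Subtype.ext (h2 v.2).2) (card_dvd_of_le hk) fun W hW => by
      refine or_iff_not_imp_left.2 fun hW1 => top_le_iff.1 fun x _ => ?_
      obtain ⟨y, hy, e⟩ := hV.2 (y := W.map V.subtype) ⟨⟨by
        rintro _ ⟨w, hw, rfl⟩ g
        exact ⟨_, hW (π g) w hw, hρ g w⟩⟩, fun e => hW1 ((map_eq_bot_iff_of_injective _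
          V.subtype_injective).1 e), (map_subtype_le W).trans h2⟩ (map_subtype_le W) x.2
      exact Subtype.ext e ▸ hy
    intro v hv
    refine mem_center_iff.2 fun g => ?_
    have e := hρ g ⟨v, hv⟩
    rw [this] at e
    exact mul_inv_eq_iff_eq_mul.1 e.symm
  have hs := QuotientGroup.mk'_surjective V
  have hq := ih _ (by
      rw [← hn, card_eq_card_quotient_mul_card_subgroup V]
      exact lt_mul_of_one_lt_right Nat.card_pos Finite.one_lt_card) (A ⧸ V)
    (QuotientGroup.lift V π hk) rfl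
    ⟨QuotientGroup.lift_surjective_of_surjective V π h.surj hk, fun K hK => by
      have := h.min (K.comap (QuotientGroup.mk' V)) (by
        rw [← hK, ← map_comap_eq_self_of_surjective hs K, map_map, comap_map_eq, QuotientGroup.ker_mk',
          sup_of_le_left (QuotientGroup.le_comap_mk' V K)]
        rfl)
      rw [← map_comap_eq_self_of_surjective hs K, this, map_top_of_surjective _ hs]⟩
    fun p W _ _ _ ρ hp h1 h2 => H p W ρ hp h1 (h2.trans (by
      rw [QuotientGroup.ker_lift]; exact card_map_dvd _ _))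
  have h3 : ⁅⁅π.ker, (⊤ : Subgroup A)⁆, (⊤ : Subgroup A)⁆ = ⊥ := by
    rw [commutator_eq_bot_iff_le_centralizer, coe_top, centralizer_univ]
    refine le_trans (commutator_le.2 fun k hk' g _ => ?_) hc
    rw [← QuotientGroup.eq_one_iff, ← QuotientGroup.mk'_apply, map_commutatorElement,
      commutatorElement_eq_one_iff_mul_comm]
    exact (mem_center_iff.1 (hq (show QuotientGroup.lift V π hk (QuotientGroup.mk' V k) = 1 from hk')) _).symm
  have h4 := commutator_commutator_eq_bot_of_rotate (H₁ := ⊤) (H₂ := ⊤) (H₃ := π.ker)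
    (by rwa [commutator_comm ⊤ π.ker]) h3
  rwa [← commutator_def, h.perfect hX, commutator_comm, commutator_eq_bot_iff_le_centralizer, coe_top,
    centralizer_univ] at h4

theorem Cov.central {A X : Type} [Group A] [Group X] [Finite A] {π : A →* X} (h : Cov π) (hX : commutator X = ⊤)
    (H : ∀ (p : ℕ) (V : Type) [CommGroup V] [Finite V] [Nontrivial V] (ρ : X →* MulAut V), p.Prime →
      (∀ v : V, v ^ p = 1) → Nat.card V ∣ Nat.card π.ker → Irr ρ → ∀ g, ρ g = 1) : π.ker ≤ center A :=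
  Red.central hX _ A π rfl h H

theorem Cov.two {A X : Type} [Group A] [Group X] [Finite A] {π : A →* X} (h : Cov π) (h2 : 2 ∣ Nat.card π.ker) :
    ∃ (V : Subgroup A) (ρ : X →* MulAut V), V ≠ ⊥ ∧ (∀ v ∈ V, v * v = 1) ∧
      ∀ (a : A) (v : V), (ρ (π a) v : A) = a * v * a⁻¹ := by
  obtain ⟨ρ, hρ⟩ := Red.act h.surj (Red.om π.ker 2) fun v hv => hv.1.2
  exact ⟨_, ρ, Red.om_ne (Red.nil h) Nat.prime_two h2, fun v hv => pow_two v ▸ hv.2, hρ⟩

theorem triv_of_prime {V : Type} [Group V] [Finite V] {p m r : ℕ} (hp : p.Prime) (hV : Nat.card V = p ^ m)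
    (hr : r.Prime) (hne : r ≠ p) (H : ∀ j, 0 < j → j ≤ m → ¬ r ∣ p ^ j - 1) {α : MulAut V} (h : α ^ r = 1) : α = 1 := by
  have := Fact.mk hr
  have hP : IsPGroup r (zpowers α) := by
    rintro ⟨_, k, rfl⟩
    refine ⟨1, Subtype.ext ?_⟩
    show (α ^ k) ^ r ^ 1 = 1
    rw [pow_one, ← zpow_natCast, ← zpow_mul, mul_comm, zpow_mul, zpow_natCast, h, one_zpow]
  have h1 : Nat.card V ≡ Nat.card (FixedPoints.subgroup (zpowers α) V) [MOD r] :=
    hP.card_modEq_card_fixedPoints V
  obtain ⟨k, hk, e⟩ := (Nat.dvd_prime_pow hp).1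
    (hV ▸ card_subgroup_dvd_card (FixedPoints.subgroup (zpowers α) V))
  rcases hk.eq_or_lt with rfl | hlt
  · have h2 := eq_top_of_card_eq _ (e.trans hV.symm)
    refine MulEquiv.ext fun v => ?_
    have h3 : v ∈ FixedPoints.subgroup (zpowers α) V := h2 ▸ mem_top v
    exact h3 ⟨α, mem_zpowers α⟩
  · refine absurd ?_ (H (m - k) (by omega) (by omega))
    rw [hV, e] at h1
    have h2 := (Nat.modEq_iff_dvd' (Nat.pow_le_pow_right hp.pos hk)).1 h1.symm
    rw [show p ^ m = p ^ k * p ^ (m - k) by rw [← pow_add]; congr 1; omega, ← Nat.mul_sub_one] at h2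
    exact (hr.dvd_mul.1 h2).resolve_left fun o =>
      hne ((Nat.prime_dvd_prime_iff_eq hr hp).1 (hr.dvd_of_dvd_pow o))

theorem triv_of_simple {X V : Type} [Group X] [Finite X] [IsSimpleGroup X] [Group V] [Finite V] {p m r : ℕ}
    (hp : p.Prime) (hV : Nat.card V = p ^ m) (hr : r.Prime) (hne : r ≠ p) (hX : r ∣ Nat.card X)
    (H : ∀ j, 0 < j → j ≤ m → ¬ r ∣ p ^ j - 1) (ρ : X →* MulAut V) (g : X) : ρ g = 1 := by
  have := Fact.mk hr
  obtain ⟨x, hx⟩ := exists_prime_orderOf_dvd_card' (G := X) r hX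
  have h1 : x ∈ ρ.ker := triv_of_prime hp hV hr hne H (by
    rw [← map_pow, ← hx, pow_orderOf_eq_one, map_one])
  rcases (inferInstance : ρ.ker.Normal).eq_bot_or_eq_top with e | e
  · rw [e, mem_bot] at h1
    rw [h1, orderOf_one] at hx
    exact absurd hx hr.one_lt.ne
  · exact show g ∈ ρ.ker from e ▸ mem_top g

end Cfsg.Agent.Gr.Pa
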