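import Mathlib
import Cfsg.Agent.Gr.Pa.Defs
import Cfsg.Agent.Gr.Pa.Red

/-! Sections of the Monster: elements of order thirteen, three and seven. -/

set_option autoImplicit false

namespace Cfsg.Agent.Gr.Pa

open Subgroup Cfsg.Agent.Spor Cfsg.Agent.Spor.Leech Cfsg.Agent.Gr.Rk Cfsg.Agent.Gr.Am Cfsg.Agent.Gr.M2

attribute [local irreducible] sgC cls twoC csm perm negOne pc tq act tau

theorem zc_of_far {z k : K} (h2 : z * z = 1) (h : Far z (k * z * k⁻¹)) : z ∈ ZC := by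
  refine (ZC_or_DD h2 fun e => h 1 le_rfl (by norm_num) (by simp [e])).resolve_right fun hd => ?_
  obtain ⟨n, h1, h6, e⟩ := DD_pow hd (mem_DD_conj.2 hd)
  exact h n h1 h6 e

theorem ru_cop {G : Type*} [Group G] {g : G} {m n : ℕ} (h : g ^ m = 1) (k : g ^ n = 1) (c : m.Coprime n) : g = 1 :=
  orderOf_eq_one_iff.1 (Nat.eq_one_of_dvd_coprimes c (orderOf_dvd_of_pow_eq_one h) (orderOf_dvd_of_pow_eq_one k))

theorem ru_pm {g : K} {γ : Co0} {n : ℕ} (h : (g, γ) ∈ GK) (hn : g ^ n = 1) : γ ^ n = 1 ∨ γ ^ n = negOne :=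
  frK.pm_of_one (by simpa [hn] using GK.pow_mem h n)

theorem ru_std {g : K} {e : ZMod 2} (h1 : Commute g zz) (h2 : Commute g (tq e v0)) (h13 : g ^ 13 = 1) : g = 1 := by
  obtain ⟨γ, hγ⟩ := exists_GK.2 h1.symm.eq
  have hM : γ ∈ Mon := mem_Mon_of_csm (fix_of_comm hγ h2)
  have h26 : (γ ^ 2) ^ 13 = 1 := by
    rw [← pow_mul, mul_comm, pow_mul, pow_two]
    rcases ru_pm hγ h13 with e | e <;> simp [e, negOne_mul_self]
  have hc : (γ ^ 2) ^ (4096 * 244823040) = 1 := by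
    rw [← card_Mon]
    exact congrArg Subtype.val (pow_card_eq_one' (x := (⟨γ ^ 2, pow_mem hM 2⟩ : Mon)))
  have h3 := GK.pow_mem hγ 2
  rw [Prod.pow_mk, ru_cop h26 hc (by norm_num)] at h3
  obtain ⟨f, a, e⟩ := frK.ker _ h3
  exact ru_cop h13 (n := 2 * 4) (by rw [pow_mul, e, frK.pow_four]) (by norm_num)

theorem ru_adj {g a b : K} (ha : a ∈ ZC) (hb : b ∈ ZC) (h : b ∈ QQ a) (ne : b ≠ a) (h1 : Commute g a)
    (h2 : Commute g b) (h13 : g ^ 13 = 1) : g = 1 := by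
  obtain ⟨k, k1, k2⟩ := adj_std ha hb h ne 0
  simpa using ru_std (g := k * g * k⁻¹) (k1 ▸ cj_comm.2 h1) (k2 ▸ cj_comm.2 h2) (by rw [conj_pow, h13]; simp)

theorem ru_norm {g y : K} (h1 : Commute g zz) (h2 : Commute g y) (hy : (y, sgC o0) ∈ GK) :
    g * g ∈ normalizer (AO o0 : Set K) := by
  obtain ⟨γ, hγ⟩ := exists_GK.2 h1.symm.eq
  have h3 := conj_mem' hγ hy
  rw [h2.eq, mul_inv_cancel_right] at h3
  refine cj_eq_iff.1 (cj_AO (GK.mul_mem hγ hγ) ?_)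
  change γ * γ * sgC o0 * (γ * γ)⁻¹ = _
  rw [show γ * γ * sgC o0 * (γ * γ)⁻¹ = γ * (γ * sgC o0 * γ⁻¹) * γ⁻¹ by group]
  rcases frK.eq_or hy h3 with e | e
  · rw [e, e]
  · rw [e, ← mul_assoc, negOne_comm, mul_assoc negOne, mul_assoc negOne, e, ← mul_assoc, negOne_mul_self, one_mul]

theorem RC.false {w k w' g : K} (h : RC w k w' g) : False := by
  have hw := zc_of_far h.w2 h.far
  have hw' : w' ∈ ZC := by
    obtain ⟨c, rfl⟩ := isConj_iff.1 h.cw
    exact (conj_mem_ZC c).2 hw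
  refine h.g1 ?_
  rcases M2.tri hw (ZH.sq hw') h.ww with t | ⟨u, hu, u1, u2, u3⟩ | ⟨c, c1, c2⟩
  · exact ru_adj hw hw' t h.ne h.gw h.gw' h.g13
  · by_cases e : w = u
    · exact ru_adj hu hw' u2 (e ▸ h.ne) (u1 g h.gw h.gw') h.gw' h.g13
    · exact ru_adj hu hw (u3 w (self_mem hw) h.ww) e (u1 g h.gw h.gw') h.gw h.g13
  have := finite_K
  have g1 : Commute (c * g * c⁻¹) zz := c1 ▸ cj_comm.2 h.gw
  have g13 : (c * g * c⁻¹) ^ 13 = 1 := by rw [conj_pow, h.g13]; simp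
  have hn := ru_norm g1 (cj_comm.2 h.gw') c2
  suffices c * g * c⁻¹ = 1 by simpa using this
  generalize c * g * c⁻¹ = x at g1 g13 hn
  have x13 : (x * x) ^ 13 = 1 := by rw [(Commute.refl x).mul_pow, g13, mul_one]
  have h1 := triv_of_prime (V := AO o0) Nat.prime_two (isArk_AO o0_oct).card (r := 13) (by norm_num) (by norm_num)
    (fun j h0 hj => by interval_cases j <;> norm_num) (α := (AO o0).normalizerMonoidHom ⟨_, hn⟩)
    (by rw [← map_pow, show (⟨_, hn⟩ : normalizer (AO o0 : Set K)) ^ 13 = 1 from Subtype.ext x13, map_one])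
  have h2 : x * x * tq 0 v0 * (x * x)⁻¹ = tq 0 v0 :=
    congrArg (fun α : MulAut (AO o0) => (α ⟨_, (lin_v0 0).mem'⟩ : K)) h1
  exact ru_cop g13 (n := 2) ((pow_two x).trans (ru_std (g1.mul_left g1) (mul_inv_eq_iff_eq_mul.1 h2) x13)) (by norm_num)

theorem ru_Q {b x : K} {β : Co0} (h : (b, β) ∈ GK) (hx : x ∈ QQ zz) (hc : Commute b x) (h1 : x ≠ 1) (h2 : x ≠ zz) :
    ∃ c, c ≠ 0 ∧ csm β c = c := by
  rw [QQ_zz] at hx
  obtain ⟨f, c, rfl⟩ := hx
  refine ⟨c, ?_, fix_of_comm h hc⟩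
  rintro rfl
  rcases z2_cases f with rfl | rfl
  exacts [h1 tq_zero, h2 rfl]

theorem ru_oct {b e : K} {β : Co0} (h3 : b ^ 3 = 1) (h : (b, β) ∈ GK) (be : Commute b e) (ez : e ∈ ZC)
    (ez' : zz * e ∈ ZC) (he : (e, sgC o0) ∈ GK) : ∃ c, c ≠ 0 ∧ csm β c = c := by
  have bz : Commute b zz := (exists_GK.1 ⟨_, h⟩).symm
  have b2 : b⁻¹ = b * b := inv_eq_of_mul_eq_one_right (by rw [← h3, pow_succ', pow_two])
  have hn : b ∈ normalizer (AO o0 : Set K) := inv_mem_iff.1 (b2 ▸ ru_norm bz be he)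
  have A := isArk_AO o0_oct
  have cA : ∀ a ∈ AO o0, b * a * b⁻¹ ∈ AO o0 := fun a => (mem_normalizer_iff.1 hn a).1
  have cQ : ∀ a, a ∉ QQ zz → b * a * b⁻¹ ∉ QQ zz := fun a ha k =>
    ha (by simpa [mul_assoc] using conj_QQ bz.inv_left k)
  obtain ⟨a, ha, na⟩ := pnt_zz.ex_not
  have h1 := cA _ ha
  have h2 := cA _ h1
  have m0 := mul_mem (mul_mem ha h1) h2
  have n0 : a * (b * a * b⁻¹) * (b * (b * a * b⁻¹) * b⁻¹) ∉ QQ zz := fun k =>
    cQ _ (cQ _ na) ((mul_mem_cancel_left (pnt_zz.two ha h1 na (cQ _ na))).1 k)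
  have f0 : Commute b (a * (b * a * b⁻¹) * (b * (b * a * b⁻¹) * b⁻¹)) := by
    refine mul_inv_eq_iff_eq_mul.1 ?_
    rw [conj_mul', conj_mul', show b * (b * (b * a * b⁻¹) * b⁻¹) * b⁻¹ = b ^ 3 * a * (b ^ 3)⁻¹ by
      simp only [pow_succ, pow_zero, one_mul, mul_inv_rev, mul_assoc], h3, one_mul,
      inv_one, mul_one, ← (A.comm ha (mul_mem h1 h2)).eq, mul_assoc a]
  generalize a * (b * a * b⁻¹) * (b * (b * a * b⁻¹) * b⁻¹) = x at m0 n0 f0
  obtain ⟨f, c, rfl⟩ := frK.eq_mul (AO_gk m0 (QQ_zz ▸ n0)) he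
  refine ⟨c, ?_, fix_of_comm (e := f) h (by simpa using f0.inv_right.mul_right be)⟩
  rintro rfl
  have q : tq f 0 ∈ QQ zz := QQ_zz ▸ tq_QK _ _
  rcases pnt_zz.flip (mul_mem m0 (tq_mem_AO.2 (zero_mem _))) (fun k => n0 ((mul_mem_cancel_right q).1 k)) with k | k
  exacts [ZH.not_DD ez' k.2, ZH.not_DD ez k.1]

theorem on_b {b e : K} {β : Co0} (h3 : b ^ 3 = 1) (h : (b, β) ∈ GK) (be : Commute b e) (ez : e ∈ ZC)
    (ez' : zz * e ∈ ZC) (ze : Commute zz e) : ∃ c, c ≠ 0 ∧ csm β c = c := by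
  have bz : Commute b zz := (exists_GK.1 ⟨_, h⟩).symm
  have hQ : e ∈ QQ zz → ∃ c, c ≠ 0 ∧ csm β c = c := fun t =>
    ru_Q h t be (ZH.ne_one ez) fun k => ZH.ne_one ez' (by rw [k, ZH.sq zz_mem_ZC])
  rcases M2.tri zz_mem_ZC (ZH.sq ez) ze with t | ⟨u, hu, u1, u2, u3⟩ | ⟨k, k1, k2⟩
  · exact hQ t
  · by_cases t : u = zz
    · exact hQ (t ▸ u2)
    · exact ru_Q h (QQ_symm hu zz_mem_ZC (u3 _ (self_mem zz_mem_ZC) ze)) (u1 b bz be) (ZH.ne_one hu) t
  obtain ⟨κ, hκ⟩ := exists_GK.2 (mul_inv_eq_iff_eq_mul.1 k1).symm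
  obtain ⟨c, c0, hc⟩ := ru_oct (by rw [conj_pow, h3]; simp) (conj_mem' hκ h) (cj_comm.2 be) ((conj_mem_ZC k).2 ez)
    (by rw [← k1, ← conj_mul']; exact (conj_mem_ZC k).2 ez') k2
  refine ⟨csm κ⁻¹ c, ActH.csm_eq_zero.not.2 c0, ActH.csm_injective κ ?_⟩
  rw [← csm_conj, ActH.csm_csm_inv, hc]

theorem ru_short {a b c : LL} (ha : a ∈ ShS) (hb : b ∈ ShS) (hc : c ∈ ShS) (h1 : a + b ∈ ShS) (h2 : a + c ∈ ShS)
    (h3 : b + c ∈ ShS) : a + (b + c) ∉ ShS := fun h4 => by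
  obtain ⟨u, hu, rfl⟩ := mem_ShS.1 ha
  obtain ⟨v, hv, rfl⟩ := mem_ShS.1 hb
  obtain ⟨w, hw, rfl⟩ := mem_ShS.1 hc
  rw [add_mem_ShS hu hv] at h1
  rw [add_mem_ShS hu hw] at h2
  rcases (add_mem_ShS hv hw).1 h3 with h3 | h3
  · rw [← cls_sub, add_mem_ShS hu (by rw [nm_sub, hv, hw, h3]; norm_num), ip_sub_right] at h4
    omega
  · rw [← cls_add, add_mem_ShS hu (by rw [nm_add, hv, hw, h3]; norm_num), ip_add_right] at h4
    omega

theorem ru_seven {η : Co0} {x : LL} (x0 : x ≠ 0)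
    (h : csm η (csm η (csm η x)) = csm η x + x ∨ csm η (csm η (csm η x)) = csm η (csm η x) + x) : T4 x := by
  have key : ∀ P : LL → Prop, (∀ y, P y → P (csm η y)) → P x → P (csm η x) ∧ P (csm η (csm η x)) ∧
      P (x + csm η x) ∧ P (x + csm η (csm η x)) ∧ P (csm η x + csm η (csm η x)) ∧
      P (x + (csm η x + csm η (csm η x))) := fun P H p0 => by
    have p1 := H _ p0
    have p2 := H _ p1
    have p3 := H _ p2
    have two : ∀ y : LL, y + y = 0 := ll_add_self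
    rcases h with h | h
    · rw [h] at p3
      have p4 := H _ p3
      rw [csm_add] at p4
      have p5 := H _ p4
      rw [csm_add, h] at p5
      have p6 := H _ p5
      rw [csm_add, csm_add, h] at p6
      refine ⟨p1, p2, by convert p3 using 1; abel, ?_, by convert p4 using 1; abel, by convert p5 using 1; abel⟩
      convert p6 using 1
      linear_combination (exp := 1) -two (csm η x)
    · rw [h] at p3
      have p4 := H _ p3
      rw [csm_add, h] at p4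
      have p5 := H _ p4
      rw [csm_add, csm_add, h] at p5
      have p5' : P (x + csm η x) := by
        convert p5 using 1
        linear_combination (exp := 1) -two (csm η (csm η x))
      exact ⟨p1, p2, p5', by convert p3 using 1; abel, csm_add η _ _ ▸ H _ p5', by convert p4 using 1; abel⟩
  refine ⟨x0, (z2_cases _).resolve_right fun q0 => ?_, fun s0 => ?_⟩
  · obtain ⟨q1, q2, q3, q4, q5, q6⟩ := key (fun y => qL y = 1) (fun y hy => by rw [qL_csm, hy]) q0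
    rw [qL_add, q0, q5, pol_add_right] at q6
    rw [qL_add, q0, q1] at q3
    rw [qL_add, q0, q2] at q4
    revert q3 q4 q6
    generalize pol x (csm η x) = s, pol x (csm η (csm η x)) = t
    revert s t
    decide
  · obtain ⟨q1, q2, q3, q4, q5, q6⟩ := key (· ∈ ShS) (fun y => csm_mem.2) s0
    exact ru_short s0 q1 q2 q3 q4 q5 q6

theorem on_four {η β : Co0} {c : LL} (h7 : ∀ x, csm (η ^ 7) x = x) (hf : ∀ x, csm η x = x → x = 0)
    (hc : ∀ x, csm β (csm η x) = csm η (csm β x)) (h0 : c ≠ 0) (hb : csm β c = c) :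
    ∃ x, T4 x ∧ csm β x = x := by
  have two : ∀ y : LL, y + y = 0 := ll_add_self
  by_cases hy : csm η (csm η (csm η c)) + (csm η (csm η c) + c) = 0
  · exact ⟨c, ru_seven h0 (.inr (ll_eq_of_add hy)), hb⟩
  refine ⟨_, ru_seven (η := η) hy (.inl (ll_eq_of_add (hf _ ?_))), by simp only [csm_add, hc, hb]⟩
  have h8 := h7 c
  simp only [pow_succ, pow_zero, one_mul, csm_mul] at h8
  simp only [csm_add, h8]
  linear_combination (exp := 1) two (csm η (csm η (csm η (csm η c)))) - two (csm η (csm η (csm η c)))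

end Cfsg.Agent.Gr.Pa
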