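import Mathlib
import Cfsg.Agent.Gr.Pa.JmA
import Cfsg.Agent.Gr.Pa.Q8
import Cfsg.Agent.Gr.Pa.Dod
import Cfsg.Agent.Gr.Pa.Ru

/-! The two-local configuration of the third Janko group does not occur in the Monster. -/

set_option autoImplicit false

namespace Cfsg.Agent.Gr.Pa

open Subgroup Cfsg.Agent.Spor Cfsg.Agent.Spor.Leech Cfsg.Agent.Gr.Rk Cfsg.Agent.Gr.Am Cfsg.Agent.Gr.M2

attribute [local irreducible] sgC cls twoC csm perm negOne pc tq act tau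

namespace Jm

variable {σ : Fin 5 → K} {f1 f2 g k v v' h : K} {τ : Fin 5 → Co0} {η φ1 φ2 : Co0}

theorem cjz (H : JC zz σ f1 f2 g k v v') (e : h * zz * h⁻¹ = zz) :
    JC zz (fun i => h * σ i * h⁻¹) (h * f1 * h⁻¹) (h * f2 * h⁻¹) (h * g * h⁻¹) (h * k * h⁻¹)
      (h * v * h⁻¹) (h * v' * h⁻¹) := by
  have := cj H h
  rwa [e] at this

theorem inv_eq (H : JC zz σ f1 f2 g k v v') (i : Fin 5) : (σ i)⁻¹ = σ i := inv_eq_of_mul_eq_one_right (H.s2 i)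

theorem not_comm (H : JC zz σ f1 f2 g k v v') {i j : Fin 5} (ne : i ≠ j) : σ i * σ j ≠ σ j * σ i := fun e => by
  have := H.anti i j ne
  rw [e, mul_assoc, H.s2, mul_one] at this
  exact frK.z_ne (mul_eq_right.1 this.symm)

theorem sq_pair (H : JC zz σ f1 f2 g k v v') {i j : Fin 5} (ne : i ≠ j) : σ i * σ j * (σ i * σ j) = zz := by
  rw [← mul_assoc, H.anti i j ne, mul_assoc, H.s2, mul_one]

theorem caseQ0 (H : JC zz σ f1 f2 g k v v') (h0 : σ 0 = tq 0 v0) : False := by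
  have q0 : σ 0 ∈ QK := h0 ▸ tq_QK _ _
  have q1 : σ 1 ∈ QK := qk_ez (H.a1.2 0) (qk_conj H.a1.1 q0)
  have q4 : σ 4 ∈ QK := qk_ez (H.a1.2 1) (qk_conj H.a1.1 q1)
  have q3 : σ 3 ∈ QK := qk_ez (H.a1.2 4) (qk_conj H.a1.1 q4)
  have q2 : σ 2 ∈ QK := qk_ez (H.a1.2 3) (qk_conj H.a1.1 q3)
  have hb : ∀ y ∈ QK, Commute zz (g * y * g⁻¹) → ∃ d, (g * y * g⁻¹, sgC d) ∈ GK := fun y hy hc =>
    sgn_of_mem (f := 0) (by rw [← h0, ← H.gz, cj_mem_QQ, QQ_zz]; exact hy) hc.symm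
  obtain ⟨d1, k1⟩ := hb _ (mul_mem q1 q2) H.b1.1
  obtain ⟨d2, k2⟩ := hb _ (mul_mem q1 q3) H.b2.1
  obtain ⟨e1, c1, p1⟩ := q1
  obtain ⟨e2, c2, p2⟩ := q2
  obtain ⟨e3, c3, p3⟩ := q3
  obtain ⟨e4, c4, p4⟩ := q4
  have a12 : csm (sgC d1) c1 = c2 := csm_ez k1 (by rw [← p1, ← p2]; exact H.b1.2 1)
  have a34 : csm (sgC d1) c3 = c4 := csm_ez k1 (by rw [← p3, ← p4]; exact H.b1.2 3)
  have a13 : csm (sgC d2) c1 = c3 := csm_ez k2 (by rw [← p1, ← p3]; exact H.b2.2 1)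
  have sum : v0 + c1 + c2 + c3 + c4 = 0 := by
    have := H.prod
    rw [h0, p1, p2, p3, p4, frK.mul, frK.mul, frK.mul, frK.mul] at this
    rcases this with e | e
    · exact (frK.inj (e.trans frK.zero.symm)).2
    · exact (frK.inj e).2
  refine lemI (x := c1) (fun e => not_comm H (i := 0) (j := 1) (by decide) ?_) d2 d1 ?_
  · rw [h0, p1]; exact frK.comm_iff.2 (ev0_iff.1 e)
  · rw [a13, csm_add, a12, a34, ← ll_cancel v0 (c4 + c2 + (c3 + c1)),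
      show v0 + (c4 + c2 + (c3 + c1)) = v0 + c1 + c2 + c3 + c4 by abel, sum, add_zero]

theorem caseQ (H : JC zz σ f1 f2 g k v v') : σ 0 ∉ QK := fun q => by
  have hz : σ 0 ∈ ZC := H.gz ▸ (conj_mem_ZC g).2 zz_mem_ZC
  obtain ⟨h, e, e'⟩ := adj_std zz_mem_ZC hz (QQ_zz ▸ q) (fun e => not_comm H (i := 0) (j := 1) (by decide) (by
    rw [e]; exact (H.zs 1).eq)) 0
  exact caseQ0 (cjz H e) e'

theorem ex_lift (H : JC zz σ f1 f2 g k v v') : ∃ τ : Fin 5 → Co0, ∀ i, (σ i, τ i) ∈ GK ∧ tr (τ i) = 8 := by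
  have s0 : ∃ γ, (σ 0, γ) ∈ GK ∧ tr γ = 8 := by
    obtain ⟨γ, hγ⟩ := gk_of (H.zs 0)
    rcases tr_cases (lift_sq hγ (H.s2 0)) with e | e | e | e | ⟨η, d, hd, e⟩
    · exact (caseQ H (frK.ker' hγ (Or.inl e))).elim
    · exact (caseQ H (frK.ker' hγ (Or.inr e))).elim
    · exact ⟨γ, hγ, e⟩
    · exact ⟨_, frK.mem_neg hγ, by rw [tr_neg, e]; norm_num⟩
    · obtain ⟨h, kh⟩ := frK.surj η
      have J := cjz H (conj_zz kh)
      exact (no_dod hd (e ▸ conj_mem' kh hγ) (J.s2 0) (J.s2 1) (J.zs 1) (J.anti 1 0 (by decide)) J.v2 J.v2' J.vv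
        J.vz J.vz' J.vs J.vs' J.sq).elim
  obtain ⟨φ, hφ⟩ := gk_of H.a1.1
  have st : ∀ i, (∃ γ, (σ i, γ) ∈ GK ∧ tr γ = 8) → ∃ γ, (σ (![1, 4, 0, 2, 3] i), γ) ∈ GK ∧ tr γ = 8 :=
    fun i ⟨γ, a, b⟩ => ⟨_, gk_ez (H.a1.2 i) (conj_mem' hφ a), by rw [tr_conj, b]⟩
  have s1 := st 0 s0
  have s4 := st 1 s1
  have s3 := st 4 s4
  have s2 := st 3 s3
  have all : ∀ i, ∃ γ, (σ i, γ) ∈ GK ∧ tr γ = 8 := fun i => by
    fin_cases i <;> assumption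
  exact ⟨fun i => (all i).choose, fun i => (all i).choose_spec⟩

/-- The configuration with lifts of trace eight. -/
structure JT (σ : Fin 5 → K) (f1 f2 g k v v' : K) (τ : Fin 5 → Co0) (φ1 φ2 : Co0) : Prop where
  jc : JC zz σ f1 f2 g k v v'
  gk : ∀ i, (σ i, τ i) ∈ GK
  t8 : ∀ i, tr (τ i) = 8
  g1 : (f1, φ1) ∈ GK
  g2 : (f2, φ2) ∈ GK

namespace JT

variable (H : JT σ f1 f2 g k v v' τ φ1 φ2)
include H

theorem cj (kh : (h, η) ∈ GK) : JT (fun i => h * σ i * h⁻¹) (h * f1 * h⁻¹) (h * f2 * h⁻¹) (h * g * h⁻¹)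
    (h * k * h⁻¹) (h * v * h⁻¹) (h * v' * h⁻¹) (fun i => η * τ i * η⁻¹) (η * φ1 * η⁻¹) (η * φ2 * η⁻¹) :=
  ⟨cjz H.jc (conj_zz kh), fun i => conj_mem' kh (H.gk i), fun i => by rw [tr_conj, H.t8], conj_mem' kh H.g1,
    conj_mem' kh H.g2⟩

theorem sq (i : Fin 5) : τ i * τ i = 1 := lift_sq (H.gk i) (H.jc.s2 i)

theorem act {p : Fin 5 → Fin 5} (kh : (h, η) ∈ GK) (a : Act zz σ h p) (i : Fin 5) : η * τ i * η⁻¹ = τ (p i) :=
  lift_conj kh (H.gk i) (H.gk _) (a.2 i) (by rw [H.t8, H.t8]) (by rw [H.t8]; norm_num)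

theorem act2 {p : Fin 5 → Fin 5} (kh : (h, η) ∈ GK) (a : Act zz σ h p) (i j : Fin 5) :
    η * (τ i * τ j) * η⁻¹ = τ (p i) * τ (p j) := by rw [← conj_mul, H.act kh a, H.act kh a]

theorem comm (i j : Fin 5) : Commute (τ i) (τ j) := by
  by_cases ne : i = j
  · rw [ne]
  · exact mul_inv_eq_iff_eq_mul.1 (lift_conj (H.gk i) (H.gk j) (H.gk j)
      (Or.inr (by rw [inv_eq H.jc, H.jc.anti i j ne])) rfl (by rw [H.t8]; norm_num))

theorem prod : τ 0 * τ 1 * τ 2 * τ 3 * τ 4 = 1 ∨ τ 0 * τ 1 * τ 2 * τ 3 * τ 4 = negOne := by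
  have m : (σ 0 * σ 1 * σ 2 * σ 3 * σ 4, τ 0 * τ 1 * τ 2 * τ 3 * τ 4) ∈ GK :=
    GK.mul_mem (GK.mul_mem (GK.mul_mem (GK.mul_mem (H.gk 0) (H.gk 1)) (H.gk 2)) (H.gk 3)) (H.gk 4)
  rcases H.jc.prod with e | e <;> rw [e] at m
  · exact frK.pm_of_one m
  · exact frK.pm_of m

theorem sq2 (i j : Fin 5) : τ i * τ j * (τ i * τ j) = 1 := by
  rw [(H.comm i j).symm.mul_mul_mul_comm, H.sq, H.sq, one_mul]

theorem mid (i j l : Fin 5) : τ i * τ j * (τ j * τ l) = τ i * τ l := by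
  rw [mul_assoc, ← mul_assoc (τ j), H.sq, one_mul]

theorem three (i j l m n : Fin 5) (hp : [i, j, l, m, n].Perm [0, 1, 2, 3, 4]) :
    τ i * (τ j * τ l) = τ 0 * τ 1 * τ 2 * τ 3 * τ 4 * (τ m * τ n) := by
  have := (hp.map τ).prod_eq' (List.pairwise_map.2 (List.pairwise_of_forall fun a b => H.comm a b))
  simp only [List.map_cons, List.map_nil, List.prod_cons, List.prod_nil, mul_one, ← mul_assoc] at this
  rw [← this, mul_assoc _ (τ m) (τ n), mul_assoc _ (τ m * τ n), H.sq2, mul_one, mul_assoc]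

theorem tr_const : ∀ i j, i ≠ j → tr (τ i * τ j) = tr (τ 0 * τ 1) :=
  two_trans rfl (fun i j e => by rw [← H.act2 H.g1 H.jc.a1, tr_conj, e])
    fun i j e => by rw [← H.act2 H.g2 H.jc.a2, tr_conj, e]

theorem tr_three' : ∃ ε : ℝ, (ε = 1 ∨ ε = -1) ∧ ∀ i j l m n : Fin 5, [i, j, l, m, n].Perm [0, 1, 2, 3, 4] → m ≠ n →
    tr (τ i * (τ j * τ l)) = ε * tr (τ 0 * τ 1) := by
  rcases H.prod with e | e
  · exact ⟨1, Or.inl rfl, fun i j l m n hp ne => by rw [H.three i j l m n hp, e, one_mul, one_mul, H.tr_const m n ne]⟩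
  · exact ⟨-1, Or.inr rfl, fun i j l m n hp ne => by
      rw [H.three i j l m n hp, e, tr_neg, H.tr_const m n ne, neg_one_mul]⟩

theorem tr_pm : tr (τ 0 * τ 1) = 8 ∨ tr (τ 0 * τ 1) = -8 := by
  rcases tr_cases (H.sq2 0 1) with e | e | e | e | ⟨η, d, hd, e⟩
  · have all : ∀ i j, i ≠ j → τ i * τ j = 1 :=
      two_trans e (fun i j e => by rw [← H.act2 H.g1 H.jc.a1, e]; simp)
        fun i j e => by rw [← H.act2 H.g2 H.jc.a2, e]; simp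
    have := H.prod
    rw [e, one_mul, all 2 3 (by decide), one_mul] at this
    have t := H.t8 4
    rcases this with q | q <;> rw [q] at t
    · rw [tr_one] at t; norm_num at t
    · rw [tr_negOne] at t; norm_num at t
  · have t := H.t8 1
    rw [← one_mul (τ 1), ← H.sq 0, mul_assoc, e, negOne_comm, tr_neg, H.t8] at t
    norm_num at t
  · exact Or.inl e
  · exact Or.inr e
  · obtain ⟨h, kh⟩ := frK.surj η
    refine (sq_dod hd (e ▸ conj_mem' kh (GK.mul_mem (H.gk 0) (H.gk 1))) ?_).elim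
    rw [conj_mul, sq_pair H.jc (by decide), conj_zz kh]

theorem not_neg : tr (τ 0 * τ 1) ≠ -8 := fun t => by
  obtain ⟨ε, hε, h3⟩ := H.tr_three'
  have c : ∀ γ : Co0, Commute γ negOne := negOne_comm
  have n2 : ∀ a b : Co0, negOne * a * (negOne * b) = a * b := fun a b => by
    rw [(c a).mul_mul_mul_comm, negOne_mul_self, one_mul]
  have n1 : ∀ a b : Co0, a * (negOne * b) = negOne * (a * b) := fun a b => (c a).left_comm b
  have := tr_trio (a := negOne * (τ 3 * τ 4)) (b := negOne * (τ 4 * τ 2)) (s := τ 0) (by rw [n2, H.sq2])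
    (by rw [n2, H.sq2]) (H.sq 0)
    (by rw [n2, n2]; exact (((H.comm 3 4).mul_right (H.comm 3 2)).mul_left ((H.comm 4 4).mul_right (H.comm 4 2))).eq)
    ((c _).mul_right ((H.comm 0 3).mul_right (H.comm 0 4))).eq
    ((c _).mul_right ((H.comm 0 4).mul_right (H.comm 0 2))).eq
    (by rw [tr_neg, H.tr_const 3 4 (by decide), t]; norm_num) (by rw [tr_neg, H.tr_const 4 2 (by decide), t]; norm_num)
    (by rw [n2, H.mid, H.tr_const 3 2 (by decide), t])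
  rw [n2, H.mid, n1, n1, tr_neg, tr_neg, H.t8, h3 0 3 4 1 2 (by decide) (by decide),
    h3 0 4 2 1 3 (by decide) (by decide), h3 0 3 2 1 4 (by decide) (by decide), t] at this
  rcases hε with rfl | rfl <;> norm_num at this

theorem tr8 {i j : Fin 5} (ne : i ≠ j) : tr (τ i * τ j) = 8 :=
  (H.tr_const i j ne).trans (H.tr_pm.resolve_right H.not_neg)

theorem f8 {i j l : Fin 5} (n1 : i ≠ j) (n2 : j ≠ l) (n3 : i ≠ l) : F8 (τ i * τ j) (τ j * τ l) :=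
  ⟨H.sq2 i j, H.sq2 j l, (((H.comm i j).mul_right (H.comm i l)).mul_left ((H.comm j j).mul_right (H.comm j l))).eq,
    H.tr8 n1, H.tr8 n2, by rw [H.mid, H.tr8 n3]⟩

theorem F : F8 (τ 3 * τ 4) (τ 4 * τ 2) := H.f8 (by decide) (by decide) (by decide)

theorem ax : Act zz σ (f1 * f2) (![1, 4, 0, 2, 3] ∘ ![2, 0, 4, 1, 3]) := act_mul z2 H.jc.a1 H.jc.a2
theorem gx : (f1 * f2, φ1 * φ2) ∈ GK := GK.mul_mem H.g1 H.g2

theorem x_om : ∀ w ∈ Om (τ 3 * τ 4) (τ 4 * τ 2), csm (φ1 * φ2) w ∈ Om (τ 3 * τ 4) (τ 4 * τ 2) := fun w hw => by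
  have := (om_conj (φ1 * φ2)).2 hw
  rw [H.act2 H.gx H.ax, H.act2 H.gx H.ax] at this
  rw [← H.F.swap, H.mid, (H.comm 3 2).eq]
  exact this

theorem t_om (i : Fin 5) : ∀ w ∈ Om (τ 3 * τ 4) (τ 4 * τ 2), csm (τ i) w ∈ Om (τ 3 * τ 4) (τ 4 * τ 2) :=
  om_pres (mul_inv_eq_iff_eq_mul.2 ((H.comm i 3).mul_right (H.comm i 4)).eq)
    (mul_inv_eq_iff_eq_mul.2 ((H.comm i 4).mul_right (H.comm i 2)).eq)

theorem caseA (h0 : v0 ∈ Om (τ 3 * τ 4) (τ 4 * τ 2)) (ht : csm (τ 0) v0 = v0) : csm (φ1 * φ2) v0 ≠ v0 := fun hx => by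
  obtain ⟨o, ho, o', ho', h4, ea, eb⟩ := H.F.std0 h0
  obtain ⟨c, s, e⟩ := exists_mon (mem_Mon_of_csm hx)
  have hv : Commute (f1 * f2) (tq 0 v0) := by
    obtain ⟨u, q⟩ := frK.act _ _ H.gx 0 v0
    rw [hx] at q
    have c2 : Commute ((f1 * f2) ^ 2) (tq 0 v0) := by
      rcases z2_cases u with rfl | rfl
      · exact Commute.pow_left (mul_inv_eq_iff_eq_mul.1 q) 2
      · have q' : f1 * f2 * tq 0 v0 * (f1 * f2)⁻¹ = zz * tq 0 v0 := q.trans (frK.z_mul 0 v0).symm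
        refine mul_inv_eq_iff_eq_mul.1 ?_
        rw [show (f1 * f2) ^ 2 * tq 0 v0 * ((f1 * f2) ^ 2)⁻¹ =
          f1 * f2 * (f1 * f2 * tq 0 v0 * (f1 * f2)⁻¹) * (f1 * f2)⁻¹ by rw [pow_two]; group, q', ← conj_mul, q',
          conj_zz H.gx, ← mul_assoc, z2, one_mul]
    have := c2.pow_left 5
    rwa [← pow_mul, show 2 * 5 = 9 + 1 from rfl, pow_succ, H.jc.ox, one_mul] at this
  have m : σ 3 * σ 4 * (σ 4 * σ 2) = σ 3 * σ 2 := by rw [mul_assoc, ← mul_assoc (σ 4), H.jc.s2, one_mul]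
  have cy := q8 (y := σ 3 * σ 4) (y' := σ 4 * σ 2) ho ho' h4 (ea ▸ GK.mul_mem (H.gk 3) (H.gk 4))
    (eb ▸ GK.mul_mem (H.gk 4) (H.gk 2)) (sq_pair H.jc (by decide)) (sq_pair H.jc (by decide))
    (by rw [m]; exact sq_pair H.jc (by decide)) (e ▸ H.gx) hv
    (by rw [← conj_mul]; exact ez_mul z2 (H.jc.zs _) (H.ax.2 3) (H.ax.2 4))
    (by
      rw [← conj_mul, m]
      refine ez_trans z2 (ez_mul z2 (H.jc.zs _) (H.ax.2 4) (H.ax.2 2)) (Or.inr ?_)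
      change σ 2 * σ 3 = zz * (σ 3 * σ 2)
      rw [← mul_assoc, ← H.jc.anti 2 3 (by decide), mul_assoc, H.jc.s2, mul_one])
  refine tr_three (c := c) cy (mem_Mon_of_csm ht) ?_ (H.t8 0)
  rw [← e]
  exact (mul_inv_eq_iff_eq_mul.1 (H.act H.gx H.ax 0)).symm

theorem diagB {o o' : Cd} (ho : o ∈ Oct) (ho' : o' ∈ Oct) (h4 : wt (wd o * wd o') = 4) (ea : τ 3 * τ 4 = sgC o)
    (eb : τ 4 * τ 2 = sgC o') (hx : csm (φ1 * φ2) v0 ≠ v0) {j : Fin 5} (hj : φ1 * φ2 * τ j * (φ1 * φ2)⁻¹ = τ j)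
    (t1 : tr (τ j * (τ 3 * τ 4)) = 8 ∨ tr (τ j * (τ 3 * τ 4)) = -8)
    (t2 : tr (τ j * (τ 4 * τ 2)) = tr (τ j * (τ 3 * τ 4))) : ∃ c, τ j = sgC c ∧ US (wd o * wd o') c := by
  have h0 : v0 ∈ Om (τ 3 * τ 4) (τ 4 * τ 2) := by rw [ea, eb]; exact (om_std ho ho' h4).2 (Or.inl rfl)
  have cyc : ∀ c ∈ Om (τ 3 * τ 4) (τ 4 * τ 2), ∀ w ∈ Om (τ 3 * τ 4) (τ 4 * τ 2),
      w = c ∨ w = csm (φ1 * φ2) c ∨ w = csm (φ1 * φ2) (csm (φ1 * φ2) c) := fun c hc => by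
    have key : ∀ c, (φ1 * φ2) ^ 2 ∈ St c → csm (φ1 * φ2) c = c := fun c q => by
      have := pow_mem q 5
      rw [← pow_mul, show 2 * 5 = 9 + 1 from rfl, pow_succ] at this
      exact ((St c).mul_mem_cancel_left (pow_St H.gx H.jc.ox c)).1 this
    rcases H.F.orb H.x_om hc with q | q
    · rcases H.F.orb H.x_om h0 with r | r
      · exact absurd (key _ r) hx
      · have q' := key _ q
        have n1 : ∀ w, csm (φ1 * φ2) (csm (φ1 * φ2) w) = csm (φ1 * φ2) w → csm (φ1 * φ2) w = w := fun w => csm_inj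
        rcases r.2 c hc with rfl | rfl | rfl
        · exact absurd q' hx
        · exact absurd (n1 _ q') hx
        · exact absurd (n1 _ (n1 _ q')) hx
    · exact q.2
  have ind : ∀ P : LL → Prop, (∀ w, P w → P (csm (φ1 * φ2) w)) → ∀ c ∈ Om (τ 3 * τ 4) (τ 4 * τ 2), P c →
      ∀ w ∈ Om (τ 3 * τ 4) (τ 4 * τ 2), P w := fun P st c hc pc w hw => by
    rcases cyc c hc w hw with rfl | rfl | rfl
    exacts [pc, st _ pc, st _ (st _ pc)]
  obtain ⟨c, hc, fc⟩ := H.F.fix2 (H.t_om j) (H.sq j)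
  have f0 : csm (τ j) v0 = v0 := ind (fun w => csm (τ j) w = w) (fun w q => by
    conv_lhs => rw [← hj]
    rw [csm_conj, q]) c hc fc v0 h0
  obtain ⟨u, hu, ru⟩ := om_meet ho ho' h4 (mem_Mon_of_csm f0) (H.sq j) (H.t8 j)
    (by rw [← ea]; exact ((H.comm j 3).mul_right (H.comm j 4)).eq)
    (by rw [← eb]; exact ((H.comm j 4).mul_right (H.comm j 2)).eq) (ea ▸ t1) (ea ▸ eb ▸ t2)
  have all := ind (Rg (τ j)) (fun w q => hj ▸ q.conj (φ1 * φ2)) u (by rwa [ea, eb]) ru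
  obtain ⟨d, hd, e⟩ := diag (H.sq j) (H.t8 j) (all _ h0)
  exact ⟨d, e, us_of_rg (α := 0) hd h4 (e ▸ all _ (by rw [ea, eb]; exact (om_std ho ho' h4).2 (Or.inr ⟨0, rfl⟩)))⟩

theorem caseB (h0 : v0 ∈ Om (τ 3 * τ 4) (τ 4 * τ 2)) : csm (φ1 * φ2) v0 = v0 := by
  by_contra hx
  obtain ⟨o, ho, o', ho', h4, ea, eb⟩ := H.F.std0 h0
  obtain ⟨ε, hε, h3⟩ := H.tr_three'
  rw [H.tr8 (by decide : (0 : Fin 5) ≠ 1)] at h3
  have pm : ε * 8 = 8 ∨ ε * 8 = -8 := by rcases hε with rfl | rfl <;> norm_num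
  let D : Co0 → Prop := fun γ => ∃ c, γ = sgC c ∧ US (wd o * wd o') c
  have mul : ∀ a b, D a → D b → D (a * b) := fun a b ⟨c, e, u⟩ ⟨c', e', u'⟩ =>
    ⟨c + c', by rw [sgC_add, e, e'], u.add u'⟩
  have d0 : D (τ 0) := H.diagB ho ho' h4 ea eb hx (H.act H.gx H.ax 0)
    (by rw [h3 0 3 4 1 2 (by decide) (by decide)]; exact pm)
    (by rw [h3 0 3 4 1 2 (by decide) (by decide), h3 0 4 2 1 3 (by decide) (by decide)])
  have d1 : D (τ 1) := H.diagB ho ho' h4 ea eb hx (H.act H.gx H.ax 1)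
    (by rw [h3 1 3 4 0 2 (by decide) (by decide)]; exact pm)
    (by rw [h3 1 3 4 0 2 (by decide) (by decide), h3 1 4 2 0 3 (by decide) (by decide)])
  have hs := (om_std ho ho' h4).2 (Or.inr ⟨0, rfl⟩)
  have da : D (τ 3 * τ 4) := ⟨o, ea, us_of_rg ho h4 hs.2.1⟩
  have db : D (τ 4 * τ 2) := ⟨o', eb, us_of_rg ho' h4 hs.2.2⟩
  have de : D (τ 0 * τ 1 * τ 2 * τ 3 * τ 4) := by
    rcases H.prod with e | e <;> rw [e]
    · exact ⟨om + om, by rw [cd_add_self, sgC_zero], (us_om _).add (us_om _)⟩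
    · exact ⟨om, sgC_om.symm, us_om _⟩
  have d2 : D (τ 2) := by
    have := mul _ _ (mul _ _ de (mul _ _ d0 d1)) da
    rwa [← H.three 2 3 4 0 1 (by decide), mul_assoc, H.sq2, mul_one] at this
  have d4 : D (τ 4) := by
    have := mul _ _ db d2
    rwa [mul_assoc, H.sq, mul_one] at this
  have d3 : D (τ 3) := by
    have := mul _ _ da d4
    rwa [mul_assoc, H.sq, mul_one] at this
  have dd : ∀ i, D (τ i) := fun i => by fin_cases i <;> assumption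
  have om_eq : ∀ i j l, i ≠ j → j ≠ l → i ≠ l → Om (τ i * τ j) (τ j * τ l) = Om (τ 3 * τ 4) (τ 4 * τ 2) :=
    fun i j l n1 n2 n3 => by
      obtain ⟨c, e, u⟩ := mul _ _ (dd i) (dd j)
      obtain ⟨c', e', u'⟩ := mul _ _ (dd j) (dd l)
      have F := H.f8 n1 n2 n3
      have oc := oct_of_tr (e ▸ F.ta)
      have oc' := oct_of_tr (e' ▸ F.tb)
      have q4 := four_of_tr oc oc' (e ▸ e' ▸ F.tab)
      ext w
      rw [e, e', ea, eb, om_std oc oc' q4, om_std ho ho' h4, sy_of_us h4 u u' q4]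
  have fx : ∀ {f : K} {φ : Co0} {p : Fin 5 → Fin 5}, (f, φ) ∈ GK → Act zz σ f p → f ^ 5 = 1 → p 3 ≠ p 4 → p 4 ≠ p 2 →
      p 3 ≠ p 2 → φ ∈ St v0 := fun {f φ p} kf af o5 n1 n2 n3 => by
    have s5 := pow_St kf o5 v0
    rcases H.F.orb (γ := φ) (fun w hw => by
      have := (om_conj φ).2 hw
      rwa [H.act2 kf af, H.act2 kf af, om_eq _ _ _ n1 n2 n3] at this) h0 with q | q
    · have := pow_mem q 3
      rw [← pow_mul, show 2 * 3 = 5 + 1 from rfl, pow_succ] at this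
      exact ((St v0).mul_mem_cancel_left s5).1 this
    · have := pow_mem q.1 2
      rw [← pow_mul, show 3 * 2 = 5 + 1 from rfl, pow_succ] at this
      exact ((St v0).mul_mem_cancel_left s5).1 this
  exact hx (mul_mem (fx H.g1 H.jc.a1 H.jc.o1 (by decide) (by decide) (by decide))
    (fx H.g2 H.jc.a2 H.jc.o2 (by decide) (by decide) (by decide)))

theorem false : False := by
  obtain ⟨c, hc, fc⟩ := H.F.fix2 (H.t_om 0) (H.sq 0)
  obtain ⟨η, e⟩ := T4.std hc.1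
  obtain ⟨h, kh⟩ := frK.surj η
  have J := H.cj kh
  have h0 := (om_conj η).2 hc
  rw [e, ← conj_mul, ← conj_mul] at h0
  exact J.caseA h0 (by rw [← e, csm_conj, fc]) (J.caseB h0)

end JT

end Jm

theorem JC.false {z f1 f2 g k v v' : K} {σ : Fin 5 → K} (H : JC z σ f1 f2 g k v v') : False := by
  obtain ⟨h, e⟩ := mem_ZC.1 (zc_of_far H.z2 H.far)
  have J := Jm.cj H h
  rw [e] at J
  obtain ⟨τ, hτ⟩ := Jm.ex_lift J
  obtain ⟨φ1, g1⟩ := Jm.gk_of J.a1.1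
  obtain ⟨φ2, g2⟩ := Jm.gk_of J.a2.1
  exact Jm.JT.false ⟨J, fun i => (hτ i).1, fun i => (hτ i).2, g1, g2⟩

end Cfsg.Agent.Gr.Pa
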