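import Mathlib
import Cfsg.Agent.Gr.Pa.He
import Cfsg.Agent.Gr.Pa.Ru
import Cfsg.Agent.Gr.Pa.Om
import Cfsg.Agent.Gr.Pa.Us
import Cfsg.Agent.Spor.MTOdd2
import Cfsg.Agent.Spor.MB.Classes

/-! The O'Nan configuration does not occur in `K`. -/

set_option autoImplicit false

namespace Cfsg.Agent.Gr.Pa

open Subgroup Cfsg.Agent.Spor Cfsg.Agent.Spor.Leech Cfsg.Agent.Gr.Rk Cfsg.Agent.Gr.Am Cfsg.Agent.Gr.M2

/-- A surjection with kernel of order prime to the index splits. -/
theorem on_split {Γ R : Type*} [Group Γ] [Group R] (π : Γ →* R) (hs : Function.Surjective π)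
    (hc : Nat.Coprime (Nat.card π.ker) (Nat.card R)) : ∃ s : R →* Γ, ∀ g, π (s g) = g := by
  have hi : π.ker.index = Nat.card R := by
    rw [Subgroup.index_ker, MonoidHom.range_eq_top.2 hs, Subgroup.card_top]
  obtain ⟨H, hH⟩ := Subgroup.exists_right_complement'_of_coprime (N := π.ker) (hi ▸ hc)
  have hb : Function.Bijective (π.comp H.subtype) := by
    refine ⟨(injective_iff_map_eq_one _).2 fun x hx => Subtype.ext ?_, fun g => ?_⟩
    · exact Subgroup.disjoint_def.1 hH.disjoint (show (x : Γ) ∈ π.ker from hx) x.2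
    · obtain ⟨x, rfl⟩ := hs g
      obtain ⟨⟨n, h⟩, e⟩ := hH.2 x
      refine ⟨h, ?_⟩
      have e' : (n : Γ) * h = x := e
      rw [← e', map_mul, MonoidHom.mem_ker.1 n.2, one_mul]
      rfl
  exact ⟨H.subtype.comp (MulEquiv.ofBijective _ hb).symm.toMonoidHom, fun g =>
    (MulEquiv.ofBijective _ hb).apply_symm_apply g⟩

theorem odd_lift {R : Subgroup K} (ho : Odd (Nat.card R)) (hz : ∀ g ∈ R, Commute zz g) :
    ∃ l : R →* Co0, ∀ g : R, ((g : K), l g) ∈ GK := by
  let Γ : Subgroup (R × Co0) := GK.comap (R.subtype.prodMap (MonoidHom.id Co0))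
  let π : Γ →* R := (MonoidHom.fst R Co0).comp Γ.subtype
  have hs : Function.Surjective π := fun g => by
    obtain ⟨γ, h⟩ := exists_GK.2 (hz g g.2)
    exact ⟨⟨(g, γ), h⟩, rfl⟩
  have hk : ∀ x : π.ker, x.1.1.1 = 1 ∧ (x.1.1.2 = 1 ∨ x.1.1.2 = negOne) := fun x => by
    have h1 : x.1.1.1 = 1 := x.2
    have h2 : ((x.1.1.1 : K), x.1.1.2) ∈ GK := x.1.2
    rw [h1] at h2
    exact ⟨h1, frK.pm_of_one h2⟩
  have hf : Finite π.ker := by
    refine Finite.of_injective (β := ({1, negOne} : Set Co0)) (fun x => ⟨x.1.1.2, (hk x).2⟩)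
      fun x x' e => Subtype.ext (Subtype.ext (Prod.ext ((hk x).1.trans (hk x').1.symm) ?_))
    exact congrArg Subtype.val e
  have hp : IsPGroup 2 π.ker := fun x => ⟨1, Subtype.ext (Subtype.ext (Prod.ext ?_ ?_))⟩
  · obtain ⟨n, hn⟩ := hp.exists_card_eq
    obtain ⟨s, h⟩ := on_split π hs (hn ▸ (Nat.coprime_two_left.2 ho).pow_left n)
    refine ⟨(MonoidHom.snd R Co0).comp (Γ.subtype.comp s), fun g => ?_⟩
    have h2 : (((s g).1.1 : K), (s g).1.2) ∈ GK := (s g).2
    have h1 : (s g).1.1 = g := h g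
    rwa [h1] at h2
  · change x.1.1.1 ^ 2 ^ 1 = 1
    rw [(hk x).1, one_pow]
  · change x.1.1.2 ^ 2 ^ 1 = 1
    rcases (hk x).2 with e | e <;> rw [e]
    · exact one_pow _
    · rw [pow_one, sq, negOne_mul_self]

/-- Without fixed classes there are no fixed vectors. -/
theorem on_nofix {η : Co0} (hf : ∀ x, csm η x = x → x = 0) {v : Λ} (h : η • v = v) : v = 0 := by
  have key : ∀ k : ℕ, ∀ v : Λ, η • v = v → ∀ p, (2 : ℤ) ^ k ∣ (v : Vec) p := by
    intro k
    induction k with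
    | zero => intro v _ p; simp
    | succ k ih =>
      intro v h p
      have h0 : cls v = cls 0 := by rw [cls_zero]; exact hf _ (by rw [csm_cls, h])
      obtain ⟨w, rfl⟩ := MT.cg_zero_iff.1 (cls_eq_iff.1 h0)
      have hw : η • w = w := Subtype.ext (funext fun q => by
        have := congrFun (congrArg Subtype.val h) q
        rw [smul_add] at this
        change ((η • w : Λ) : Vec) q + ((η • w : Λ) : Vec) q = (w : Vec) q + (w : Vec) q at this
        omega)
      change _ ∣ (w : Vec) p + (w : Vec) p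
      rw [← two_mul, pow_succ']
      exact mul_dvd_mul_left _ (ih w hw p)
  refine Subtype.ext (funext fun p => ?_)
  refine Int.eq_zero_of_dvd_of_natAbs_lt_natAbs (key ((v : Vec) p).natAbs v h p) ?_
  rw [Int.natAbs_pow]
  exact Nat.lt_two_pow_self

theorem on_sum {η : Co0} (h7 : η ^ 7 = 1) (hf : ∀ x, csm η x = x → x = 0) :
    ∑ i ∈ Finset.range 7, mat (η ^ i) = 0 := by
  ext p q
  have h0 : ∑ i ∈ Finset.range 7, η ^ i • e8 q = 0 := on_nofix hf (by
    rw [Finset.smul_sum, Finset.sum_range_succ, Finset.sum_range_succ' (fun i => η ^ i • e8 q),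
      smul_smul, ← pow_succ', h7, pow_zero]
    simp only [smul_smul, ← pow_succ'])
  have h1 : ∀ g : Co0, mat g p q * 8 = (((g • e8 q : Λ) : Vec) p : ℝ) := fun g => by
    have := congrFun (mat_mulVec g (e8 q)) p
    simp only [Matrix.mulVec, dotProduct, rv, e8_apply] at this
    rw [← this, Finset.sum_eq_single q (fun j _ hj => by simp [hj]) (by simp)]
    simp
  have h2 := congrFun (congrArg Subtype.val h0) p
  rw [AddSubmonoidClass.coe_finset_sum, Finset.sum_apply] at h2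
  have h3 : (∑ i ∈ Finset.range 7, mat (η ^ i) p q) * 8 = 0 := by
    rw [Finset.sum_mul, Finset.sum_congr rfl fun i _ => h1 (η ^ i)]
    exact_mod_cast h2
  rw [Matrix.sum_apply]
  exact (mul_eq_zero.1 h3).resolve_right (by norm_num)

theorem on_tr0 {η γ : Co0} (h7 : η ^ 7 = 1) (hf : ∀ x, csm η x = x → x = 0)
    (h : γ * η * γ⁻¹ = η ^ 2 ∨ γ * η * γ⁻¹ = η ^ 4) : tr γ = 0 := by
  obtain ⟨a, ha⟩ : ∃ a : ℕ, γ * η ^ a * γ⁻¹ = η ^ (a + 1) := by
    rcases h with h | h
    · exact ⟨1, by rw [pow_one, h]⟩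
    · refine ⟨5, ?_⟩
      rw [← conj_pow, h, ← pow_mul, show 4 * 5 = 7 * 2 + (5 + 1) from rfl, pow_add, pow_mul, h7,
        one_pow, one_mul]
  have key : ∀ i : ℕ, tr (η ^ i * γ) = tr γ := by
    intro i
    induction i with
    | zero => rw [pow_zero, one_mul]
    | succ i ih =>
      rw [← ih, ← tr_conj (η ^ a)⁻¹ (η ^ i * γ)]
      congr 1
      have : γ * η ^ a = η ^ (a + 1) * γ := by rw [← ha]; group
      rw [inv_inv, mul_assoc, mul_assoc, this]
      group
  have h0 := congrArg (fun A => (A * mat γ).trace) (on_sum h7 hf)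
  simp only [Finset.sum_mul, Matrix.trace_sum, ← mat_mul, Matrix.zero_mul, Matrix.trace_zero] at h0
  have h1 : ∑ i ∈ Finset.range 7, tr (η ^ i * γ) = 0 := h0
  simp only [key, Finset.sum_const, Finset.card_range, nsmul_eq_mul] at h1
  exact (mul_eq_zero.1 h1).resolve_left (by norm_num)

theorem on_tr_perm (τ : M24) : tr (perm τ) = (MB.fixSet τ.1).card := by
  rw [tr, Matrix.trace, MB.fixSet, Finset.card_filter]
  push_cast
  refine Finset.sum_congr rfl fun p _ => ?_
  simp only [Matrix.diag_apply, mat_perm, eq_comm (a := p)]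

theorem on_tr3 {β : Co0} {x : LL} (h3 : β ^ 3 = 1) (h4 : T4 x) (hx : csm β x = x) :
    tr β = 24 ∨ tr β = 6 ∨ tr β = 0 := by
  obtain ⟨k, hk⟩ := h4.std
  have hm : k * β * k⁻¹ ∈ Mon := mem_Mon_of_csm (by
    change csm _ v0 = v0
    rw [← hk, csm_conj, hx])
  obtain ⟨m, -, τ, t3, e⟩ := MT.exists_conj_perm hm Nat.prime_three (by norm_num)
    (by rw [conj_pow, h3, mul_one, mul_inv_cancel])
  rw [← tr_conj k β, e, tr_conj]
  by_cases h1 : τ = 1
  · left; rw [h1, map_one, tr_one]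
  · right
    haveI : Fact (Nat.Prime 3) := ⟨Nat.prime_three⟩
    have := MB.card_fixSet_three τ.2 (by rw [Subgroup.orderOf_coe]; exact orderOf_eq_prime t3 h1)
    rw [on_tr_perm]
    rcases this with e | e <;> rw [e] <;> simp

theorem on_neg_pow (g : Co0) : (negOne * g) ^ 7 = negOne * g ^ 7 := by
  rw [(show Commute negOne g from (negOne_comm g).symm).mul_pow, show 7 = 2 * 3 + 1 from rfl,
    pow_succ negOne, pow_mul, sq, negOne_mul_self, one_pow, one_mul]

theorem OK.false {y b e : K} {R : Subgroup K} (h : OK y b e R) : False := by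
  classical
  haveI : Fact (Nat.Prime 3) := ⟨Nat.prime_three⟩
  obtain ⟨η, hη, h7⟩ : ∃ η : Co0, (y, η) ∈ GK ∧ η ^ 7 = 1 := by
    obtain ⟨γ, hγ⟩ := exists_GK.2 h.zy
    have h1 : (y ^ 7, γ ^ 7) ∈ GK := GK.pow_mem hγ 7
    rw [h.y7] at h1
    rcases frK.pm_of_one h1 with e | e
    · exact ⟨γ, hγ, e⟩
    · exact ⟨_, frK.mem_neg hγ, by rw [on_neg_pow, e, negOne_mul_self]⟩
  have hf : ∀ x, csm η x = x → x = 0 := fun x hx => by
    by_contra h0
    exact on_he h.y7 h.y1 hη hx h0 h.com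
  have ob : orderOf b = 1 ∨ orderOf b = 3 :=
    (Nat.dvd_prime Nat.prime_three).1 (orderOf_dvd_of_pow_eq_one h.b3)
  have ho : Odd (Nat.card R) := by
    rw [h.card]; rcases ob with e | e <;> rw [e] <;> decide
  haveI : Finite R := Nat.finite_of_card_ne_zero ho.pos.ne'
  haveI := Fintype.ofFinite R
  obtain ⟨l, hl⟩ := odd_lift ho h.Rz
  have t0 : ∀ g : R, (g : K) ∉ zpowers b → tr (l g) = 0 := fun g hg => by
    obtain ⟨k, hk, e⟩ := h.nz g g.2 hg
    obtain ⟨κ, hκ⟩ := exists_GK.2 hk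
    have h1 := conj_mem' (conj_mem' hκ (hl g)) hη
    have h2 : ∀ j : ℕ, (y ^ j, κ * l g * κ⁻¹ * η * (κ * l g * κ⁻¹)⁻¹) ∈ GK →
        κ * l g * κ⁻¹ * η * (κ * l g * κ⁻¹)⁻¹ = η ^ j := fun j hj => by
      refine (frK.eq_or (GK.pow_mem hη j) hj).resolve_right fun e => negOne_ne_one ?_
      have := congrArg (· ^ 7) e
      simp only [conj_pow, on_neg_pow, h7, mul_one, mul_inv_cancel] at this
      change 1 = negOne * (η ^ j) ^ 7 at this
      rw [← pow_mul, mul_comm j, pow_mul, h7, one_pow, mul_one] at this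
      exact this.symm
    rw [← tr_conj κ]
    refine on_tr0 h7 hf ?_
    rcases e with e | e <;> rw [e] at h1
    · exact Or.inl (h2 2 h1)
    · exact Or.inr (h2 4 h1)
  obtain ⟨k, hk, -⟩ := mult (fun g : R => mat (l g)) fun a c => by rw [map_mul, mat_mul]
  have hk' : ∑ g : R, tr (l g) = k * (9 * orderOf b : ℕ) := by
    rw [← h.card, Nat.card_eq_fintype_card]; exact hk
  rcases ob with e | e
  · have b1 : b = 1 := orderOf_eq_one_iff.1 e
    rw [Finset.sum_eq_single 1 (fun g _ hg => t0 g fun hm => hg (Subtype.ext (by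
      rw [b1, zpowers_one_eq_bot] at hm; exact hm))) (by simp), map_one, tr_one, e] at hk'
    have : 24 = k * (9 * 1) := by exact_mod_cast hk'
    omega
  · have b1 : b ≠ 1 := fun e' => by rw [e', orderOf_one] at e; omega
    let b' : R := ⟨b, h.bR⟩
    have b3 : b' ^ 3 = 1 := Subtype.ext h.b3
    have n1 : b' ≠ 1 := fun e' => b1 (congrArg Subtype.val e')
    have i2 : b'⁻¹ = b' ^ 2 := inv_eq_of_mul_eq_one_right (by rw [← pow_succ', b3])
    have n2 : b' ≠ b'⁻¹ := fun e' => n1 (by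
      rw [i2, sq] at e'; exact (left_eq_mul.1 e'))
    have hs : ∑ g : R, tr (l g) = ∑ g ∈ ({1, b', b'⁻¹} : Finset R), tr (l g) := by
      refine (Finset.sum_subset (Finset.subset_univ _) fun g _ hg => t0 g fun ⟨j, hj⟩ => hg ?_).symm
      have e1 : g = b' ^ (j % (3 : ℕ)) := by
        rw [← zpow_eq_zpow_emod' j b3]; exact Subtype.ext hj.symm
      have : j % (3 : ℕ) = 0 ∨ j % (3 : ℕ) = 1 ∨ j % (3 : ℕ) = (2 : ℕ) := by omega
      rcases this with e2 | e2 | e2 <;> rw [e1, e2]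
      · simp
      · simp
      · rw [zpow_natCast, ← i2]; simp
    rw [hs, Finset.sum_insert (by simp [n1, n1.symm]), Finset.sum_pair n2, map_one, tr_one, map_inv,
      tr_inv, e] at hk'
    have hb : (b, l b') ∈ GK := hl b'
    obtain ⟨c, c0, hc⟩ := on_b h.b3 hb h.be h.ez h.ez' h.ze
    obtain ⟨x, h4, hx⟩ := on_four (η := η) (β := l b') (fun x => by rw [h7, csm_one]) hf (fun x => by
      have m1 : (b * y, l b' * η) ∈ GK := GK.mul_mem hb hη
      have m2 : (y * b, η * l b') ∈ GK := GK.mul_mem hη hb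
      rw [← h.yb.eq] at m2
      rw [← csm_mul, ← csm_mul]
      exact frK.csm_eq m2 m1 x) c0 hc
    rcases on_tr3 (by rw [← map_pow, b3, map_one]) h4 hx with t | t | t <;> rw [t] at hk'
    · have : 24 + (24 + 24) = k * (9 * 3) := by exact_mod_cast hk'
      omega
    · have : 24 + (6 + 6) = k * (9 * 3) := by exact_mod_cast hk'
      omega
    · have : 24 + (0 + 0) = k * (9 * 3) := by exact_mod_cast hk'
      omega

end Cfsg.Agent.Gr.Pa
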