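import Mathlib
import Cfsg.Agent.Gr.Pa.Abs
import Cfsg.Agent.Spor.MB.Scott

/-! A group with the three-local configuration `SC` has no nontrivial irreducible module over `F₂` of
dimension at most 53. -/

set_option autoImplicit false
set_option linter.unusedSectionVars false

namespace Cfsg.Agent.Gr.Pa

namespace Sc

open Module

/-- `1 + A + A²`. -/
def E {R : Type*} [Ring R] (A : R) : R := 1 + A + A * A

theorem E_semi {R : Type*} [Ring R] {u A B : R} (h : SemiconjBy u A B) : SemiconjBy u (E A) (E B) :=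
  ((SemiconjBy.one_right u).add_right h).add_right (h.mul_right h)

theorem map_E {R S : Type*} [Ring R] [Ring S] (ι : R →+* S) (A : R) : ι (E A) = E (ι A) := by
  simp [E]

variable {M : Type*} [AddCommGroup M] [Module (ZMod 2) M] [Finite M]

/-- The rank of an endomorphism. -/
noncomputable def rk (A : End (ZMod 2) M) : ℕ := finrank (ZMod 2) (LinearMap.range A)

theorem add_self (v : M) : v + v = 0 := by
  rw [← two_smul (ZMod 2) v, show (2 : ZMod 2) = 0 from rfl, zero_smul]

theorem two_eq : (2 : End (ZMod 2) M) = 0 := by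
  refine LinearMap.ext fun v => ?_
  have : (2 : End (ZMod 2) M) = 1 + 1 := one_add_one_eq_two.symm
  rw [this]
  exact add_self v

theorem rk_add {A B : End (ZMod 2) M} (hA : A * A = A) (hB : B * B = B) (h1 : A * B = 0)
    (h2 : B * A = 0) : rk (A + B) = rk A + rk B := by
  have e1 : LinearMap.range (A + B) = LinearMap.range A ⊔ LinearMap.range B := by
    refine le_antisymm ?_ (sup_le ?_ ?_)
    · rintro _ ⟨v, rfl⟩
      exact Submodule.add_mem_sup ⟨v, rfl⟩ ⟨v, rfl⟩
    · rintro _ ⟨v, rfl⟩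
      refine ⟨A v, ?_⟩
      rw [← End.mul_apply, add_mul, hA, h2, add_zero]
    · rintro _ ⟨v, rfl⟩
      refine ⟨B v, ?_⟩
      rw [← End.mul_apply, add_mul, hB, h1, zero_add]
  have e2 : LinearMap.range A ⊓ LinearMap.range B = ⊥ := by
    rw [eq_bot_iff]
    rintro _ ⟨⟨v, rfl⟩, w, hw⟩
    have : A (A v) = 0 := by rw [← hw, ← End.mul_apply, h1]; rfl
    rw [← End.mul_apply, hA] at this
    exact this
  have := Submodule.finrank_sup_add_finrank_inf_eq (LinearMap.range A) (LinearMap.range B)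
  rw [e2, finrank_bot, add_zero] at this
  rw [rk, e1, this, rk, rk]

theorem rk_semi {u A B : End (ZMod 2) M} (hu : IsUnit u) (h : SemiconjBy u A B) : rk A = rk B := by
  have hb := (End.isUnit_iff u).1 hu
  have e : (LinearMap.range A).map u = LinearMap.range B := by
    ext w
    constructor
    · rintro ⟨_, ⟨v, rfl⟩, rfl⟩
      exact ⟨u v, (LinearMap.congr_fun h.eq v).symm⟩
    · rintro ⟨v, rfl⟩
      obtain ⟨v, rfl⟩ := hb.2 v
      exact ⟨_, ⟨v, rfl⟩, LinearMap.congr_fun h.eq v⟩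
  rw [rk, rk, ← e]
  exact (Submodule.equivMapOfInjective u hb.1 _).finrank_eq

theorem rk_one : rk (1 : End (ZMod 2) M) = finrank (ZMod 2) M := by
  rw [rk, End.one_eq_id, LinearMap.range_id, finrank_top]

theorem rk_le (A : End (ZMod 2) M) : rk A ≤ finrank (ZMod 2) M := Submodule.finrank_le _

theorem rk_mul_le (A B : End (ZMod 2) M) : rk (A * B) ≤ rk A :=
  Submodule.finrank_mono (by rintro _ ⟨v, rfl⟩; exact ⟨B v, rfl⟩)

theorem rk_mul_le' (A B : End (ZMod 2) M) : rk (A * B) ≤ rk B := by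
  have : LinearMap.range (A * B) = (LinearMap.range B).map A := LinearMap.range_comp B A
  rw [rk, this]
  exact Submodule.finrank_map_le _ _

theorem modEq {T : End (ZMod 2) M} {r : ℕ} (hr : r.Prime) (ho : r ≠ 2) (hT : T ^ r = 1) :
    2 ^ rk (1 - T) ≡ 1 [MOD r] := by
  classical
  have := Fact.mk hr
  have := Fintype.ofFinite M
  have h1 : ∀ n : ℕ, ∀ v, ((show Function.End M from fun v => T v) ^ n) v = (T ^ n) v := by
    intro n
    induction n with
    | zero => intro v; rfl
    | succ n ih => intro v; rw [pow_succ, pow_succ, End.mul_apply, ← ih]; rfl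
  have h2 := Equiv.Perm.card_fixedPoints_modEq (f := show Function.End M from fun v => T v)
    (p := r) (n := 1) (by funext v; rw [pow_one, h1, hT]; rfl)
  have h3 : Fintype.card (Function.fixedPoints (show Function.End M from fun v => T v)) =
      Nat.card (LinearMap.ker (1 - T)) := by
    rw [← Nat.card_eq_fintype_card]
    refine Nat.card_congr (Equiv.subtypeEquivRight fun v => ?_)
    rw [LinearMap.mem_ker, LinearMap.sub_apply, sub_eq_zero, eq_comm]
    rfl
  rw [h3, ← Nat.card_eq_fintype_card, natCard_eq_pow_finrank (K := ZMod 2) (V := M),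
    natCard_eq_pow_finrank (K := ZMod 2) (V := LinearMap.ker (1 - T)), Nat.card_zmod,
    ← (1 - T).finrank_range_add_finrank_ker, pow_add] at h2
  refine Nat.ModEq.cancel_right_of_coprime (c := 2 ^ finrank (ZMod 2) (LinearMap.ker (1 - T))) ?_ ?_
  · exact Nat.Coprime.pow_right _ ((Nat.coprime_primes hr Nat.prime_two).2 ho)
  · rw [one_mul]; exact h2

section Comm

variable {R : Type*} [CommRing R] (ι : R →+* End (ZMod 2) M)

theorem rk_add' {A B : R} (hA : A * A = A) (hB : B * B = B) (h1 : A * B = 0) :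
    rk (ι (A + B)) = rk (ι A) + rk (ι B) := by
  rw [map_add]
  refine rk_add ?_ ?_ ?_ ?_ <;> rw [← map_mul]
  · rw [hA]
  · rw [hB]
  · rw [h1, map_zero]
  · rw [mul_comm, h1, map_zero]

theorem rk_E (h2 : (2 : R) = 0) {X : R} (hX : X ^ 3 = 1) :
    rk (ι (E X)) + rk (1 - ι X) = finrank (ZMod 2) M := by
  have h1 := rk_add' ι (A := E X) (B := X + X * X) (by unfold E; grind) (by grind) (by unfold E; grind)
  rw [show E X + (X + X * X) = 1 by unfold E; grind, map_one, rk_one] at h1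
  have h3 := rk_mul_le (ι (1 - X)) (ι X)
  have h4 := rk_mul_le (ι (X + X * X)) (ι (X * X))
  rw [← map_mul] at h3 h4
  rw [show (1 - X) * X = X + X * X by grind] at h3
  rw [show (X + X * X) * (X * X) = 1 - X by grind] at h4
  rw [map_sub, map_one] at h3 h4
  omega

theorem third (h2 : (2 : R) = 0) {X Y f : R} (hX : X ^ 3 = 1) (hY : Y ^ 3 = 1) (hf : f * f = f)
    (h0 : E Y * f = 0) {u : End (ZMod 2) M} (hu : IsUnit u) (h1 : SemiconjBy u (ι X) (ι (X * Y)))
    (h3 : Commute u (ι Y)) (h4 : Commute u (ι f)) :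
    rk (ι f) = 3 * rk (ι (E X * f)) ∧ Even (rk (ι (E X * f))) := by
  unfold E at h0
  have a1 : rk (ι (E X * f)) = rk (ι (E (X * Y) * f)) := by
    refine rk_semi hu ?_
    rw [map_mul, map_mul _ (E _), map_E, map_E]
    exact (E_semi h1).mul_right h4
  have a2 : rk (ι (E (X * Y) * f)) = rk (ι (E (X * Y * Y) * f)) := by
    refine rk_semi hu ?_
    rw [map_mul, map_mul _ (E _), map_E, map_E]
    refine (E_semi ?_).mul_right h4
    rw [map_mul, map_mul _ (X * Y)]
    exact h1.mul_right h3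
  have a3 := rk_add' ι (A := E X * f) (B := E (X * Y) * f) (by unfold E; grind) (by unfold E; grind)
    (by unfold E; grind)
  have a4 := rk_add' ι (A := E X * f + E (X * Y) * f) (B := E (X * Y * Y) * f) (by unfold E; grind)
    (by unfold E; grind) (by unfold E; grind)
  rw [show E X * f + E (X * Y) * f + E (X * Y * Y) * f = f by unfold E; grind] at a4
  refine ⟨by omega, ?_⟩
  have a5 := modEq (T := ι (1 + (1 + Y) * (E X * f))) Nat.prime_three (by norm_num)
    (by rw [← map_pow, show (1 + (1 + Y) * (E X * f)) ^ 3 = 1 by unfold E; grind, map_one])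
  rw [← map_one ι, ← map_sub,
    show 1 - (1 + (1 + Y) * (E X * f)) = (1 + Y) * (E X * f) by grind] at a5
  have a6 := rk_mul_le' (ι (1 + Y)) (ι (E X * f))
  have a7 := rk_mul_le' (ι Y) (ι ((1 + Y) * (E X * f)))
  rw [← map_mul] at a6 a7
  rw [show Y * ((1 + Y) * (E X * f)) = E X * f by unfold E; grind] at a7
  rw [le_antisymm a6 a7] at a5
  generalize rk (ι (E X * f)) = m at a5
  rcases Nat.even_or_odd' m with ⟨j, rfl | rfl⟩
  · exact even_two_mul j
  · exfalso
    have : 2 ^ (2 * j + 1) ≡ 1 ^ j * 2 [MOD 3] := by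
      rw [pow_succ, pow_mul]
      exact Nat.ModEq.mul_right _ (Nat.ModEq.pow _ (by decide))
    rw [one_pow] at this
    exact absurd (this.symm.trans a5) (by decide)

theorem key (h2 : (2 : R) = 0) {X Y Z : R} (hX : X ^ 3 = 1) (hY : Y ^ 3 = 1) (hZ : Z ^ 3 = 1)
    (c2 : rk (ι (E Y)) = rk (ι (E Z))) (c3 : rk (ι (E Y)) = rk (ι (E (Y * Z))))
    (c4 : rk (ι (E Y)) = rk (ι (E (Y * Z * Z)))) {u u' : End (ZMod 2) M} (hu : IsUnit u)
    (hu' : IsUnit u') (h1 : SemiconjBy u (ι X) (ι (X * Y))) (h1' : SemiconjBy u' (ι X) (ι (X * Z)))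
    (hy : Commute u (ι Y)) (hz : Commute u (ι Z)) (hy' : Commute u' (ι Y)) (hz' : Commute u' (ι Z)) :
    ∃ m, Even m ∧ 12 * m ≤ finrank (ZMod 2) M ∧ rk (1 - ι Y) = 9 * m ∧
      rk (1 - ι X) + 4 * m ≤ finrank (ZMod 2) M := by
  have hc : ∀ {v : End (ZMod 2) M} {A : R}, Commute v (ι Y) → Commute v (ι Z) → Commute v (ι A) →
      Commute v (ι (E A + E Y * E Z)) := fun a b c => by
    rw [map_add, map_mul, map_E, map_E, map_E]
    exact Commute.add_right (E_semi c) (Commute.mul_right (E_semi a) (E_semi b))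
  obtain ⟨t1, e1⟩ := third ι h2 hX hZ (f := E Y + E Y * E Z) (by unfold E; grind) (by unfold E; grind)
    hu' h1' hz' (hc hy' hz' hy')
  obtain ⟨t2, -⟩ := third ι h2 hX hY (f := E Z + E Y * E Z) (by unfold E; grind) (by unfold E; grind)
    hu h1 hy (hc hy hz hz)
  obtain ⟨t3, -⟩ := third ι h2 hX hY (f := E (Y * Z) + E Y * E Z) (by unfold E; grind)
    (by unfold E; grind) hu h1 hy (hc hy hz (by rw [map_mul]; exact hy.mul_right hz))
  obtain ⟨t4, -⟩ := third ι h2 hX hY (f := E (Y * Z * Z) + E Y * E Z) (by unfold E; grind)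
    (by unfold E; grind) hu h1 hy
    (hc hy hz (by rw [map_mul, map_mul]; exact (hy.mul_right hz).mul_right hz))
  have b : ∀ A : R, A ^ 3 = 1 → E A * (E Y * E Z) = E Y * E Z →
      rk (ι (E A)) = rk (ι (E A + E Y * E Z)) + rk (ι (E Y * E Z)) := fun A hA h => by
    have i1 : E A * E A = E A := by unfold E; grind
    have i2 : (E Y * E Z) * (E Y * E Z) = E Y * E Z := by unfold E; grind
    have := rk_add' ι (A := E A + E Y * E Z) (B := E Y * E Z) (by grind) i2 (by grind)
    rwa [show E A + E Y * E Z + E Y * E Z = E A by grind] at this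
  have b1 := b Y hY (by unfold E; grind)
  have b2 := b Z hZ (by unfold E; grind)
  have b3 := b (Y * Z) (by grind) (by unfold E; grind)
  have b4 := b (Y * Z * Z) (by grind) (by unfold E; grind)
  obtain ⟨f1, hf1⟩ : ∃ f, f = E Y + E Y * E Z := ⟨_, rfl⟩
  obtain ⟨f2, hf2⟩ : ∃ f, f = E Z + E Y * E Z := ⟨_, rfl⟩
  obtain ⟨f3, hf3⟩ : ∃ f, f = E (Y * Z) + E Y * E Z := ⟨_, rfl⟩
  obtain ⟨f4, hf4⟩ : ∃ f, f = E (Y * Z * Z) + E Y * E Z := ⟨_, rfl⟩
  obtain ⟨f0, hf0⟩ : ∃ f, f = E Y * E Z := ⟨_, rfl⟩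
  have i0 : f0 * f0 = f0 := by subst hf0; unfold E; grind
  have i1 : f1 * f1 = f1 := by subst hf1; unfold E; grind
  have i2 : f2 * f2 = f2 := by subst hf2; unfold E; grind
  have i3 : f3 * f3 = f3 := by subst hf3; unfold E; grind
  have i4 : f4 * f4 = f4 := by subst hf4; unfold E; grind
  have o12 : f1 * f2 = 0 := by subst hf1 hf2; unfold E; grind
  have o13 : f1 * f3 = 0 := by subst hf1 hf3; unfold E; grind
  have o14 : f1 * f4 = 0 := by subst hf1 hf4; unfold E; grind
  have o23 : f2 * f3 = 0 := by subst hf2 hf3; unfold E; grind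
  have o24 : f2 * f4 = 0 := by subst hf2 hf4; unfold E; grind
  have o34 : f3 * f4 = 0 := by subst hf3 hf4; unfold E; grind
  have hs : f1 + f2 + f3 + f4 = 1 + f0 := by subst hf0 hf1 hf2 hf3 hf4; unfold E; grind
  rw [← hf1] at t1 e1 b1
  rw [← hf2] at t2 b2
  rw [← hf3] at t3 b3
  rw [← hf4] at t4 b4
  rw [← hf0] at b1 b2 b3 b4
  have hE := rk_E ι h2 hX
  have hEY := rk_E ι h2 hY
  have iX : E X * E X = E X := by unfold E; grind
  clear hf0 hf1 hf2 hf3 hf4 b hc hY hZ hX
  have s : ∀ g : R, g * g = g → rk (ι (g * (1 + f0))) =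
      rk (ι (g * f1)) + rk (ι (g * f2)) + rk (ι (g * f3)) + rk (ι (g * f4)) := fun g hg => by
    have s1 := rk_add' ι (A := g * f1) (B := g * f2) (by grind) (by grind) (by grind)
    have s2 := rk_add' ι (A := g * f1 + g * f2) (B := g * f3) (by grind) (by grind) (by grind)
    have s3 := rk_add' ι (A := g * f1 + g * f2 + g * f3) (B := g * f4) (by grind) (by grind) (by grind)
    rw [← hs, show g * (f1 + f2 + f3 + f4) = g * f1 + g * f2 + g * f3 + g * f4 by ring, s3, s2, s1]
  have s1 := s 1 (mul_one 1)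
  simp only [one_mul] at s1
  have s2 := s (E X) iX
  have s3 := rk_mul_le (ι (E X)) (ι (1 + f0))
  rw [← map_mul] at s3
  have s4 := rk_add' ι (A := 1 + f0) (B := f0) (by grind) i0 (by grind)
  rw [show 1 + f0 + f0 = 1 by grind, map_one, rk_one] at s4
  exact ⟨_, e1, by omega, by omega, by omega⟩

end Comm

variable {G : Type*} [Group G] (φ : G →* End (ZMod 2) M)

theorem ker_le {a b g : G} (hg : g ∈ Subgroup.closure {a, b}) :
    LinearMap.ker (1 - φ a) ⊓ LinearMap.ker (1 - φ b) ≤ LinearMap.ker (1 - φ g) := by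
  intro v hv
  have : φ g v = v := by
    induction hg using Subgroup.closure_induction with
    | mem g hg =>
      rcases hg with rfl | rfl
      exacts [(sub_eq_zero.1 hv.1).symm, (sub_eq_zero.1 hv.2).symm]
    | one => simp
    | mul a b _ _ ha hb => rw [map_mul, End.mul_apply, hb, ha]
    | inv a _ ha =>
      conv_lhs => rw [← ha]
      rw [← End.mul_apply, ← map_mul, inv_mul_cancel, map_one]; rfl
  exact sub_eq_zero.2 this.symm

theorem range_le {a b g : G} (hg : g ∈ Subgroup.closure {a, b}) :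
    LinearMap.range (1 - φ g) ≤ LinearMap.range (1 - φ a) ⊔ LinearMap.range (1 - φ b) := by
  rintro _ ⟨v, rfl⟩
  show v - φ g v ∈ _
  induction hg using Subgroup.closure_induction generalizing v with
  | mem g hg =>
    rcases hg with rfl | rfl
    exacts [Submodule.mem_sup_left ⟨v, rfl⟩, Submodule.mem_sup_right ⟨v, rfl⟩]
  | one => simp
  | mul a b _ _ ha hb =>
    have := Submodule.add_mem _ (hb v) (ha (φ b v))
    rwa [sub_add_sub_cancel, ← End.mul_apply, ← map_mul] at this
  | inv a _ ha =>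
    have := Submodule.neg_mem _ (ha (φ a⁻¹ v))
    rwa [neg_sub, ← End.mul_apply, ← map_mul, mul_inv_cancel, map_one] at this

theorem d_zpow (a : G) (k : ℤ) : rk (1 - φ (a ^ k)) ≤ rk (1 - φ a) := by
  have := range_le φ (a := a) (b := a) (g := a ^ k)
    (zpow_mem (Subgroup.subset_closure (by simp)) k)
  rw [sup_idem] at this
  exact Submodule.finrank_mono this

theorem semi {p a b : G} (h : p * a * p⁻¹ = b) : SemiconjBy (φ p) (φ a) (φ b) := by
  rw [SemiconjBy, ← map_mul, ← map_mul, ← h, inv_mul_cancel_right]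

theorem unit (p : G) : IsUnit (φ p) := (Group.isUnit p).map φ

theorem d_conj {a b : G} (h : IsConj a b) : rk (1 - φ a) = rk (1 - φ b) := by
  obtain ⟨p, hp⟩ := isConj_iff.1 h
  exact rk_semi (unit φ p) ((SemiconjBy.one_right _).sub_right (semi φ hp))

theorem e_conj {a b : G} (h : IsConj a b) : rk (E (φ a)) = rk (E (φ b)) := by
  obtain ⟨p, hp⟩ := isConj_iff.1 h
  exact rk_semi (unit φ p) (E_semi (semi φ hp))

theorem scott' (a b : G) :
    finrank (ZMod 2) ↥(LinearMap.range (1 - φ a) ⊔ LinearMap.range (1 - φ b)) + finrank (ZMod 2) M ≤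
      rk (1 - φ a) + rk (1 - φ b) + rk (1 - φ (a * b)⁻¹) +
        finrank (ZMod 2) ↥(LinearMap.ker (1 - φ a) ⊓ LinearMap.ker (1 - φ b)) :=
  Spor.Scott.scott (φ a) (φ b) (φ (a * b)⁻¹) (by rw [← map_mul, ← map_mul, mul_inv_cancel, map_one])

theorem frob {s t : G} (hs : s ^ 19 = 1) (h : t * s * t⁻¹ = s ^ 7) :
    2 * rk (1 - φ s) ≤ 3 * rk (1 - φ t) := by
  have h1 := scott' φ t (s * t * s⁻¹)
  have hn : ∀ n : ℕ, t * s ^ n * t⁻¹ = s ^ (7 * n) := fun n => by rw [← conj_pow, h, pow_mul]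
  have hi : s⁻¹ = s ^ 18 := by
    rw [inv_eq_iff_mul_eq_one, ← pow_succ', hs]
  have hm : ∀ k n : ℕ, s ^ (19 * k + n) = s ^ n := fun k n => by rw [pow_add, pow_mul, hs, one_pow, one_mul]
  have h2 : s ∈ Subgroup.closure {t, s * t * s⁻¹} := by
    have e : s = ((s * t * s⁻¹) * t⁻¹) ^ 3 := by
      rw [show s * t * s⁻¹ * t⁻¹ = s * (t * s⁻¹ * t⁻¹) by group, hi, hn, ← pow_succ', ← pow_mul]
      exact ((hm 20 1).trans (pow_one s)).symm
    have := pow_mem (mul_mem (Subgroup.subset_closure (k := {t, s * t * s⁻¹}) (a := s * t * s⁻¹) (by simp))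
      (inv_mem (Subgroup.subset_closure (k := {t, s * t * s⁻¹}) (a := t) (by simp)))) 3
    rwa [← e] at this
  have h3 := Submodule.finrank_mono (ker_le φ h2)
  have h4 := Submodule.finrank_mono (range_le φ h2)
  have h5 := (1 - φ s).finrank_range_add_finrank_ker
  have h6 := d_conj φ (a := t) (b := s * t * s⁻¹) (isConj_iff.2 ⟨s, rfl⟩)
  have h7 : IsConj (t ^ (-2 : ℤ)) (t * (s * t * s⁻¹))⁻¹ := by
    refine isConj_iff.2 ⟨s ^ 8, ?_⟩
    have e1 : t * (s * t * s⁻¹) = (t * s * t⁻¹) * (t * (t * s⁻¹ * t⁻¹) * t⁻¹) * (t * t) := by group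
    have e2 : s ^ 8 * (t * t) * (s ^ 8)⁻¹ = s ^ 8 * (t * (t * s⁻¹ ^ 8 * t⁻¹) * t⁻¹) * (t * t) := by group
    have e3 : s ^ 8 * (t * t) * (s ^ 8)⁻¹ = t * (s * t * s⁻¹) := by
      rw [e1, e2, h, hi, ← pow_mul, hn, hn, hn, hn, ← pow_add, ← pow_add]
      rw [show 8 + 7 * (7 * (18 * 8)) = 19 * 371 + 15 by norm_num,
        show 7 + 7 * (7 * 18) = 19 * 46 + 15 by norm_num, hm, hm]
    rw [← e3]
    group
  have h8 := d_conj φ h7
  have h9 := d_zpow φ t (-2)
  unfold rk at *
  omega

open scoped IsMulCommutative in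
theorem main {a x z1 z2 p1 p2 t : G} (h : SC a x z1 z2 p1 p2 t) (hn : finrank (ZMod 2) M ≤ 53)
    (hi : ∀ W : Submodule (ZMod 2) M, (∀ g, ∀ v ∈ W, φ g v ∈ W) → W = ⊥ ∨ W = ⊤) (g : G) :
    φ g = 1 := by
  have hg : ∀ g : G, g ∈ Subgroup.closure {a, x} := fun g => h.gen ▸ Subgroup.mem_top g
  rcases hi (LinearMap.ker (1 - φ a) ⊓ LinearMap.ker (1 - φ x)) (fun g v hv => by
    rw [← show v = φ g v from sub_eq_zero.1 (ker_le φ (hg g) hv)]
    exact hv) with k1 | k1
  swap
  · exact LinearMap.ext fun v => (sub_eq_zero.1 (ker_le φ (hg g) (k1 ▸ Submodule.mem_top))).symm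
  rcases hi (LinearMap.range (1 - φ a) ⊔ LinearMap.range (1 - φ x)) (fun g v hv => by
    have := Submodule.sub_mem _ hv (range_le φ (hg g) ⟨v, rfl⟩)
    simpa using this) with k2 | k2
  · refine LinearMap.ext fun v => (sub_eq_zero.1 ?_).symm
    have := range_le φ (hg g) ⟨v, rfl⟩
    rwa [k2] at this
  rcases Nat.eq_zero_or_pos (finrank (ZMod 2) M) with h0 | h0
  · have := finrank_zero_iff.1 h0
    exact LinearMap.ext fun v => Subsingleton.elim _ _
  exfalso
  have s1 := scott' φ a x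
  rw [k1, k2, finrank_bot, finrank_top] at s1
  have s2 := d_zpow φ (a * x) (-1)
  rw [zpow_neg_one] at s2
  have s3 : 2 * rk (1 - φ a) ≤ finrank (ZMod 2) M := by
    have e : (1 - φ a) * (1 - φ a) = 0 := by
      have : (1 - φ a) * (1 - φ a) = 1 + φ a * φ a - 2 * φ a := by noncomm_ring
      rw [this, ← map_mul, h.a2, map_one, one_add_one_eq_two, two_eq, zero_mul, sub_zero]
    have h1 := Submodule.finrank_mono (LinearMap.range_le_ker_iff.2 e)
    have h2 := (1 - φ a).finrank_range_add_finrank_ker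
    unfold rk
    omega
  have s4 := modEq (T := φ (a * x)) (r := 19) (by norm_num) (by norm_num)
    (by rw [← map_pow, h.s19, map_one])
  have s5 := frob φ h.s19 h.ts
  have s6 := d_conj φ h.ct
  have z23 : z2 ^ 3 = 1 := by
    obtain ⟨c, hc⟩ := isConj_iff.1 h.c2
    rw [← hc, conj_pow, h.z13, mul_one, mul_inv_cancel]
  have : IsMulCommutative (Subring.closure ({φ x, φ z1, φ z2} : Set (End (ZMod 2) M))) := by
    have c1 := (h.xz1.map φ).eq
    have c2 := (h.xz2.map φ).eq
    have c3 := (h.zz.map φ).eq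
    refine Subring.isMulCommutative_closure ?_
    rintro _ (rfl | rfl | rfl) _ (rfl | rfl | rfl) <;> simp only [c1, c2, c3]
  obtain ⟨m, m1, m2, m3, m4⟩ := key (Subring.closure ({φ x, φ z1, φ z2} : Set (End (ZMod 2) M))).subtype
    (Subtype.ext two_eq) (X := ⟨φ x, Subring.subset_closure (by simp)⟩)
    (Y := ⟨φ z1, Subring.subset_closure (by simp)⟩) (Z := ⟨φ z2, Subring.subset_closure (by simp)⟩)
    (Subtype.ext (show φ x ^ 3 = 1 by rw [← map_pow, h.x3, map_one]))
    (Subtype.ext (show φ z1 ^ 3 = 1 by rw [← map_pow, h.z13, map_one]))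
    (Subtype.ext (show φ z2 ^ 3 = 1 by rw [← map_pow, z23, map_one]))
    (e_conj φ h.c2) ((e_conj φ h.c3).trans (by rw [map_mul]; rfl))
    ((e_conj φ h.c4).trans (by rw [map_mul, map_mul]; rfl)) (unit φ p1) (unit φ p2)
    (show SemiconjBy _ (φ x) (φ x * φ z1) from map_mul φ x z1 ▸ semi φ h.p1x)
    (show SemiconjBy _ (φ x) (φ x * φ z2) from map_mul φ x z2 ▸ semi φ h.p2x)
    (h.p11.map φ) (h.p12.map φ) (h.p21.map φ) (h.p22.map φ)
  change rk (1 - φ z1) = _ at m3
  change rk (1 - φ x) + _ ≤ _ at m4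
  have s7 := rk_le (1 - φ (a * x))
  obtain ⟨j, rfl⟩ := m1
  generalize rk (1 - φ (a * x)) = d at *
  have s8 : d ≤ 53 := s7.trans hn
  have s9 : d = 0 ∨ d = 18 ∨ d = 36 := by
    clear * - s4 s8
    interval_cases d <;> first | omega | exact absurd s4 (by decide)
  omega

end Sc

theorem SC.triv {G V : Type} [Group G] {a x z1 z2 p1 p2 t : G} (h : SC a x z1 z2 p1 p2 t) [CommGroup V] [Finite V]
    (ρ : G →* MulAut V) (h2 : ∀ v : V, v ^ 2 = 1) (hc : Nat.card V ≤ 2 ^ 53) (hi : Irr ρ) (g : G) : ρ g = 1 := by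
  let _ : Module (ZMod 2) (Additive V) := AddCommGroup.zmodModule fun v => h2 v.toMul
  let φ : G →* Module.End (ZMod 2) (Additive V) :=
    { toFun := fun g => AddMonoidHom.toZModLinearMap 2 (MonoidHom.toAdditive (ρ g).toMonoidHom)
      map_one' := LinearMap.ext fun v => by rw [map_one]; rfl
      map_mul' := fun a b => LinearMap.ext fun v => by rw [map_mul]; rfl }
  have hn : Module.finrank (ZMod 2) (Additive V) ≤ 53 := by
    have e : Nat.card V = Nat.card (Additive V) := rfl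
    rw [e, Module.natCard_eq_pow_finrank (K := ZMod 2), Nat.card_zmod] at hc
    exact (Nat.pow_le_pow_iff_right (by norm_num)).1 hc
  have := Sc.main φ h hn (fun W hW => by
    let U : Subgroup V :=
      { carrier := {v | Additive.ofMul v ∈ W}
        one_mem' := W.zero_mem
        mul_mem' := fun h1 h2 => W.add_mem h1 h2
        inv_mem' := fun h1 => W.neg_mem h1 }
    rcases hi U (fun g v hv => hW g _ hv) with e | e
    · refine Or.inl (eq_bot_iff.2 fun v hv => ?_)
      have : v.toMul ∈ U := hv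
      rw [e] at this
      exact this
    · refine Or.inr (eq_top_iff.2 fun v _ => ?_)
      have : v.toMul ∈ U := e ▸ Subgroup.mem_top _
      exact this) g
  exact MulEquiv.ext fun v => LinearMap.congr_fun this (Additive.ofMul v)

end Cfsg.Agent.Gr.Pa
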