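import Mathlib
import Cfsg.Agent.Gr.Pa.Jm
import Cfsg.Agent.Gr.Pa.On
import Cfsg.Agent.Gr.Pa.Scott
import Cfsg.Agent.Gr.Pa.CertJ
import Cfsg.Agent.Gr.Pa.CertO
import Cfsg.Agent.Gr.SubHe
import Cfsg.Agent.Gr.MIso
import Cfsg.Agent.S2041
import Cfsg.Agent.S2051
import Cfsg.Agent.S2052

/-! Three sporadic groups that are not sections of the Monster. -/

set_option autoImplicit false

namespace Cfsg.Agent.Gr.Pa

open Subgroup Cfsg.Agent.Gr.Rk Cfsg.Agent.Gr.Am Cfsg.Agent.Gr.M2

/-- `X` is a section of `K`. -/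
def Sec (X : Type) [Group X] : Prop :=
  ∃ (H : Type) (_ : Group H) (ι : H →* K) (π : H →* X), Function.Injective ι ∧ Cov π

theorem sec_of {X : Type} [Group X] (A : Subgroup Cfsg.Spor.Monster) (B : Subgroup A) [B.Normal]
    (e : (A ⧸ B) ≃* X) : Sec X := by
  obtain ⟨φ⟩ := isoMK
  have := finite_K
  have : Finite Cfsg.Spor.Monster := Finite.of_equiv _ φ.toEquiv.symm
  obtain ⟨H, h⟩ := exists_cov (e.toMonoidHom.comp (QuotientGroup.mk' B))
    (e.surjective.comp (QuotientGroup.mk'_surjective B))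
  exact ⟨H, inferInstance, (φ.toMonoidHom.comp A.subtype).comp H.subtype, _,
    (φ.injective.comp A.subtype_injective).comp H.subtype_injective, h⟩

namespace Top

/-- The order of `p` modulo `r` exceeds `e`. -/
def Ord (r p e : ℕ) : Prop := ∀ j ≤ e, 0 < j → ¬ r ∣ p ^ j - 1
instance (r p e : ℕ) : Decidable (Ord r p e) := by unfold Ord; infer_instance
/-- A prime of the list acts trivially on the possible modules. -/
def Kill (n : ℕ) (rs : List ℕ) (p : ℕ) : Prop := ∃ e < 21,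
  ¬ p ^ (e + 1) * n ∣ 808017424794512875886459904961710757005754368000000000 ∧ ∃ r ∈ rs, r ≠ p ∧ Ord r p e
instance (n : ℕ) (rs : List ℕ) (p : ℕ) : Decidable (Kill n rs p) := by unfold Kill; infer_instance

variable {H X : Type} [Group H] [Group X] {ι : H →* K} {π : H →* X}

theorem fin (hι : Function.Injective ι) : Finite H := have := finite_K; Finite.of_injective ι hι

theorem card_eq (h : Cov π) : Nat.card H = Nat.card π.ker * Nat.card X := by
  rw [← Subgroup.card_mul_index π.ker, Subgroup.index_ker, MonoidHom.range_eq_top.2 h.surj, card_top]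

theorem card_dvd (hι : Function.Injective ι) (h : Cov π) :
    Nat.card π.ker * Nat.card X ∣ 808017424794512875886459904961710757005754368000000000 := by
  rw [← card_eq h, ← card_K]
  exact card_dvd_of_injective ι hι

theorem odd_ker (hι : Function.Injective ι) (h : Cov π) [IsSimpleGroup X] {r : ℕ} (hr : r.Prime) (r2 : r ≠ 2)
    (hX : r ∣ Nat.card X) (H2 : Ord r 2 15)
    (n1 : ¬ Nat.card X ∣ 2 ^ 25 * 4157776806543360000) (n2 : ¬ Nat.card X ∣ 2 * 4154781481226426191177580544000000) :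
    ¬ 2 ∣ Nat.card π.ker := fun h2 => by
  have := fin hι
  have := finite_K
  have : Finite X := Finite.of_surjective π h.surj
  obtain ⟨V, ρ, ne, sq, hρ⟩ := h.two h2
  obtain ⟨m, hm⟩ := (IsPGroup.iff_card (p := 2) (G := V)).1 fun v => ⟨1, Subtype.ext (by simpa [pow_two] using sq v v.2)⟩
  have sq' : ∀ a ∈ V.map ι, a * a = 1 := by
    rintro _ ⟨v, hv, rfl⟩
    rw [← map_mul, sq v hv, map_one]
  have hle := rank_K_le (V.map ι) ⟨⟨fun a b => Subtype.ext (by
    have := sq' _ (mul_mem a.2 b.2)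
    rw [← inv_eq_iff_mul_eq_one, mul_inv_rev, inv_eq_of_mul_eq_one_right (sq' _ a.2),
      inv_eq_of_mul_eq_one_right (sq' _ b.2)] at this
    exact this.symm)⟩⟩ fun a ha => by rw [pow_two, sq' a ha]
  rw [card_map_of_injective hι, hm, Nat.pow_le_pow_iff_right (by decide)] at hle
  have tv := triv_of_simple Nat.prime_two hm hr r2 hX (fun j a b => H2 j (b.trans hle) a) ρ
  obtain ⟨⟨v, hv⟩, v1⟩ := ne_bot_iff_exists_ne_one.1 ne
  have key : ∀ g t : K, g * ι v * g⁻¹ = t → Nat.card X ∣ Nat.card (centralizer ({t} : Set K)) := fun g t e => by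
    refine ((Dvd.intro_left _ (card_eq h).symm).trans ?_)
    have inj : Function.Injective ((MulAut.conj g).toMonoidHom.comp ι) := (MulAut.conj g).injective.comp hι
    rw [← card_top, ← card_map_of_injective inj]
    refine card_dvd_of_le ?_
    rintro _ ⟨a, -, rfl⟩
    have := hρ a ⟨v, hv⟩
    rw [tv] at this
    have c : Commute a v := mul_inv_eq_iff_eq_mul.1 this.symm
    rw [mem_centralizer_singleton_iff, ← e]
    exact cj_comm.2 (c.map ι)
  rcases ZC_or_DD (x := ι v) (sq' _ ⟨v, hv, rfl⟩) (fun e => v1 (Subtype.ext (hι (e.trans (map_one ι).symm)))) with q | q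
  · obtain ⟨g, e⟩ := mem_ZC.1 q
    exact n1 (card_centralizer_zz ▸ key g _ e)
  · obtain ⟨g, e⟩ := AL.mem_DD.1 q
    exact n2 (card_centralizer_t0 ▸ key g⁻¹ _ (by rw [← e]; group))

theorem ker_dvd (hι : Function.Injective ι) (h : Cov π) [IsSimpleGroup X] {n s : ℕ} (hn : Nat.card X = n)
    (np : ¬ n.Prime) (rs : List ℕ) (hrs : ∀ r ∈ rs, r.Prime ∧ r ∣ n)
    (hodd : ∀ p < 72, p.Prime → p ≠ 2 → Kill n rs p)
    (h2 : ∀ (V : Type) [CommGroup V] [Finite V] [Nontrivial V] (ρ : X →* MulAut V), (∀ v : V, v ^ 2 = 1) →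
      Nat.card V ∣ Nat.card π.ker → Irr ρ → ∀ g, ρ g = 1)
    (hs : HasCyclicSchurMultiplier X s) : π.ker ≤ center H ∧ Nat.card π.ker ∣ s := by
  have := fin hι
  have : Finite X := Finite.of_surjective π h.surj
  have hX : commutator X = ⊤ := (Sub.perfect_of_card (hn ▸ np)).commutator_eq_top
  have cen : π.ker ≤ center H := h.central hX fun p V _ _ _ ρ hp hv hd hi => by
    by_cases p2 : p = 2
    · exact h2 V ρ (p2 ▸ hv) hd hi
    have := Fact.mk hp
    obtain ⟨m, hm⟩ := (IsPGroup.iff_card (p := p) (G := V)).1 fun v => ⟨1, by rw [pow_one, hv]⟩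
    have m0 : m ≠ 0 := fun e => by
      rw [e, pow_zero] at hm
      exact (Finite.one_lt_card (α := V)).ne' hm
    have dv : p ^ m * n ∣ 808017424794512875886459904961710757005754368000000000 :=
      (Nat.mul_dvd_mul (hm ▸ hd) (hn ▸ dvd_rfl)).trans (card_dvd hι h)
    have p71 : p ≤ 71 := hp.dvd_factorial.1
      ((((dvd_pow_self p m0).mul_right n).trans dv).trans (by decide +kernel))
    obtain ⟨e, -, ne, r, hr, rp, hj⟩ := hodd p (by omega) hp p2
    have me : m ≤ e := by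
      by_contra q
      exact ne ((Nat.mul_dvd_mul_right (pow_dvd_pow p (by omega)) n).trans dv)
    exact triv_of_simple hp hm (hrs r hr).1 rp (hn ▸ (hrs r hr).2) (fun j a b => hj j (b.trans me) a) ρ
  obtain ⟨φ, hφ⟩ := hs.2 H π ⟨h.surj, cen, by rw [h.perfect hX]; exact le_top⟩
  refine ⟨cen, ?_⟩
  have := card_dvd_of_surjective φ hφ
  rwa [Nat.card_congr Multiplicative.toAdd, Nat.card_zmod] at this

theorem two_of_odd (h : ¬ 2 ∣ Nat.card π.ker) (V : Type) [CommGroup V] [Finite V] [Nontrivial V]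
    (ρ : X →* MulAut V) (hv : ∀ v : V, v ^ 2 = 1) (hd : Nat.card V ∣ Nat.card π.ker) (_ : Irr ρ) (g : X) : ρ g = 1 := by
  obtain ⟨v, v1⟩ := exists_ne (1 : V)
  exact (h ((orderOf_eq_prime (hv v) v1 ▸ orderOf_dvd_natCard v).trans hd)).elim

end Top

theorem not_sec_ru : ¬ Sec Cfsg.Spor.Ru := fun ⟨H, _, ι, π, hι, h⟩ => by
  have := Spor.MRu.simple
  have odd := Top.odd_ker hι h (r := 29) (by norm_num) (by decide) (by rw [Spor.MRu.card]; decide) (by decide +kernel)
    (by rw [Spor.MRu.card]; decide +kernel) (by rw [Spor.MRu.card]; decide +kernel)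
  obtain ⟨cen, dv⟩ := Top.ker_dvd hι h Spor.MRu.card (by norm_num) [29, 13] (by norm_num) (by decide +kernel)
    (Top.two_of_odd odd) S2051.result
  obtain ⟨w, k, w', g, c⟩ := ru_rc
  obtain ⟨w, k, w', g, c⟩ := c.lift ⟨h.surj, cen, by
    rw [((Nat.dvd_prime Nat.prime_two).1 dv).resolve_right fun e => odd (e ▸ dvd_rfl)]; exact one_dvd _⟩
  exact (c.map ι hι).false

theorem not_sec_on : ¬ Sec Cfsg.Spor.ON := fun ⟨H, _, ι, π, hι, h⟩ => by
  have := Spor.MON.simple
  have odd := Top.odd_ker hι h (r := 19) (by norm_num) (by decide) (by rw [Spor.MON.card]; decide) (by decide +kernel)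
    (by rw [Spor.MON.card]; decide +kernel) (by rw [Spor.MON.card]; decide +kernel)
  obtain ⟨cen, dv⟩ := Top.ker_dvd hι h Spor.MON.card (by norm_num) [19, 31] (by norm_num) (by decide +kernel)
    (Top.two_of_odd odd) S2052.result
  obtain ⟨z, k, y, p1, p2, r1, r2, e, c⟩ := on_oc
  obtain ⟨z, k, y, b, e, R, z2, far, y7, y1, zy, com, b3, bR, yb, be, Rz, card, nz, ce, cze, ze⟩ :=
    c.lift ⟨h.surj, cen, dv⟩ ι hι
  have hz := zc_of_far z2 far
  obtain ⟨g, hg⟩ := mem_ZC.1 hz
  let φ : K →* K := (MulAut.conj g).toMonoidHom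
  have inj : Function.Injective φ := (MulAut.conj g).injective
  have φz : φ z = zz := hg
  have le : (centralizer ({y} : Set K)).map φ ≤ centralizer {φ y} := by
    rintro _ ⟨a, ha, rfl⟩
    rw [mem_centralizer_singleton_iff, ← map_mul, mem_centralizer_singleton_iff.1 ha, map_mul]
  refine OK.false (y := φ y) (b := φ b) (e := φ e) (R := R.map φ) ⟨by rw [← map_pow, y7, map_one],
    fun q => y1 (inj (q.trans (map_one φ).symm)), φz ▸ zy.map φ, ?_, by rw [← map_pow, b3, map_one],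
    mem_map_of_mem φ bR, yb.map φ, be.map φ, ?_, ?_, ?_, ?_, ?_, φz ▸ ze.map φ⟩
  · exact commutator_mono le le (map_commutator _ _ φ ▸ mem_map_of_mem φ com)
  · rintro _ ⟨a, ha, rfl⟩
    exact φz ▸ (Rz a ha).map φ
  · rw [card_map_of_injective inj, orderOf_injective φ inj, card]
  · rintro _ ⟨a, ha, rfl⟩ q
    exact φz ▸ Lift.nz' (nz a ha fun u => q (by rw [← MonoidHom.map_zpowers]; exact mem_map_of_mem φ u))
  · exact (conj_mem_ZC g).2 (IsConj.trans hz ce)
  · rw [← φz, ← map_mul]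
    exact (conj_mem_ZC g).2 (IsConj.trans hz cze)

theorem not_sec_j3 (F : Type) [Field F] [Fintype F] (hF : Fintype.card F = 4) (ω : F) (hω : ω ^ 2 + ω + 1 = 0) :
    ¬ Sec (Cfsg.Spor.J3 F ω) := fun ⟨H, _, ι, π, hι, h⟩ => by
  have := Fact.mk hF
  have := Fact.mk hω
  have := Spor.MJ3.simple_J3 F ω
  obtain ⟨cen, dv⟩ := Top.ker_dvd hι h (Spor.MJ3.card_J3 F ω) (by norm_num) [19, 17] (by norm_num) (by decide +kernel)
    (fun V _ _ _ ρ hv hd hi => by
      obtain ⟨a, x, z1, z2, p1, p2, t, c⟩ := j3_sc F ω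
      obtain ⟨m, hm⟩ := (IsPGroup.iff_card (p := 2) (G := V)).1 fun v => ⟨1, hv v⟩
      refine c.triv ρ hv ?_ hi
      rw [hm, Nat.pow_le_pow_iff_right (by decide)]
      by_contra q
      exact absurd ((((pow_dvd_pow 2 (by omega : 54 ≤ m)).trans (hm ▸ hd)).mul_right _).trans (Top.card_dvd hι h))
        (by decide +kernel)) (S2041.result hF ω hω)
  obtain ⟨z, f1, f2, g, k, v, v', σ, c, hx⟩ := j3_jc F ω
  obtain ⟨z, f1, f2, g, k, v, v', σ, c⟩ := c.lift ⟨h.surj, cen, dv⟩ hx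
  exact (c.map ι hι).false

theorem Sec.card_dvd {X : Type} [Group X] (h : Sec X) :
    Nat.card X ∣ 808017424794512875886459904961710757005754368000000000 :=
  let ⟨_, _, _, _, hι, h⟩ := h
  (Dvd.intro_left _ rfl).trans (Top.card_dvd hι h)

end Cfsg.Agent.Gr.Pa
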